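import Groth.Agent.RelTilde.QCoh
import Groth.Agent.InvGen.Basic

/-!
The twisting sheaves `GrTwist.twist 𝒜 n = GrMod.tilde 𝒜 𝒜 n`: local generators.
-/

set_option autoImplicit false
set_option backward.isDefEq.respectTransparency false

universe u

open CategoryTheory DirectSum TopologicalSpace AlgebraicGeometry Opposite
open Groth.Agent.QC (res resO)

noncomputable section

namespace Groth.Agent.RelTilde

variable {A σ : Type u} [CommRing A] [SetLike σ A] [AddSubgroupClass σ A] (𝒜 : ℕ → σ)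
  [GradedRing 𝒜]


variable {N : ℤ} {i j : ℕ} {p q : A} (hp : p ∈ 𝒜 i) (hq : q ∈ 𝒜 j) (hij : (i : ℤ) = j + N)
  {U : (Proj 𝒜).Opens} (hU : U ≤ Proj.basicOpen 𝒜 p) (hU' : U ≤ Proj.basicOpen 𝒜 q)

include hp hq hij in
/-- The section `p / q` of `O(N)`. -/
def twistGen (hU' : U ≤ Proj.basicOpen 𝒜 q) : Γ(GrMod.tilde 𝒜 𝒜 N, U) :=
  fracSect 𝒜 𝒜 N hp hq hij U fun y => (ProjectiveSpectrum.mem_basicOpen 𝒜 q y.1).mp (hU' y.2)

include hU in
/-- `p / q` generates where neither vanishes. -/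
lemma twistGen_bijective (V : (Proj 𝒜).Opens) (hV : V ≤ U) :
    Function.Bijective fun c : Γ(Proj 𝒜, V) =>
      c • res (GrMod.tilde 𝒜 𝒜 N) hV (twistGen 𝒜 hp hq hij hU') := by
  have hy : ∀ y : V, p ∉ y.1.asHomogeneousIdeal ∧ q ∉ y.1.asHomogeneousIdeal := fun y =>
    ⟨(ProjectiveSpectrum.mem_basicOpen 𝒜 p y.1).mp (hU (hV y.2)),
      (ProjectiveSpectrum.mem_basicOpen 𝒜 q y.1).mp (hU' (hV y.2))⟩
  constructor
  · intro c c' h
    refine show (c : GrTwist.O (𝒜 := 𝒜) (op V)) = c' from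
      Subtype.ext (funext fun y => HomogeneousLocalization.val_injective _ ?_)
    have h1 : ((c : GrTwist.O (𝒜 := 𝒜) (op V)).1 y).val * Localization.mk p ⟨q, (hy y).2⟩ =
        ((c' : GrTwist.O (𝒜 := 𝒜) (op V)).1 y).val * Localization.mk p ⟨q, (hy y).2⟩ :=
      congrArg (fun s => pt 𝒜 𝒜 s y) h
    refine (IsUnit.mul_left_inj ?_).mp h1
    refine IsUnit.of_mul_eq_one (Localization.mk q ⟨p, (hy y).1⟩) ?_
    rw [Localization.mk_mul, ← Localization.mk_one, Localization.mk_eq_mk_iff,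
      Localization.r_iff_exists]
    exact ⟨1, by simp only [Submonoid.coe_mul, OneMemClass.coe_one, one_mul, mul_one]; ring⟩
  · intro s
    have key : ∀ (y : V) (k l : ℕ) (a g : A), a ∈ 𝒜 k → g ∈ 𝒜 l → (k : ℤ) = l + N →
        g ∉ y.1.asHomogeneousIdeal →
        ∃ c : GrTwist.A0 𝒜 y.1, ∀ hgp : g * p ∉ y.1.asHomogeneousIdeal,
          c.val = Localization.mk (a * q) ⟨g * p, hgp⟩ := fun y k l a g ha hg hk hgy => by
      have e : l + i = k + j := by omega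
      exact ⟨HomogeneousLocalization.mk ⟨k + j, ⟨a * q, SetLike.mul_mem_graded ha hq⟩,
        ⟨g * p, e ▸ SetLike.mul_mem_graded hg hp⟩, not_mem_mul 𝒜 hgy (hy y).1⟩, fun _ => rfl⟩
    have hex : ∀ y : V, ∃ c : GrTwist.A0 𝒜 y.1,
        c.val * Localization.mk p ⟨q, (hy y).2⟩ = pt 𝒜 𝒜 s y := fun y => by
      obtain ⟨k, l, a, g, hg, ha, hgl, hk, e⟩ := exists_frac_at 𝒜 𝒜 N y.1
        ((s : GrMod.sect 𝒜 𝒜 N (op V)).1 y).2
      obtain ⟨c, hc⟩ := key y k l a g ha hgl hk hg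
      refine ⟨c, ?_⟩
      rw [hc (not_mem_mul 𝒜 hg (hy y).1), Localization.mk_mul]
      refine Eq.trans ?_ e.symm
      exact fr_congr 𝒜 y.1 _ _ (by simp only [Submonoid.coe_mul, smul_eq_mul]; ring)
    choose c hc using hex
    have hloc : (ProjectiveSpectrum.StructureSheaf.isLocallyFraction 𝒜).pred
        (U := V) c := fun y => by
      obtain ⟨e, k, g, a, -, hg, ha, hk, hgy, hgU, hval⟩ :=
        exists_frac_nhd 𝒜 𝒜 (U := op V) (s : GrMod.sect 𝒜 𝒜 N (op V)) y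
      have hdeg : e + i = k + j := by omega
      refine ⟨ProjectiveSpectrum.basicOpen 𝒜 g, (ProjectiveSpectrum.mem_basicOpen 𝒜 g y.1).mpr hgy,
        homOfLE hgU, k + j, ⟨a * q, SetLike.mul_mem_graded ha hq⟩,
        ⟨g * p, hdeg ▸ SetLike.mul_mem_graded hg hp⟩, fun z => ?_, fun z => ?_⟩
      · exact not_mem_mul 𝒜 ((ProjectiveSpectrum.mem_basicOpen 𝒜 g z.1).mp z.2)
          (hy ⟨z.1, hgU z.2⟩).1
      · refine HomogeneousLocalization.val_injective _ ?_
        let z' : V := ⟨z.1, hgU z.2⟩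
        have hgz := (ProjectiveSpectrum.mem_basicOpen 𝒜 g z.1).mp z.2
        have hs' : pt 𝒜 𝒜 s z' = Localization.mk a ⟨g, hgz⟩ := hval z' hgz
        have hu : IsUnit (Localization.mk p ⟨q, (hy z').2⟩ : GrTwist.Loc 𝒜 z.1) := by
          refine IsUnit.of_mul_eq_one (Localization.mk q ⟨p, (hy z').1⟩) ?_
          rw [Localization.mk_mul, ← Localization.mk_one, Localization.mk_eq_mk_iff,
            Localization.r_iff_exists]
          exact ⟨1, by simp only [Submonoid.coe_mul, OneMemClass.coe_one, one_mul, mul_one]; ring⟩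
        refine hu.mul_left_inj.mp ?_
        refine ((hc z').trans hs').trans ?_
        change _ = Localization.mk (a * q) ⟨g * p, not_mem_mul 𝒜 hgz (hy z').1⟩ *
          Localization.mk p ⟨q, (hy z').2⟩
        rw [Localization.mk_mul, Localization.mk_eq_mk_iff, Localization.r_iff_exists]
        exact ⟨1, by simp only [Submonoid.coe_mul, OneMemClass.coe_one, one_mul]; ring⟩
    exact ⟨(⟨c, hloc⟩ : GrTwist.O (𝒜 := 𝒜) (op V)), pt_ext 𝒜 𝒜 fun y => hc y⟩

omit hp hq hij hU hU'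

/-- Near a point off which `f` (degree `d`) does not vanish, `O(n d)` has a generator. -/
lemma exists_twistGen {d : ℕ} {f : A} (hf : f ∈ 𝒜 d) (n : ℤ) :
    ∃ e : Γ(GrMod.tilde 𝒜 𝒜 (n * d), Proj.basicOpen 𝒜 f),
      ∀ (V : (Proj 𝒜).Opens) (hV : V ≤ Proj.basicOpen 𝒜 f),
        Function.Bijective fun c : Γ(Proj 𝒜, V) =>
          c • res (GrMod.tilde 𝒜 𝒜 (n * d)) hV e := by
  have hle : ∀ k : ℕ, Proj.basicOpen 𝒜 f ≤ Proj.basicOpen 𝒜 (f ^ k) := fun k y hy =>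
    (ProjectiveSpectrum.mem_basicOpen 𝒜 _ y).mpr
      (not_mem_pow 𝒜 ((ProjectiveSpectrum.mem_basicOpen 𝒜 f y).mp hy) k)
  have hp : f ^ n.toNat ∈ 𝒜 (n.toNat • d) := SetLike.pow_mem_graded _ hf
  have hq : f ^ (-n).toNat ∈ 𝒜 ((-n).toNat • d) := SetLike.pow_mem_graded _ hf
  have hij : ((n.toNat • d : ℕ) : ℤ) = ((-n).toNat • d : ℕ) + n * d := by
    simp only [smul_eq_mul, Nat.cast_mul]
    conv_lhs => rw [show (n.toNat : ℤ) = (-n).toNat + n by omega]
    ring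
  exact ⟨_, twistGen_bijective 𝒜 hp hq hij (hle _) (hle _)⟩

end Groth.Agent.RelTilde
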