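import Groth.Agent.RelTilde.Cast
import Groth.Agent.RelTilde.Twist
import Groth.Agent.TMul.GenLocus
import Groth.Agent.RelProjLib.Chart

/-!
Local structure of the modules attached to systems: restriction along the charts, generators of the
twisting sheaves.
-/

set_option autoImplicit false
set_option backward.isDefEq.respectTransparency false

universe u

open CategoryTheory CategoryTheory.Limits DirectSum TopologicalSpace AlgebraicGeometry Opposite
open scoped HomogeneousIdeal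
open Groth.Agent.QC (res resO)

noncomputable section

namespace Groth.Agent.RelTilde

section General

variable {X Y : Scheme.{u}} (j : Y ⟶ X) [IsOpenImmersion j] {L : X.Modules} {N : Y.Modules}

/-- A map to a direct image along an open immersion that is bijective on sections inside the image
identifies the restriction. -/
lemma nonempty_restrict_iso (φ : L ⟶ (Scheme.Modules.pushforward j).obj N)
    (h : ∀ W : X.Opens, W ≤ j.opensRange → Function.Bijective (φ.app W)) :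
    Nonempty (L.restrict j ≅ N) := by
  haveI : IsIso ((Scheme.Modules.restrictFunctor j).map φ) := by
    rw [Scheme.Modules.Hom.isIso_iff_isIso_app]
    intro V
    rw [ConcreteCategory.isIso_iff_bijective]
    exact h (j ''ᵁ V) (j.image_le_opensRange V)
  exact ⟨asIso ((Scheme.Modules.restrictFunctor j).map φ) ≪≫
    (asIso (Scheme.Modules.restrictAdjunction j).counit).app N⟩

lemma bijective_app_of_le {W : X.Opens} (hW : W ≤ j.opensRange) :
    Function.Bijective (j.app W).hom := by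
  have : IsIso (j.app W) := j.isIso_app W hW
  exact ConcreteCategory.bijective_of_isIso (j.app W)

/-- A generator transports along such a map. -/
lemma exists_isGen (φ : L ⟶ (Scheme.Modules.pushforward j).obj N)
    (h : ∀ W : X.Opens, W ≤ j.opensRange → Function.Bijective (φ.app W))
    {O : Y.Opens} (e₀ : Γ(N, O)) (he₀ : ∀ (V : Y.Opens) (hV : V ≤ O),
      Function.Bijective fun c : Γ(Y, V) => c • res N hV e₀) :
    ∃ e : Γ(L, j ''ᵁ O), ∀ (V : X.Opens) (hV : V ≤ j ''ᵁ O),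
      Function.Bijective fun c : Γ(X, V) => c • res L hV e := by
  obtain ⟨e, he⟩ := (h (j ''ᵁ O) (j.image_le_opensRange O)).2
    (res N (j.preimage_image_eq O).le e₀)
  refine ⟨e, fun V hV => ?_⟩
  have hV' : V ≤ j.opensRange := hV.trans (j.image_le_opensRange O)
  have hVO : j ⁻¹ᵁ V ≤ O := (j.preimage_mono hV).trans (j.preimage_image_eq O).le
  have key : ∀ c : Γ(X, V), φ.app V (c • res L hV e) = (j.app V).hom c • res N hVO e₀ := fun c => by
    refine (φ.app_smul c _).trans ?_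
    have h1 : φ.app V (res L hV e) = res N hVO e₀ := by
      rw [← QC.app_res φ, he]
      exact QC.res_res N (j.preimage_mono hV) (j.preimage_image_eq O).le e₀
    rw [h1]
    rfl
  refine (h V hV').of_comp_iff' _ |>.mp ?_
  rw [show (φ.app V ∘ fun c : Γ(X, V) => c • res L hV e) =
    (fun c : Γ(Y, j ⁻¹ᵁ V) => c • res N hVO e₀) ∘ (j.app V).hom from funext key]
  exact (he₀ _ hVO).comp (bijective_app_of_le j hV')

omit [IsOpenImmersion j] in
/-- Being a generator is local. -/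
lemma isGen_of_cover {U : X.Opens} (e : Γ(L, U)) {ι : Type u} (O : ι → X.Opens)
    (hU : U ≤ ⨆ i, O i)
    (h : ∀ (i : ι) (V : X.Opens) (hV : V ≤ U), V ≤ O i →
      Function.Bijective fun c : Γ(X, V) => c • res L hV e)
    (V : X.Opens) (hV : V ≤ U) : Function.Bijective fun c : Γ(X, V) => c • res L hV e := by
  have hcov : V ≤ ⨆ i, V ⊓ O i := fun x hx => by
    obtain ⟨i, hi⟩ := Opens.mem_iSup.mp (hU (hV hx))
    exact Opens.mem_iSup.mpr ⟨i, hx, hi⟩
  have hloc : ∀ (i : ι) (c : Γ(X, V)), res L (inf_le_left : V ⊓ O i ≤ V) (c • res L hV e) =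
      resO X (inf_le_left : V ⊓ O i ≤ V) c • res L (inf_le_left.trans hV) e := fun i c => by
    rw [QC.res_smul, QC.res_res]
  constructor
  · intro c c' hc
    refine TopCat.Sheaf.eq_of_locally_eq' X.sheaf (fun i => V ⊓ O i) V
      (fun i => homOfLE inf_le_left) hcov c c' fun i => ?_
    refine (h i _ (inf_le_left.trans hV) inf_le_right).1 ?_
    exact (hloc i c).symm.trans ((congrArg (res L inf_le_left) hc).trans (hloc i c'))
  · intro t
    choose c hc using fun i => (h i (V ⊓ O i) (inf_le_left.trans hV) inf_le_right).2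
      (res L inf_le_left t)
    obtain ⟨c₀, hc₀, -⟩ := TopCat.Sheaf.existsUnique_gluing' X.sheaf (fun i => V ⊓ O i) V
      (fun i => homOfLE inf_le_left) hcov c (fun i i' => by
        refine (h i (V ⊓ O i ⊓ (V ⊓ O i')) ((inf_le_left.trans inf_le_left).trans hV)
          (inf_le_left.trans inf_le_right)).1 ?_
        change resO X (inf_le_left : V ⊓ O i ⊓ (V ⊓ O i') ≤ V ⊓ O i) (c i) • res L _ e =
          resO X (inf_le_right : V ⊓ O i ⊓ (V ⊓ O i') ≤ V ⊓ O i') (c i') • res L _ e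
        have h1 := congrArg (res L (inf_le_left : V ⊓ O i ⊓ (V ⊓ O i') ≤ V ⊓ O i)) (hc i)
        have h2 := congrArg (res L (inf_le_right : V ⊓ O i ⊓ (V ⊓ O i') ≤ V ⊓ O i')) (hc i')
        simp only [QC.res_smul, QC.res_res] at h1 h2
        exact h1.trans h2.symm)
    refine ⟨c₀, QC.section_eq_of_locally fun x hx => ?_⟩
    obtain ⟨i, hi⟩ := Opens.mem_iSup.mp (hcov hx)
    refine ⟨V ⊓ O i, inf_le_left, hi, (hloc i c₀).trans ?_⟩
    rw [show resO X (inf_le_left : V ⊓ O i ≤ V) c₀ = c i from hc₀ i]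
    exact hc i

end General

section Rel

variable {S P : Scheme.{u}} {𝒮 : RelProj.QCGrAlg S} {D : Datum 𝒮} {q : P ⟶ S}
  {ch : ∀ (U : S.Opens) (hU : IsAffineOpen U), ((q ⁻¹ᵁ U : P.Opens) : Scheme.{u}) ≅ Proj (𝒮.deg U hU)}
  {n : ℤ} {F : P.Modules} {lam : ∀ (U : S.Opens) (hU : IsAffineOpen U), F ⟶ D.E q ch n U hU}
  (hF : D.IsTilde q ch n F lam)

include hF

lemma Datum.IsTilde.bijective' (U : S.Opens) (hU : IsAffineOpen U) (W : P.Opens)
    (hW : W ≤ (RelProj.emb q ch U hU).opensRange) : Function.Bijective ((lam U hU).app W) :=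
  hF.bijective U hU W
    (hW.trans (RelProjLib.opensRange_emb (𝒮 := 𝒮) (q := q) (ch := ch) U hU).le)

lemma Datum.IsTilde.isQCoh : Coh.IsQCoh F := by
  refine QC.isQCoh_of_local fun x => ?_
  obtain ⟨U, hU, y, hy⟩ := exists_affine_point (𝒮 := 𝒮) (q := q) (ch := ch) x
  obtain ⟨e⟩ := nonempty_restrict_iso (RelProj.emb q ch U hU) (lam U hU) (hF.bijective' U hU)
  exact ⟨_, RelProj.emb q ch U hU, inferInstance, ⟨y, hy⟩,
    QC.isQCoh_of_iso e.symm (isQCoh_tilde (𝒮.deg U hU) (D.deg U hU) n)⟩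

end Rel

section Twist

variable {A σ : Type u} [CommRing A] [SetLike σ A] [AddSubgroupClass σ A] (𝒜 : ℕ → σ) [GradedRing 𝒜]

/-- Generation in degree one: every point has an element of degree one outside it. -/
lemma exists_deg_one_not_mem (hgen : Subring.closure ((𝒜 0 : Set A) ∪ (𝒜 1 : Set A)) = ⊤)
    (x : ProjectiveSpectrum 𝒜) : ∃ g ∈ 𝒜 1, g ∉ x.asHomogeneousIdeal := by
  classical
  by_contra hc
  push Not at hc
  let π := Ideal.Quotient.mk x.asHomogeneousIdeal.toIdeal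
  have hT : Subring.closure ((𝒜 0 : Set A) ∪ (𝒜 1 : Set A)) ≤
      RingHom.eqLocus π (π.comp (GradedRing.projZeroRingHom 𝒜)) := Subring.closure_le.mpr <| by
    rintro a (ha | ha)
    · change π a = π (decompose 𝒜 a 0 : A)
      rw [decompose_of_mem_same 𝒜 ha]
    · change π a = π (decompose 𝒜 a 0 : A)
      rw [decompose_of_mem_ne 𝒜 ha (by omega), map_zero]
      exact Ideal.Quotient.eq_zero_iff_mem.mpr (hc a ha)
  obtain ⟨d, f, hd, hf, hfx⟩ := exists_pos_homog 𝒜 x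
  have h1 : π f = π (decompose 𝒜 f 0 : A) := hT (hgen ▸ Subring.mem_top f)
  rw [decompose_of_mem_ne 𝒜 hf (by omega), map_zero] at h1
  exact hfx (Ideal.Quotient.eq_zero_iff_mem.mp h1)

end Twist

section RelTwist

variable {S P : Scheme.{u}} {𝒮 : RelProj.QCGrAlg S} {q : P ⟶ S}
  {ch : ∀ (U : S.Opens) (hU : IsAffineOpen U), ((q ⁻¹ᵁ U : P.Opens) : Scheme.{u}) ≅ Proj (𝒮.deg U hU)}
  {n : ℤ} {L : P.Modules}
  {lam : ∀ (U : S.Opens) (hU : IsAffineOpen U), L ⟶ (Datum.self 𝒮).E q ch n U hU}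
  (hL : (Datum.self 𝒮).IsTilde q ch n L lam)

include hL

/-- `O(n)` has a generator near the image of `D₊(f)`, for `deg f ∣ n`. -/
lemma exists_gen_basicOpen {U : S.Opens} (hU : IsAffineOpen U) {d : ℕ}
    {f : 𝒮.presheaf.obj (op U)} (hf : f ∈ 𝒮.deg U hU d) (hdn : (d : ℤ) ∣ n) :
    ∃ e : Γ(L, RelProj.emb q ch U hU ''ᵁ Proj.basicOpen (𝒮.deg U hU) f),
      ∀ (V : P.Opens) (hV : V ≤ RelProj.emb q ch U hU ''ᵁ Proj.basicOpen (𝒮.deg U hU) f),
        Function.Bijective fun c : Γ(P, V) => c • res L hV e := by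
  obtain ⟨m, rfl⟩ := hdn
  have h : ((d : ℤ) * m) = m * d := mul_comm _ _
  obtain ⟨e₀, he₀⟩ : ∃ e₀ : Γ((Datum.self 𝒮).til ((d : ℤ) * m) U hU, Proj.basicOpen (𝒮.deg U hU) f),
      ∀ (V : (Proj (𝒮.deg U hU)).Opens) (hV : V ≤ Proj.basicOpen (𝒮.deg U hU) f),
        Function.Bijective fun c : Γ(Proj (𝒮.deg U hU), V) =>
          c • res ((Datum.self 𝒮).til ((d : ℤ) * m) U hU) hV e₀ := by
    rw [h]
    exact exists_twistGen (𝒮.deg U hU) hf m
  exact exists_isGen (RelProj.emb q ch U hU) (lam U hU) (hL.bijective' U hU) e₀ he₀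

lemma isInvertible_of_isGenDegOne (hgen : 𝒮.IsGenDegOne) : PicF.IsInvertible L := by
  refine InvGen.isInvertible fun x => ?_
  obtain ⟨U, hU, y, hy⟩ := exists_affine_point (𝒮 := 𝒮) (q := q) (ch := ch) x
  obtain ⟨g, hg, hgy⟩ := exists_deg_one_not_mem (𝒮.deg U hU) (hgen U hU) y
  obtain ⟨e, he⟩ := exists_gen_basicOpen hL hU hg (by simp)
  exact ⟨_, e, ⟨y, (ProjectiveSpectrum.mem_basicOpen _ _ _).mpr hgy, hy⟩, he⟩

variable (hP : RelProj.IsRelProj 𝒮 q ch) {d : ℕ} {f : 𝒮.presheaf.obj (op ⊤)}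
  (hf : ∀ (U : S.Opens) (hU : IsAffineOpen U), (𝒮.presheaf.map (homOfLE le_top).op).hom f ∈ 𝒮.deg U hU d)
  {Xf : P.Opens}
  (hXf : ∀ (U : S.Opens) (hU : IsAffineOpen U),
    Xf ⊓ q ⁻¹ᵁ U = (q ⁻¹ᵁ U).ι ''ᵁ ((ch U hU).hom ⁻¹ᵁ
      Proj.basicOpen (𝒮.deg U hU) ((𝒮.presheaf.map (homOfLE le_top).op).hom f)))
  {m : ℤ} (hn : n = m * d)

include hf hXf hn hP

omit hL hn hP hf in
lemma preimage_emb_Xf (U : S.Opens) (hU : IsAffineOpen U) :
    RelProj.emb q ch U hU ⁻¹ᵁ Xf =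
      Proj.basicOpen (𝒮.deg U hU) ((𝒮.presheaf.map (homOfLE le_top).op).hom f) := by
  have h1 : RelProj.emb q ch U hU ⁻¹ᵁ q ⁻¹ᵁ U = ⊤ := top_le_iff.mp fun y _ =>
    mem_preimage_emb (q := q) (ch := ch) U hU y
  have h2 := congrArg (RelProj.emb q ch U hU ⁻¹ᵁ ·) (hXf U hU)
  simp only [Scheme.Hom.preimage_inf, h1, inf_top_eq] at h2
  rw [h2]
  refine (congrArg (RelProj.emb q ch U hU ⁻¹ᵁ ·) (RelProjLib.chart_image U hU _)).trans ?_
  exact Scheme.Hom.preimage_image_eq _ _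

/-- The global generator `f ^ m` of `O(m d)` on `X_f`. -/
lemma exists_gen_Xf : ∃ e : Γ(L, Xf),
    ∀ (V : P.Opens) (hV : V ≤ Xf), Function.Bijective fun c : Γ(P, V) => c • res L hV e := by
  subst hn
  let fU : ∀ U : S.Opens, 𝒮.presheaf.obj (op U) := fun U => (𝒮.presheaf.map (homOfLE le_top).op).hom f
  have hy : ∀ (U : S.Opens) (hU : IsAffineOpen U) (k : ℕ)
      (y : RelProj.emb q ch U hU ⁻¹ᵁ Xf), fU U ^ k ∉ y.1.asHomogeneousIdeal := fun U hU k y =>
    not_mem_pow (𝒮.deg U hU) ((ProjectiveSpectrum.mem_basicOpen _ _ _).mp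
      ((preimage_emb_Xf hXf U hU).le y.2)) k
  have hdeg : ((m.toNat • d : ℕ) : ℤ) = ((-m).toNat • d : ℕ) + m * d := by
    simp only [smul_eq_mul, Nat.cast_mul]
    conv_lhs => rw [show (m.toNat : ℤ) = (-m).toNat + m by omega]
    ring
  let t : (Datum.self 𝒮).Fam q ch (m * d) Xf := fun U hU =>
    fracSect (𝒮.deg U hU) (𝒮.deg U hU) (m * d) (SetLike.pow_mem_graded m.toNat (hf U hU))
      (SetLike.pow_mem_graded (-m).toNat (hf U hU)) hdeg _ (hy U hU (-m).toNat)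
  have ht : (Datum.self 𝒮).Compat q ch (m * d) t := fun U hU r y hy1 hy2 => by
    have hres : ∀ k : ℕ, 𝒮.res hU (hU.basicOpen r) (S.basicOpen_le r) (fU U ^ k) =
        fU (S.basicOpen r) ^ k := fun k => by
      rw [map_pow]
      congr 1
      exact congr($(𝒮.presheaf.map_comp (homOfLE le_top).op (homOfLE (S.basicOpen_le r)).op) f).symm
    have hk := hy U hU (-m).toNat ⟨_, hy2⟩
    change fr (𝒮.deg _ (hU.basicOpen r)) y (fU (S.basicOpen r) ^ m.toNat)
        (fU (S.basicOpen r) ^ (-m).toNat) (hy _ (hU.basicOpen r) _ ⟨y, hy1⟩) =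
      GrMod.locModMap _ _ _ y (LocalizedModule.mk (fU U ^ m.toNat) ⟨fU U ^ (-m).toNat, hk⟩)
    rw [GrMod.locModMap_mk]
    exact congrArg₂ LocalizedModule.mk (hres _).symm (Subtype.ext (hres _).symm)
  obtain ⟨e, he, -⟩ := hL.existsUnique_section hP t ht
  refine ⟨e, isGen_of_cover e (fun U : S.affineOpens => q ⁻¹ᵁ U.1) (fun x _ => ?_) fun U V hV hVU => ?_⟩
  · obtain ⟨U, hU, hxU, -⟩ := exists_isAffineOpen_mem_and_subset (x := q.base x) (U := ⊤) trivial
    exact Opens.mem_iSup.mpr ⟨⟨U, hU⟩, hxU⟩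
  · have hV' : V ≤ (RelProj.emb q ch U.1 U.2).opensRange :=
      hVU.trans (RelProjLib.opensRange_emb (𝒮 := 𝒮) (q := q) (ch := ch) U.1 U.2).ge
    refine (hL.bijective' U.1 U.2 V hV').of_comp_iff' _ |>.mp ?_
    have hW : RelProj.emb q ch U.1 U.2 ⁻¹ᵁ Xf ≤ Proj.basicOpen (𝒮.deg U.1 U.2) (fU U.1) :=
      (preimage_emb_Xf hXf U.1 U.2).le
    have hpow : ∀ k : ℕ, RelProj.emb q ch U.1 U.2 ⁻¹ᵁ Xf ≤
        Proj.basicOpen (𝒮.deg U.1 U.2) (fU U.1 ^ k) := fun k y hy0 =>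
      (ProjectiveSpectrum.mem_basicOpen _ _ _).mpr (hy U.1 U.2 k ⟨y, hy0⟩)
    have key : ((lam U.1 U.2).app V ∘ fun c : Γ(P, V) => c • res L hV e) =
        (fun c : Γ(Proj (𝒮.deg U.1 U.2), RelProj.emb q ch U.1 U.2 ⁻¹ᵁ V) =>
          c • res ((Datum.self 𝒮).til (m * d) U.1 U.2) ((RelProj.emb q ch U.1 U.2).preimage_mono hV)
            (t U.1 U.2)) ∘ ((RelProj.emb q ch U.1 U.2).app V).hom := by
      funext c
      refine ((lam U.1 U.2).app_smul c _).trans ?_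
      rw [← QC.app_res (lam U.1 U.2) hV e, he]
      rfl
    rw [key]
    exact (twistGen_bijective (𝒮.deg U.1 U.2) (SetLike.pow_mem_graded m.toNat (hf U.1 U.2))
      (SetLike.pow_mem_graded (-m).toNat (hf U.1 U.2)) hdeg (hpow _) (hpow _) _
      ((RelProj.emb q ch U.1 U.2).preimage_mono hV)).comp (bijective_app_of_le _ hV')

end RelTwist


section GenLocus

variable {S P : Scheme.{u}} {𝒮 : RelProj.QCGrAlg S} {q : P ⟶ S}
  {ch : ∀ (U : S.Opens) (hU : IsAffineOpen U), ((q ⁻¹ᵁ U : P.Opens) : Scheme.{u}) ≅ Proj (𝒮.deg U hU)}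

set_option maxHeartbeats 1600000 in
/-- `X_f` is the locus where the section `f / 1` of `O(d)` generates. -/
theorem eq_genLocus {d : ℕ} {L : P.Modules}
    {lam : ∀ (U : S.Opens) (hU : IsAffineOpen U), L ⟶ (Datum.self 𝒮).E q ch (d : ℤ) U hU}
    (hL : (Datum.self 𝒮).IsTilde q ch (d : ℤ) L lam) (hgen : 𝒮.IsGenDegOne)
    {f : 𝒮.presheaf.obj (op ⊤)}
    (hf : ∀ (U : S.Opens) (hU : IsAffineOpen U),
      (𝒮.presheaf.map (homOfLE le_top).op).hom f ∈ 𝒮.deg U hU d)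
    {Xf : P.Opens}
    (hXf : ∀ (U : S.Opens) (hU : IsAffineOpen U),
      Xf ⊓ q ⁻¹ᵁ U = (q ⁻¹ᵁ U).ι ''ᵁ ((ch U hU).hom ⁻¹ᵁ
        Proj.basicOpen (𝒮.deg U hU) ((𝒮.presheaf.map (homOfLE le_top).op).hom f)))
    (s : Coh.structureModule P ⟶ L)
    (hs : ∀ (U : S.Opens) (hU : IsAffineOpen U) (y : ProjectiveSpectrum (𝒮.deg U hU)),
      GrMod.val (V := RelProj.emb q ch U hU ⁻¹ᵁ ⊤) ((lam U hU).app ⊤ (TMul.val s ⊤)) ⟨y, Set.mem_univ _⟩ =
        fr (𝒮.deg U hU) y ((𝒮.presheaf.map (homOfLE le_top).op).hom f) 1 (GrMod.one_nin y)) :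
    Xf = CohB1.genLocus L s := by
  have h := hL
  let fU : ∀ U : S.Opens, 𝒮.presheaf.obj (op U) := fun U => (𝒮.presheaf.map (homOfLE le_top).op).hom f
  have hval : ∀ (W : P.Opens) (U : S.Opens) (hU : IsAffineOpen U) (y : ProjectiveSpectrum (𝒮.deg U hU))
      (hy : (RelProj.emb q ch U hU).base y ∈ W),
      GrMod.val (V := RelProj.emb q ch U hU ⁻¹ᵁ W) ((lam U hU).app W (TMul.val s W)) ⟨y, hy⟩ =
        fr (𝒮.deg U hU) y (fU U) 1 (GrMod.one_nin y) := fun W U hU y hy => by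
    rw [← TMul.res_val s (le_top : W ≤ ⊤)]
    refine (Datum.IsTilde.app_res (D := Datum.self 𝒮) (lam := lam) le_top
      (TMul.val s ⊤) U hU y hy).trans ?_
    exact hs U hU y
  refine le_antisymm (TMul.le_genLocus s ?_) fun x hx => ?_
  · intro V hV
    refine isGen_of_cover _ (fun U : S.affineOpens => q ⁻¹ᵁ U.1) (fun x _ => ?_)
      (fun U V hV hVU => ?_) V hV
    · obtain ⟨U, hU, hxU, -⟩ := exists_isAffineOpen_mem_and_subset (x := q.base x) (U := ⊤) trivial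
      exact Opens.mem_iSup.mpr ⟨⟨U, hU⟩, hxU⟩
    · have hV' : V ≤ (RelProj.emb q ch U.1 U.2).opensRange :=
        hVU.trans (RelProjLib.opensRange_emb (𝒮 := 𝒮) (q := q) (ch := ch) U.1 U.2).ge
      refine (h.bijective' U.1 U.2 V hV').of_comp_iff' _ |>.mp ?_
      have hVf : RelProj.emb q ch U.1 U.2 ⁻¹ᵁ V ≤ Proj.basicOpen (𝒮.deg U.1 U.2) (fU U.1) :=
        ((RelProj.emb q ch U.1 U.2).preimage_mono hV).trans
          (preimage_emb_Xf hXf U.1 U.2).le
      have h1 : RelProj.emb q ch U.1 U.2 ⁻¹ᵁ V ≤ Proj.basicOpen (𝒮.deg U.1 U.2) 1 := fun y _ =>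
        (ProjectiveSpectrum.mem_basicOpen _ _ _).mpr (GrMod.one_nin y)
      have hdeg : ((d : ℕ) : ℤ) = ((0 : ℕ) : ℤ) + (d : ℤ) := by simp
      have key : ((lam U.1 U.2).app V ∘ fun c : Γ(P, V) => c • QC.res L hV (TMul.val s Xf)) =
          (fun c : Γ(Proj (𝒮.deg U.1 U.2), RelProj.emb q ch U.1 U.2 ⁻¹ᵁ V) =>
            c • QC.res ((Datum.self 𝒮).til (d : ℤ) U.1 U.2) le_rfl
              (twistGen (𝒮.deg U.1 U.2) (hf U.1 U.2) SetLike.GradedOne.one_mem hdeg h1)) ∘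
            ((RelProj.emb q ch U.1 U.2).app V).hom := by
        funext c
        refine ((lam U.1 U.2).app_smul c _).trans ?_
        rw [TMul.res_val]
        refine congrArg (fun z : Γ((Datum.self 𝒮).til (d : ℤ) U.1 U.2, RelProj.emb q ch U.1 U.2 ⁻¹ᵁ V) =>
          ((RelProj.emb q ch U.1 U.2).app V).hom c • z) ?_
        exact til_ext fun y => hval V U.1 U.2 y.1 y.2
      rw [key]
      exact (twistGen_bijective (𝒮.deg U.1 U.2) (hf U.1 U.2) SetLike.GradedOne.one_mem hdeg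
        hVf h1 _ le_rfl).comp (bijective_app_of_le _ hV')
  · obtain ⟨O, hxO, hO⟩ := (TMul.mem_genLocus_iff s).mp hx
    obtain ⟨U, hU, y, hy⟩ := exists_affine_point (𝒮 := 𝒮) (q := q) (ch := ch) x
    subst hy
    have hyU := mem_preimage_emb (q := q) (ch := ch) U hU y
    suffices hfy : fU U ∉ y.asHomogeneousIdeal by
      have h2 : y ∈ RelProj.emb q ch U hU ⁻¹ᵁ Xf :=
        (preimage_emb_Xf hXf U hU).ge ((ProjectiveSpectrum.mem_basicOpen _ _ _).mpr hfy)
      exact h2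
    intro hfy
    obtain ⟨g, hg, hgy⟩ := exists_deg_one_not_mem (𝒮.deg U hU) (hgen U hU) y
    let V : P.Opens := RelProj.emb q ch U hU ''ᵁ
      (RelProj.emb q ch U hU ⁻¹ᵁ O ⊓ Proj.basicOpen (𝒮.deg U hU) g)
    have hVO : V ≤ O := by rintro _ ⟨w, hw, rfl⟩; exact hw.1
    have hVU : V ≤ q ⁻¹ᵁ U := by
      rintro _ ⟨w, hw, rfl⟩; exact mem_preimage_emb (q := q) (ch := ch) U hU w
    have hyV : (RelProj.emb q ch U hU).base y ∈ V :=
      ⟨y, ⟨hxO, (ProjectiveSpectrum.mem_basicOpen _ _ _).mpr hgy⟩, rfl⟩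
    have hgV : ∀ w : RelProj.emb q ch U hU ⁻¹ᵁ V, (1 : 𝒮.presheaf.obj (op U)) ∉ w.1.asHomogeneousIdeal :=
      fun w => GrMod.one_nin w.1
    have hgd : g ^ d ∈ 𝒮.deg U hU d := by simpa using SetLike.pow_mem_graded d hg
    obtain ⟨t, ht⟩ := (h.bijective U hU V hVU).2 (fracSect (𝒮.deg U hU) (𝒮.deg U hU) (d : ℤ)
      hgd SetLike.GradedOne.one_mem (by simp) (RelProj.emb q ch U hU ⁻¹ᵁ V) hgV)
    obtain ⟨c, hc⟩ := (hO V hVO).2 t
    simp only [TMul.res_val] at hc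
    have hcv : (((lam U hU).app V (c • TMul.val s V) :
        GrMod.sect (𝒮.deg U hU) (𝒮.deg U hU) (d : ℤ) _).1 ⟨y, hyV⟩).1 =
        fr (𝒮.deg U hU) y (g ^ d) 1 (GrMod.one_nin y) := by
      have e1 := (congrArg ((lam U hU).app V) hc).trans ht
      exact congrArg (fun z : GrMod.sect (𝒮.deg U hU) (𝒮.deg U hU) (d : ℤ)
        (op (RelProj.emb q ch U hU ⁻¹ᵁ V)) => (z.1 ⟨y, hyV⟩).1) e1
    let r := ((show GrTwist.O (𝒜 := 𝒮.deg U hU) (op (RelProj.emb q ch U hU ⁻¹ᵁ V)) from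
      ((RelProj.emb q ch U hU).app V).hom c).1 ⟨y, hyV⟩)
    have hr : r.val • fr (𝒮.deg U hU) y (fU U) 1 (GrMod.one_nin y) =
        fr (𝒮.deg U hU) y (g ^ d) 1 (GrMod.one_nin y) := by
      rw [← hcv, ← hval V U hU y hyV]
      refine ((GrMod.coe_smul_val (d : ℤ) y r _).symm.trans ?_)
      exact congrArg (fun z : GrMod.sect (𝒮.deg U hU) (𝒮.deg U hU) (d : ℤ)
        (op (RelProj.emb q ch U hU ⁻¹ᵁ V)) => (z.1 ⟨y, hyV⟩).1) ((lam U hU).app_smul c _).symm
    obtain ⟨⟨k, ⟨a, ha⟩, ⟨b, hb⟩, hby⟩, hr'⟩ := HomogeneousLocalization.mk_surjective r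
    rw [← hr', HomogeneousLocalization.val_mk, LocalizedModule.mk_smul_mk, LocalizedModule.mk_eq] at hr
    obtain ⟨⟨w, hw⟩, he⟩ := hr
    simp only [Submonoid.smul_def, Submonoid.coe_mul, smul_eq_mul, one_smul, mul_one, one_mul] at he
    refine not_mem_mul (𝒮.deg U hU) hw (not_mem_mul (𝒮.deg U hU) hby
      (not_mem_pow (𝒮.deg U hU) hgy d)) ?_
    rw [← he, show (w * (a * fU U)) = (w * a) * fU U by ring]
    exact y.asHomogeneousIdeal.toIdeal.mul_mem_left _ hfy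

end GenLocus

end Groth.Agent.RelTilde
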