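import Groth.Agent.RelTilde.TensorRing
import Groth.Agent.RelTilde.Local

/-!
`M(a)~ ⊗ O(b) ⟶ M(a + b)~` on a relative Proj.
-/

set_option autoImplicit false
set_option backward.isDefEq.respectTransparency false

universe u

open CategoryTheory CategoryTheory.Limits DirectSum TopologicalSpace AlgebraicGeometry Opposite
open scoped HomogeneousIdeal
open Groth.Agent.QC (res resO app_res)

noncomputable section

namespace Groth.Agent.RelTilde

section General

variable {X : Scheme.{u}} {M N : X.Modules}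

/-- A morphism bijective on the small opens around each point of `Y` is an isomorphism there. -/
lemma isIso_restrict_map_of_bijective {Y : Scheme.{u}} (j : Y ⟶ X) [IsOpenImmersion j] (φ : M ⟶ N)
    (h : ∀ y : Y, ∃ U : X.Opens, j y ∈ U ∧ ∀ V ≤ U, Function.Bijective (φ.app V)) :
    IsIso ((Scheme.Modules.restrictFunctor j).map φ) := by
  rw [Scheme.Modules.Hom.isIso_iff_isIso_app]
  intro W
  rw [ConcreteCategory.isIso_iff_bijective]
  change Function.Bijective (φ.app (j ''ᵁ W))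
  choose U hU hbij using h
  let O : W → X.Opens := fun y => j ''ᵁ W ⊓ U y.1
  have hcov : j ''ᵁ W ≤ ⨆ y, O y := by
    rintro _ ⟨y, hy, rfl⟩
    exact Opens.mem_iSup.mpr ⟨⟨y, hy⟩, ⟨y, hy, rfl⟩, hU y⟩
  refine ⟨(injective_iff_map_eq_zero _).mpr fun s hs => QC.section_eq_of_locally fun x hx => ?_,
    fun t => ?_⟩
  · obtain ⟨y, hy⟩ := Opens.mem_iSup.mp (hcov hx)
    refine ⟨O y, inf_le_left, hy, (hbij y.1 _ inf_le_right).1 ?_⟩
    rw [← app_res, hs, map_zero, map_zero, map_zero]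
  · choose s hs using fun y => (hbij y.1 (O y) inf_le_right).2 (res N inf_le_left t)
    obtain ⟨a, ha, -⟩ := TopCat.Sheaf.existsUnique_gluing' (QC.abSheaf M) O (j ''ᵁ W)
      (fun y => homOfLE inf_le_left) hcov s (fun y y' => by
        refine (hbij y.1 (O y ⊓ O y') (inf_le_left.trans inf_le_right)).1 ?_
        change φ.app _ (res M (inf_le_left : O y ⊓ O y' ≤ O y) (s y)) =
          φ.app _ (res M (inf_le_right : O y ⊓ O y' ≤ O y') (s y'))
        rw [← app_res, ← app_res, hs, hs, QC.res_res, QC.res_res])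
    refine ⟨a, QC.section_eq_of_locally fun x hx => ?_⟩
    obtain ⟨y, hy⟩ := Opens.mem_iSup.mp (hcov hx)
    refine ⟨O y, inf_le_left, hy, ?_⟩
    rw [app_res, show res M (inf_le_left : O y ≤ j ''ᵁ W) a = s y from ha y]
    exact hs y

lemma isIso_of_bijective_near (φ : M ⟶ N)
    (h : ∀ x : X, ∃ U : X.Opens, x ∈ U ∧ ∀ V ≤ U, Function.Bijective (φ.app V)) : IsIso φ := by
  haveI := isIso_restrict_map_of_bijective (𝟙 X) φ h
  rw [Scheme.Modules.Hom.isIso_iff_isIso_app]
  intro W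
  have h1 := ConcreteCategory.bijective_of_isIso (((Scheme.Modules.restrictFunctor (𝟙 X)).map φ).app W)
  rw [ConcreteCategory.isIso_iff_bijective]
  have h2 : Function.Bijective (φ.app ((𝟙 X : X ⟶ X) ''ᵁ W)) := h1
  rwa [show (𝟙 X : X ⟶ X) ''ᵁ W = W by ext; simp] at h2

end General

section RelTensor

variable {S P : Scheme.{u}} {𝒮 : RelProj.QCGrAlg S} {D : Datum 𝒮} {q : P ⟶ S}
  {ch : ∀ (U : S.Opens) (hU : IsAffineOpen U), ((q ⁻¹ᵁ U : P.Opens) : Scheme.{u}) ≅ Proj (𝒮.deg U hU)}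
  (hP : RelProj.IsRelProj 𝒮 q ch) {a b c : ℤ} (hc : a + b = c)
  {F L G : P.Modules} {lam : ∀ (U : S.Opens) (hU : IsAffineOpen U), F ⟶ D.E q ch a U hU}
  {lamL : ∀ (U : S.Opens) (hU : IsAffineOpen U), L ⟶ (Datum.self 𝒮).E q ch b U hU}
  {lamG : ∀ (U : S.Opens) (hU : IsAffineOpen U), G ⟶ D.E q ch c U hU}
  (hF : D.IsTilde q ch a F lam) (hL : (Datum.self 𝒮).IsTilde q ch b L lamL)
  (hG : D.IsTilde q ch c G lamG)

/-- The product of the readings of two sections. -/
def mulFam (lam : ∀ (U : S.Opens) (hU : IsAffineOpen U), F ⟶ D.E q ch a U hU)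
    (lamL : ∀ (U : S.Opens) (hU : IsAffineOpen U), L ⟶ (Datum.self 𝒮).E q ch b U hU)
    {W : P.Opens} (s : Γ(F, W)) (r : Γ(L, W)) : D.Fam q ch c W := fun U hU =>
  mulSect (D.deg U hU) hc ((lam U hU).app W s) ((lamL U hU).app W r)

include hF hL in
lemma compat_mulFam {W : P.Opens} (s : Γ(F, W)) (r : Γ(L, W)) :
    D.Compat q ch c (mulFam hc lam lamL s r) := by
  intro U hU e y hy hy'
  refine Eq.trans ?_ (congrArg _ (pt_mulSect (D.deg U hU) hc _ _ ⟨_, hy'⟩).symm)
  rw [GrMod.locModMap_smul]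
  refine (pt_mulSect (D.deg _ (hU.basicOpen e)) hc _ _ ⟨y, hy⟩).trans ?_
  refine congrArg₂ (fun (x : GrTwist.Loc (𝒮.deg _ (hU.basicOpen e)) y) z => x • z) ?_
    (hF.compat W s U hU e y hy hy')
  exact (hL.compat W r U hU e y hy hy').trans (locModMap_self 𝒮 hU (hU.basicOpen e) _ _ y _)

set_option synthInstance.maxHeartbeats 200000 in
set_option maxHeartbeats 2000000 in
include hP hF hL hG in
/-- The multiplication `M(a)~ ⊗ O(b) ⟶ M(c)~`. -/
theorem exists_tensorHom :
    ∃ φ : CohB1.tensorMod F L ⟶ G, ∀ (W : P.Opens) (s : Γ(F, W)) (r : Γ(L, W))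
      (U : S.Opens) (hU : IsAffineOpen U),
      (lamG U hU).app W (φ.app W (TMul.tm s r)) =
        mulSect (D.deg U hU) hc ((lam U hU).app W s) ((lamL U hU).app W r) := by
  choose m hm hmu using fun (W : P.Opens) (s : Γ(F, W)) (r : Γ(L, W)) =>
    hG.existsUnique_section hP _ (compat_mulFam hc hF hL s r)
  let bil (W : P.Opens) : Γ(F, W) →ₗ[Γ(P, W)] Γ(L, W) →ₗ[Γ(P, W)] Γ(G, W) :=
    LinearMap.mk₂ _ (m W)
      (fun s s' r => hG.section_ext hP fun U hU => by
        rw [hm, map_add, hm, hm]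
        change mulSect _ hc ((lam U hU).app W (s + s')) _ = _
        rw [map_add]
        exact congrFun (congrArg DFunLike.coe ((mulBil (𝒜 := 𝒮.deg U hU) (D.deg U hU) hc (RelProj.emb q ch U hU ⁻¹ᵁ W)).map_add _ _)) _)
      (fun k s r => hG.section_ext hP fun U hU => by
        rw [hm]
        refine Eq.trans ?_ ((lamG U hU).app_smul k _).symm
        rw [hm]
        change mulSect _ hc ((lam U hU).app W (k • s)) _ = _
        rw [Scheme.Modules.Hom.app_smul]
        exact congrFun (congrArg DFunLike.coe ((mulBil (𝒜 := 𝒮.deg U hU) (D.deg U hU) hc (RelProj.emb q ch U hU ⁻¹ᵁ W)).map_smul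
          ((RelProj.emb q ch U hU).app W k) ((lam U hU).app W s))) _)
      (fun s r r' => hG.section_ext hP fun U hU => by
        rw [hm, map_add, hm, hm]
        change mulSect _ hc _ ((lamL U hU).app W (r + r')) = _
        rw [map_add]
        exact ((mulBil (𝒜 := 𝒮.deg U hU) (D.deg U hU) hc (RelProj.emb q ch U hU ⁻¹ᵁ W)) _).map_add _ _)
      (fun k s r => hG.section_ext hP fun U hU => by
        rw [hm]
        refine Eq.trans ?_ ((lamG U hU).app_smul k _).symm
        rw [hm]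
        change mulSect _ hc _ ((lamL U hU).app W (k • r)) = _
        rw [Scheme.Modules.Hom.app_smul]
        exact ((mulBil (𝒜 := 𝒮.deg U hU) (D.deg U hU) hc (RelProj.emb q ch U hU ⁻¹ᵁ W)) _).map_smul ((RelProj.emb q ch U hU).app W k) _)
  have hbil : ∀ {V W : P.Opens} (h : V ≤ W) (s : Γ(F, W)) (r : Γ(L, W)),
      bil V (res F h s) (res L h r) = res G h (bil W s r) := fun {V W} h s r =>
    hG.section_ext hP fun U hU => til_ext fun y => by
      change GrMod.val ((lamG U hU).app V (m V (res F h s) (res L h r))) y =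
        GrMod.val ((lamG U hU).app V (res G h (m W s r))) y
      rw [hm V _ _ U hU, ← app_res (lamG U hU), hm W s r U hU]
      change GrMod.val (mulSect _ hc ((lam U hU).app V (res F h s)) ((lamL U hU).app V (res L h r))) y = _
      rw [← app_res (lam U hU), ← app_res (lamL U hU)]
      rfl
  refine ⟨TMul.lift bil fun {V W} h s r => (hbil h s r).symm, fun W s r U hU => ?_⟩
  rw [TMul.lift_tm]
  exact hm W s r U hU

include hF hG in
/-- Multiplication is bijective below a generator `p / q` of `O(b)` on a chart. -/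
lemma exists_bijective_tensorHom (φ : CohB1.tensorMod F L ⟶ G)
    (hφ : ∀ (W : P.Opens) (s : Γ(F, W)) (r : Γ(L, W)) (U : S.Opens) (hU : IsAffineOpen U),
      (lamG U hU).app W (φ.app W (TMul.tm s r)) =
        mulSect (D.deg U hU) hc ((lam U hU).app W s) ((lamL U hU).app W r))
    (hL : (Datum.self 𝒮).IsTilde q ch b L lamL) {U : S.Opens} (hU : IsAffineOpen U) {i j : ℕ}
    {p r : 𝒮.presheaf.obj (op U)} (hp : p ∈ 𝒮.deg U hU i) (hr : r ∈ 𝒮.deg U hU j)
    (hij : (i : ℤ) = j + b) (x : P) {y : ProjectiveSpectrum (𝒮.deg U hU)}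
    (hy : (RelProj.emb q ch U hU).base y = x) (hpy : p ∉ y.asHomogeneousIdeal)
    (hry : r ∉ y.asHomogeneousIdeal) :
    ∃ O : P.Opens, x ∈ O ∧ ∀ V ≤ O, Function.Bijective (φ.app V) := by
  let N : (Proj (𝒮.deg U hU)).Opens :=
    Proj.basicOpen (𝒮.deg U hU) p ⊓ Proj.basicOpen (𝒮.deg U hU) r
  have hNp : N ≤ Proj.basicOpen (𝒮.deg U hU) p := inf_le_left
  have hNr : N ≤ Proj.basicOpen (𝒮.deg U hU) r := inf_le_right
  let O : P.Opens := RelProj.emb q ch U hU ''ᵁ N
  have hOU : O ≤ (RelProj.emb q ch U hU).opensRange := (RelProj.emb q ch U hU).image_le_opensRange N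
  obtain ⟨e, he⟩ := (hL.bijective' U hU O hOU).2 (res ((Datum.self 𝒮).til b U hU)
    ((RelProj.emb q ch U hU).preimage_image_eq N).le
    (twistGen (𝒮.deg U hU) hp hr hij hNr))
  have hgen : TMul.IsGen e := fun V hV => by
    have hV' : V ≤ (RelProj.emb q ch U hU).opensRange := hV.trans hOU
    refine (hL.bijective' U hU V hV').of_comp_iff' _ |>.mp ?_
    have hVN : RelProj.emb q ch U hU ⁻¹ᵁ V ≤ N :=
      ((RelProj.emb q ch U hU).preimage_mono hV).trans
        ((RelProj.emb q ch U hU).preimage_image_eq N).le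
    have key : ((lamL U hU).app V ∘ fun k : Γ(P, V) => k • res L hV e) =
        (fun k : Γ(Proj (𝒮.deg U hU), RelProj.emb q ch U hU ⁻¹ᵁ V) =>
          k • res ((Datum.self 𝒮).til b U hU) hVN (twistGen (𝒮.deg U hU) hp hr hij hNr)) ∘
          ((RelProj.emb q ch U hU).app V).hom := by
      funext k
      refine ((lamL U hU).app_smul k _).trans ?_
      rw [← app_res (lamL U hU) hV e, he]
      rfl
    rw [key]
    exact (twistGen_bijective (𝒮.deg U hU) hp hr hij hNp hNr _ hVN).comp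
      (bijective_app_of_le _ hV')
  refine ⟨O, hy ▸ ⟨y, ⟨(ProjectiveSpectrum.mem_basicOpen _ _ _).mpr hpy,
    (ProjectiveSpectrum.mem_basicOpen _ _ _).mpr hry⟩, rfl⟩, fun V hV => ?_⟩
  have hV' : V ≤ (RelProj.emb q ch U hU).opensRange := hV.trans hOU
  have hVN : RelProj.emb q ch U hU ⁻¹ᵁ V ≤ N :=
    ((RelProj.emb q ch U hU).preimage_mono hV).trans
      ((RelProj.emb q ch U hU).preimage_image_eq N).le
  refine (Function.Bijective.of_comp_iff _ (TMul.tm_bijective (M := F) hgen V hV)).mp ?_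
  refine (hG.bijective' U hU V hV').of_comp_iff' _ |>.mp ?_
  have key : ((lamG U hU).app V ∘ (φ.app V ∘ fun s : Γ(F, V) => TMul.tm s (res L hV e))) =
      (fun s : Γ(D.til a U hU, RelProj.emb q ch U hU ⁻¹ᵁ V) => mulSect (D.deg U hU) hc s
        (res ((Datum.self 𝒮).til b U hU) hVN (twistGen (𝒮.deg U hU) hp hr hij hNr))) ∘
        (lam U hU).app V := by
    funext s
    refine (hφ V s _ U hU).trans ?_
    rw [← app_res (lamL U hU) hV e, he]
    rfl
  rw [key]
  exact (mulSect_twistGen_bijective (D.deg U hU) hc hp hr hij hNp hNr _ hVN).comp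
    (hF.bijective' U hU V hV')

include hP hF hL hG hc in
/-- `M(a)~ ⊗ O(b) ≅ M(c)~` for an algebra generated in degree one. -/
theorem nonempty_tensor_iso (hgen : 𝒮.IsGenDegOne) : Nonempty (CohB1.tensorMod F L ≅ G) := by
  obtain ⟨φ, hφ⟩ := exists_tensorHom hP hc hF hL hG
  haveI : IsIso φ := by
    refine isIso_of_bijective_near φ fun x => ?_
    obtain ⟨U, hU, y, hy⟩ := exists_affine_point (𝒮 := 𝒮) (q := q) (ch := ch) x
    obtain ⟨g, hg, hgy⟩ := exists_deg_one_not_mem (𝒮.deg U hU) (hgen U hU) y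
    exact exists_bijective_tensorHom hc hF hG φ hφ hL hU (SetLike.pow_mem_graded b.toNat hg)
      (SetLike.pow_mem_graded (-b).toNat hg) (by simp only [smul_eq_mul, mul_one]; omega) x hy
      (not_mem_pow _ hgy _) (not_mem_pow _ hgy _)
  exact ⟨asIso φ⟩

end RelTensor

/-- `O(0)` is the structure module. -/
theorem nonempty_twistZero_iso {S P : Scheme.{u}} {𝒮 : RelProj.QCGrAlg S} {q : P ⟶ S}
    {ch : ∀ (U : S.Opens) (hU : IsAffineOpen U), ((q ⁻¹ᵁ U : P.Opens) : Scheme.{u}) ≅ Proj (𝒮.deg U hU)}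
    (hP : RelProj.IsRelProj 𝒮 q ch) {L : P.Modules}
    {lam : ∀ (U : S.Opens) (hU : IsAffineOpen U), L ⟶ (Datum.self 𝒮).E q ch 0 U hU}
    (hL : (Datum.self 𝒮).IsTilde q ch 0 L lam) : Nonempty (L ≅ Coh.structureModule P) := by
  obtain ⟨e, he⟩ := exists_gen_Xf hL hP (d := 0) (f := 1) (Xf := ⊤) (m := 0)
    (fun U hU => by rw [map_one]; exact SetLike.one_mem_graded _)
    (fun U hU => by
      rw [top_inf_eq, map_one, Proj.basicOpen_one, Scheme.Hom.preimage_top,
        Scheme.Hom.image_top_eq_opensRange, Scheme.Opens.opensRange_ι])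
    (by simp)
  obtain ⟨i⟩ := InvGen.nonempty_iso (𝟙 P) L le_top e he
  exact ⟨((Scheme.Modules.restrictFunctorId (X := P)).app _).symm ≪≫ i⟩

end Groth.Agent.RelTilde
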