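import Groth.Agent.QC.Pullback
import Groth.Agent.QC.OmegaAffineSect
import Groth.Agent.TMul.Basic

/-!
When the adjunct `g^* L ⟶ L'` of a map `L ⟶ g_* L'` is an isomorphism: base change of sections over
affine opens.
-/

set_option autoImplicit false
set_option backward.isDefEq.respectTransparency false

universe u

open CategoryTheory CategoryTheory.Limits AlgebraicGeometry TopologicalSpace Opposite
open Groth.Agent.QC (res resO res_res res_self app_res secEquiv secEquiv_smul)

noncomputable section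

namespace Groth.Agent.RelTilde

lemma isIso_of_bijective_top {R : CommRingCat.{u}} {M N : (Spec R).Modules} [M.IsQuasicoherent]
    [N.IsQuasicoherent] (φ : M ⟶ N) (h : Function.Bijective (φ.app ⊤)) : IsIso φ := by
  haveI : IsIso ((moduleSpecΓFunctor (R := R)).map φ) :=
    (ConcreteCategory.isIso_iff_bijective _).mpr h
  have hM : IsIso M.fromTildeΓ := Scheme.Modules.isIso_fromTildeΓ_of_isQuasicoherent (R := R) M
  have hN : IsIso N.fromTildeΓ := Scheme.Modules.isIso_fromTildeΓ_of_isQuasicoherent (R := R) N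
  have e : (tilde.functor R).map ((moduleSpecΓFunctor (R := R)).map φ) ≫ N.fromTildeΓ =
      M.fromTildeΓ ≫ φ := (Scheme.Modules.fromTildeΓNatTrans (R := R)).naturality φ
  rw [← (IsIso.inv_comp_eq M.fromTildeΓ).mpr e]
  infer_instance

variable {X Y : Scheme.{u}} (g : X ⟶ Y) {L : Y.Modules} {L' : X.Modules}
  (θ : L ⟶ (Scheme.Modules.pushforward g).obj L')

/-- Sections over `U` carried to sections of `L'` over `V`. -/
def resθ {U : Y.Opens} {V : X.Opens} (h : V ≤ g ⁻¹ᵁ U) : Γ(L, U) →ₛₗ[(g.appLE U V h).hom] Γ(L', V) where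
  toFun m := res L' h (θ.app U m)
  map_add' a b := by rw [map_add, map_add]
  map_smul' r m := by
    rw [Scheme.Modules.Hom.app_smul]
    exact QC.res_smul L' h _ _

/-- `θ` is a base change of sections over `(U, V)`. -/
def IsBC {U : Y.Opens} {V : X.Opens} (h : V ≤ g ⁻¹ᵁ U) : Prop :=
  ∀ (Q : Type u) [AddCommGroup Q] [Module Γ(X, V) Q] (w : Γ(L, U) →ₛₗ[(g.appLE U V h).hom] Q),
    ∃! f : Γ(L', V) →ₗ[Γ(X, V)] Q, ∀ m, f (resθ g θ h m) = w m

set_option maxHeartbeats 1600000 in
set_option synthInstance.maxHeartbeats 200000 in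
lemma isIso_restrict_adjunct (hL : Coh.IsQCoh L) (hL' : Coh.IsQCoh L') {U : Y.Opens}
    (hU : IsAffineOpen U) {V : X.Opens} (hV : IsAffineOpen V) (h : V ≤ g ⁻¹ᵁ U)
    (hbc : IsBC g θ h) :
    IsIso ((Scheme.Modules.restrictFunctor hV.fromSpec).map
      (((Scheme.Modules.pullbackPushforwardAdjunction g).homEquiv L L').symm θ)) := by
  haveI : L.IsQuasicoherent := hL
  haveI : L'.IsQuasicoherent := hL'
  haveI : (L.restrict hU.fromSpec).IsQuasicoherent := QC.isQCoh_restrict _ hL
  let ν := ((Scheme.Modules.pullbackPushforwardAdjunction g).homEquiv L L').symm θ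
  have hν : ∀ (W : Y.Opens) (m : Γ(L, W)),
      ν.app (g ⁻¹ᵁ W) (OmegaSh.pullSect g L W m) = θ.app W m := fun W m => by
    have h1 : ((Scheme.Modules.pullbackPushforwardAdjunction g).unit.app L ≫
        (Scheme.Modules.pushforward g).map ν) = θ :=
      ((Scheme.Modules.pullbackPushforwardAdjunction g).homEquiv_unit L L' ν).symm.trans
        (Equiv.apply_symm_apply _ θ)
    exact congr(($h1).app W m)
  let φ := g.appLE U V h
  let G : ModuleCat Γ(Y, U) := (modulesSpecToSheaf.obj (L.restrict hU.fromSpec)).presheaf.obj (op ⊤)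
  let Ω : ModuleCat Γ(X, V) := (ModuleCat.extendScalars.{u, u, u} φ.hom).obj G
  let e : L.restrict hU.fromSpec ⟶ tilde G := (QC.isoTildeΓ (L.restrict hU.fromSpec)).inv
  have hΔ : hV.fromSpec ≫ g = Spec.map φ ≫ hU.fromSpec :=
    (IsAffineOpen.SpecMap_appLE_fromSpec g hU hV h).symm
  let E : (Scheme.Modules.pullback hV.fromSpec).obj ((Scheme.Modules.pullback g).obj L) ⟶ tilde Ω :=
    QC.sqMap hV.fromSpec g (Spec.map φ) hU.fromSpec hΔ L e ≫
      (QC.pullbackTildeIso φ).hom.app G ≫ (tilde.functor _).map (𝟙 Ω)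
  haveI : IsIso E := by
    haveI : IsIso e := inferInstanceAs (IsIso (QC.isoTildeΓ (L.restrict hU.fromSpec)).inv)
    infer_instance
  let Ψ : tilde Ω ⟶ L'.restrict hV.fromSpec :=
    inv E ≫ (Scheme.Modules.pullback hV.fromSpec).map ν ≫
      (Scheme.Modules.restrictFunctorIsoPullback hV.fromSpec).inv.app L'
  have hVtop : hV.fromSpec ''ᵁ ⊤ = V := QC.image_fromSpec_top hV
  have hUtop : hU.fromSpec ''ᵁ ⊤ = U := QC.image_fromSpec_top hU
  let η := (ModuleCat.extendRestrictScalarsAdj.{u, u, u} φ.hom).unit.app G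
  let sU := secEquiv hU L ⊤ hUtop
  let sV := secEquiv hV L' ⊤ hVtop
  have key : ∀ m : Γ(L, U),
      sV (Ψ.app ⊤ (tilde.toOpen Ω ⊤ (η (sU.symm m)))) = resθ g θ h m := fun m => by
    have hle : (⊤ : (Spec Γ(X, V)).Opens) ≤ hV.fromSpec ⁻¹ᵁ (g ⁻¹ᵁ U) := by
      rw [← hV.fromSpec_preimage_self]; exact hV.fromSpec.preimage_mono h
    have hg : (⊤ : (Spec Γ(Y, U)).Opens) ≤ hU.fromSpec ⁻¹ᵁ U := hU.fromSpec_preimage_self.ge
    have h1 := QC.pullSect_square_tilde φ hV.fromSpec g hU.fromSpec hΔ L U m hle hg hUtop.le G e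
      (sU.symm m) (QC.isoTildeΓ_inv_app_top _ _) Ω (𝟙 Ω) (η (sU.symm m)) rfl
    have h2 : (inv E).app ⊤ (tilde.toOpen Ω ⊤ (η (sU.symm m))) =
        res _ hle (OmegaSh.pullSect hV.fromSpec ((Scheme.Modules.pullback g).obj L) (g ⁻¹ᵁ U)
          (OmegaSh.pullSect g L U m)) := by
      rw [← h1]
      exact congr(($(IsIso.hom_inv_id E)).app ⊤ _)
    have h3 : Ψ.app ⊤ (tilde.toOpen Ω ⊤ (η (sU.symm m))) =
        ((Scheme.Modules.restrictFunctorIsoPullback hV.fromSpec).inv.app L').app ⊤
          (((Scheme.Modules.pullback hV.fromSpec).map ν).app ⊤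
            ((inv E).app ⊤ (tilde.toOpen Ω ⊤ (η (sU.symm m))))) := rfl
    rw [h3, h2]
    let F := ((Scheme.Modules.restrictFunctorIsoPullback hV.fromSpec).inv.app L').app ⊤
    refine (congrArg (fun x => sV (F x))
      ((app_res ((Scheme.Modules.pullback hV.fromSpec).map ν) hle _).symm.trans
        (congrArg _ ((QC.app_pullSect hV.fromSpec ν (g ⁻¹ᵁ U) _).trans
          (congrArg _ (hν U m)))))).trans ?_
    refine (congrArg (fun x => sV (F (res _ hle x)))
      (QC.restrictIso_hom_pullSect hV.fromSpec L' (g ⁻¹ᵁ U) (θ.app U m)).symm).trans ?_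
    refine (congrArg sV ((app_res ((Scheme.Modules.restrictFunctorIsoPullback hV.fromSpec).inv.app L')
      hle _).symm.trans (congrArg _ (congr(($((Scheme.Modules.restrictFunctorIsoPullback
        hV.fromSpec).hom_inv_id_app L')).app (hV.fromSpec ⁻¹ᵁ (g ⁻¹ᵁ U)) _))))).trans ?_
    change res L' hVtop.ge (res L' (hV.fromSpec.image_mono hle)
      (res L' (hV.fromSpec.image_preimage_le (g ⁻¹ᵁ U)) (θ.app U m))) = res L' h (θ.app U m)
    rw [res_res, res_res]
  let A : Ω →ₗ[Γ(X, V)] Γ(L', V) :=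
    { toFun := fun x => sV (Ψ.app ⊤ (tilde.toOpen Ω ⊤ x))
      map_add' := fun a b => by simp only [map_add]
      map_smul' := fun r a => by
        simp only [RingHom.id_apply, map_smul]
        rw [Scheme.Modules.smul_Spec_def, Scheme.Modules.Hom.app_smul, ← Scheme.Modules.smul_Spec_def,
          secEquiv_smul hV ⊤ hVtop]
        exact congrArg (· • _) (QC.resO_self _ r) }
  have hηsl : ∀ (r : Γ(Y, U)) (x : G), η.hom (r • x) = φ.hom r • (show Ω from η.hom x) := fun r x =>
    η.hom.map_smul r x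
  let w : Γ(L, U) →ₛₗ[(g.appLE U V h).hom] Ω :=
    { toFun := fun m => η.hom (sU.symm m)
      map_add' := fun a b => by simp only [map_add]
      map_smul' := fun r m => by
        rw [← hηsl]
        congr 1
        refine sU.injective ?_
        rw [AddEquiv.apply_symm_apply]
        refine Eq.trans ?_ (secEquiv_smul hU ⊤ hUtop r (sU.symm m)).symm
        rw [QC.resO_self]
        exact congrArg _ (AddEquiv.apply_symm_apply sU m).symm }
  obtain ⟨f, hf, -⟩ := hbc Ω w
  have hAw : ∀ m, A (w m) = resθ g θ h m := key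
  have hfA : ∀ x : Ω, f (A x) = x := by
    have h1 : f.comp A = LinearMap.id := by
      refine ModuleCat.hom_ext_iff.mp (show ModuleCat.ofHom (f.comp A) = 𝟙 Ω from ?_)
      refine ((ModuleCat.extendRestrictScalarsAdj.{u, u, u} φ.hom).homEquiv G Ω).injective ?_
      rw [Adjunction.homEquiv_id]
      ext x
      rw [Adjunction.homEquiv_unit]
      change f (A (η.hom x)) = η.hom x
      obtain ⟨m, rfl⟩ := sU.symm.surjective x
      exact (congrArg f (hAw m)).trans (hf m)
    exact fun x => LinearMap.congr_fun h1 x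
  have hAf : ∀ y, A (f y) = y := by
    obtain ⟨f₀, -, hu⟩ := hbc Γ(L', V) (resθ g θ h)
    have h1 : A.comp f = f₀ := hu _ fun m => by
      change A (f (resθ g θ h m)) = _
      rw [hf, hAw]
    have h2 : LinearMap.id = f₀ := hu _ fun m => rfl
    exact fun y => LinearMap.congr_fun (h1.trans h2.symm) y
  have hA : Function.Bijective A := Function.bijective_iff_has_inverse.mpr ⟨f, hfA, hAf⟩
  haveI : (L'.restrict hV.fromSpec).IsQuasicoherent := QC.isQCoh_restrict _ hL'
  haveI : IsIso Ψ := by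
    refine isIso_of_bijective_top Ψ ?_
    have h1 : Function.Bijective (sV ∘ Ψ.app ⊤ ∘ tilde.toOpen Ω ⊤) := hA
    refine (Function.Bijective.of_comp_iff _ (ConcreteCategory.bijective_of_isIso (tilde.toOpen Ω ⊤))).mp ?_
    exact (sV.bijective.of_comp_iff' _).mp h1
  have h1 : (Scheme.Modules.restrictFunctor hV.fromSpec).map ν =
      (Scheme.Modules.restrictFunctorIsoPullback hV.fromSpec).hom.app _ ≫ E ≫ Ψ := by
    simp only [Ψ, IsIso.hom_inv_id_assoc]
    rw [← NatTrans.naturality_assoc, Iso.hom_inv_id_app, Category.comp_id]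
  change IsIso ((Scheme.Modules.restrictFunctor hV.fromSpec).map ν)
  rw [h1]
  infer_instance

/-- The adjunct is an isomorphism if sections base change over an affine cover. -/
theorem isIso_adjunct (hL : Coh.IsQCoh L) (hL' : Coh.IsQCoh L')
    (H : ∀ x : X, ∃ (U : Y.Opens) (_ : IsAffineOpen U) (V : X.Opens) (_ : IsAffineOpen V)
      (h : V ≤ g ⁻¹ᵁ U), x ∈ V ∧ IsBC g θ h) :
    IsIso (((Scheme.Modules.pullbackPushforwardAdjunction g).homEquiv L L').symm θ) := by
  let ν := ((Scheme.Modules.pullbackPushforwardAdjunction g).homEquiv L L').symm θ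
  choose U hU V hV h hxV hbc using H
  have hbij : ∀ (x : X) (W : X.Opens), W ≤ V x → Function.Bijective (ν.app W) := fun x W hW => by
    haveI := isIso_restrict_adjunct g θ hL hL' (hU x) (hV x) (h x) (hbc x)
    have h1 : Function.Bijective (ν.app ((hV x).fromSpec ''ᵁ ((hV x).fromSpec ⁻¹ᵁ W))) :=
      ConcreteCategory.bijective_of_isIso
        (((Scheme.Modules.restrictFunctor (hV x).fromSpec).map ν).app ((hV x).fromSpec ⁻¹ᵁ W))
    rwa [Scheme.Hom.image_preimage_eq_opensRange_inf, (hV x).opensRange_fromSpec,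
      inf_eq_right.mpr hW] at h1
  change IsIso ν
  rw [Scheme.Modules.Hom.isIso_iff_isIso_app]
  intro W
  rw [ConcreteCategory.isIso_iff_bijective]
  let O : W → X.Opens := fun y => W ⊓ V y.1
  have hcov : W ≤ ⨆ y, O y := fun x hx => Opens.mem_iSup.mpr ⟨⟨x, hx⟩, hx, hxV x⟩
  refine ⟨(injective_iff_map_eq_zero _).mpr fun s hs => QC.section_eq_of_locally fun x hx => ?_,
    fun t => ?_⟩
  · refine ⟨O ⟨x, hx⟩, inf_le_left, ⟨hx, hxV x⟩, (hbij x _ inf_le_right).1 ?_⟩
    rw [← app_res, hs, map_zero, map_zero, map_zero]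
  · choose s hs using fun y : W => (hbij y.1 (O y) inf_le_right).2 (res L' inf_le_left t)
    obtain ⟨a, ha, -⟩ := TopCat.Sheaf.existsUnique_gluing' (QC.abSheaf ((Scheme.Modules.pullback g).obj L))
      O W (fun y => homOfLE inf_le_left) hcov s (fun y y' => by
        refine (hbij y.1 (O y ⊓ O y') (inf_le_left.trans inf_le_right)).1 ?_
        change ν.app _ (res _ (inf_le_left : O y ⊓ O y' ≤ O y) (s y)) =
          ν.app _ (res _ (inf_le_right : O y ⊓ O y' ≤ O y') (s y'))
        rw [← app_res, ← app_res, hs, hs, res_res, res_res])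
    refine ⟨a, QC.section_eq_of_locally fun x hx => ?_⟩
    obtain ⟨y, hy⟩ := Opens.mem_iSup.mp (hcov hx)
    refine ⟨O y, inf_le_left, hy, ?_⟩
    rw [app_res, show res _ (inf_le_left : O y ≤ W) a = s y from ha y]
    exact hs y

/-- A generator going to a generator gives base change. -/
lemma isBC_of_isGen {U : Y.Opens} {V : X.Opens} (h : V ≤ g ⁻¹ᵁ U) (e : Γ(L, U)) (he : TMul.IsGen e)
    (he' : TMul.IsGen (resθ g θ h e)) : IsBC g θ h := by
  intro Q _ _ w
  have b : Function.Bijective (LinearMap.toSpanSingleton Γ(X, V) Γ(L', V) (resθ g θ h e)) := by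
    have := he' V le_rfl
    rwa [res_self] at this
  let ε := LinearEquiv.ofBijective _ b
  refine ⟨(LinearMap.toSpanSingleton Γ(X, V) Q (w e)).comp ε.symm.toLinearMap, fun m => ?_,
    fun f' hf' => ?_⟩
  · obtain ⟨c, hc⟩ := (he U le_rfl).2 m
    simp only [res_self] at hc
    subst hc
    rw [map_smulₛₗ (resθ g θ h), map_smulₛₗ w]
    change ε.symm ((g.appLE U V h).hom c • resθ g θ h e) • w e = _
    rw [show (g.appLE U V h).hom c • resθ g θ h e = ε ((g.appLE U V h).hom c) from rfl,
      LinearEquiv.symm_apply_apply]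
  · refine LinearMap.ext fun y => ?_
    obtain ⟨c, rfl⟩ := ε.surjective y
    change f' (c • resθ g θ h e) = ε.symm (ε c) • w e
    rw [LinearEquiv.symm_apply_apply, map_smul, hf']

end Groth.Agent.RelTilde
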