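import Groth.Agent.RelTilde.Exists
import Groth.Agent.RelProjLib.Basic

/-!
The values on a chart of the functions pulled back from the base.
-/

set_option autoImplicit false
set_option backward.isDefEq.respectTransparency false

universe u

open CategoryTheory DirectSum AlgebraicGeometry TopologicalSpace Opposite HomogeneousLocalization

noncomputable section

namespace Groth.Agent.RelTilde

lemma appTop_topIso_inv {X : Scheme.{u}} {U : X.Opens} (e : U = ⊤) (g : X ⟶ (U : Scheme.{u}))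
    (hg : g ≫ U.ι = 𝟙 X) :
    U.topIso.inv ≫ g.appTop = X.presheaf.map (eqToHom e.symm).op := by
  have h1 : U.ι.appLE U ⊤ (fun x _ => x.2) = U.topIso.inv := by
    simp [Scheme.Hom.appLE, Scheme.Opens.topIso, Scheme.Opens.ι_app, ← Functor.map_comp]
    rfl
  have h2 : U.ι.appLE U ⊤ (fun x _ => x.2) ≫ g.appLE ⊤ ⊤ le_top = X.presheaf.map (eqToHom e.symm).op := by
    rw [Scheme.Hom.appLE_comp_appLE]
    simp only [hg]
    simp [Scheme.Hom.appLE]
    rfl
  rw [← h1]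
  refine Eq.trans ?_ h2
  simp [Scheme.Hom.appLE, Scheme.Hom.appTop]

variable {A σ : Type u} [CommRing A] [SetLike σ A] [AddSubgroupClass σ A] (𝒜 : ℕ → σ) [GradedRing 𝒜]

/-- Functions from degree zero have the obvious values. -/
lemma val_toSpecZero (r : 𝒜 0) (y : ProjectiveSpectrum 𝒜) :
    (((Proj.toSpecZero 𝒜).appTop.hom ((Scheme.ΓSpecIso (CommRingCat.of (𝒜 0))).inv.hom r) :
        GrTwist.O (𝒜 := 𝒜) (op ⊤)).1 ⟨y, Set.mem_univ _⟩).val =
      Localization.mk (r : A) (1 : y.asHomogeneousIdeal.toIdeal.primeCompl) := by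
  have h : ∀ x, (Proj.toSpecZero 𝒜).appTop.hom ((Scheme.ΓSpecIso (CommRingCat.of (𝒜 0))).inv.hom x) =
      ((Proj 𝒜).presheaf.map (eqToHom (Proj.basicOpen_one 𝒜).symm).op).hom
        ((Proj.awayToSection 𝒜 1).hom (fromZeroRingHom 𝒜 (.powers 1) x)) := by
    intro x
    have hg : ((Proj 𝒜).topIso.inv ≫ ((Proj 𝒜).isoOfEq (Proj.basicOpen_one 𝒜)).inv) ≫
        (Proj.basicOpen 𝒜 1).ι = 𝟙 _ := by
      rw [Category.assoc, Scheme.isoOfEq_inv_ι, Scheme.toIso_inv_ι]
    have h0 := appTop_topIso_inv (Proj.basicOpen_one 𝒜) _ hg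
    have h1 : (Scheme.ΓSpecIso (CommRingCat.of (𝒜 0))).inv ≫ (Proj.toSpecZero 𝒜).appTop =
        CommRingCat.ofHom (fromZeroRingHom 𝒜 (.powers 1)) ≫ Proj.awayToSection 𝒜 1 ≫
          (Proj.basicOpen 𝒜 1).topIso.inv ≫
          ((Proj 𝒜).topIso.inv ≫ ((Proj 𝒜).isoOfEq (Proj.basicOpen_one 𝒜)).inv).appTop := by
      simp only [Proj.toSpecZero, Scheme.Hom.comp_appTop, Category.assoc]
      rw [show (Proj.basicOpenToSpec 𝒜 1).appTop = _ from Proj.basicOpenToSpec_app_top 𝒜 1]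
      simp
    rw [h0] at h1
    exact congr($h1 x)
  rw [h]
  change (HomogeneousLocalization.mapId 𝒜 _ (fromZeroRingHom 𝒜 (.powers 1) r)).val = _
  rfl

end Groth.Agent.RelTilde

namespace Groth.Agent.RelTilde

variable {S P : Scheme.{u}} {𝒮 : RelProj.QCGrAlg S} {p : P ⟶ S}
  {ch : ∀ (U : S.Opens) (hU : IsAffineOpen U), ((p ⁻¹ᵁ U : P.Opens) : Scheme.{u}) ≅ Proj (𝒮.deg U hU)}

/-- A function pulled back from the base, read on a chart. -/
lemma val_base_app (hP : RelProj.IsRelProj 𝒮 p ch) {V W : S.Opens} (hV : IsAffineOpen V) (h : V ≤ W)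
    (c : Γ(S, W)) (y : ProjectiveSpectrum (𝒮.deg V hV))
    (hy : (RelProj.emb p ch V hV).base y ∈ p ⁻¹ᵁ W) :
    ((((RelProj.emb p ch V hV).app (p ⁻¹ᵁ W)).hom ((p.app W).hom c) :
        GrTwist.O (𝒜 := 𝒮.deg V hV) (op (RelProj.emb p ch V hV ⁻¹ᵁ (p ⁻¹ᵁ W)))).1 ⟨y, hy⟩).val =
      Localization.mk ((𝒮.str.app (op V)).hom ((S.presheaf.map (homOfLE h).op).hom c))
        (1 : y.asHomogeneousIdeal.toIdeal.primeCompl) := by
  let E := RelProj.emb p ch V hV
  let T := Proj (𝒮.deg V hV)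
  have hle : (⊤ : T.Opens) ≤ (E ≫ p) ⁻¹ᵁ W := fun x _ =>
    h (mem_preimage_emb (q := p) (ch := ch) V hV x)
  have hbase : (⊤ : (Spec Γ(S, V)).Opens) ≤ hV.fromSpec ⁻¹ᵁ W := by
    rw [← hV.fromSpec_preimage_self]; exact hV.fromSpec.preimage_mono h
  have key : (E ≫ p).appLE W ⊤ hle =
      S.presheaf.map (homOfLE h).op ≫ 𝒮.strZero V hV ≫
        (Scheme.ΓSpecIso (CommRingCat.of (𝒮.deg V hV 0))).inv ≫
          (Proj.toSpecZero (𝒮.deg V hV)).appTop := by
    simp only [E, RelProjLib.emb_p hP V hV]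
    rw [← Scheme.Hom.appLE_comp_appLE _ hV.fromSpec W ⊤ ⊤ hbase le_top,
      show hV.fromSpec.appLE W ⊤ hbase =
        S.presheaf.map (homOfLE h).op ≫ (Scheme.ΓSpecIso Γ(S, V)).inv by
        rw [Scheme.Hom.appLE, IsAffineOpen.fromSpec_app_of_le hV W h, Category.assoc, Category.assoc,
          ← Functor.map_comp]
        exact congrArg (_ ≫ ·) (by
          convert Category.comp_id (Scheme.ΓSpecIso Γ(S, V)).inv
          exact (Spec Γ(S, V)).presheaf.map_id (op ⊤))]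
    simp [RelProjLib.affBase_eq, Scheme.Hom.appLE, Scheme.Hom.appTop,
      ← Scheme.ΓSpecIso_inv_naturality_assoc]
  have h1 : ((((E ≫ p).appLE W ⊤ hle).hom c : GrTwist.O (𝒜 := 𝒮.deg V hV) (op ⊤)).1
      ⟨y, Set.mem_univ _⟩).val = Localization.mk
        ((𝒮.str.app (op V)).hom ((S.presheaf.map (homOfLE h).op).hom c))
        (1 : y.asHomogeneousIdeal.toIdeal.primeCompl) := by
    rw [key]
    exact val_toSpecZero (𝒮.deg V hV)
      ((𝒮.strZero V hV).hom ((S.presheaf.map (homOfLE h).op).hom c)) y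
  exact h1

end Groth.Agent.RelTilde
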