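import Groth.Agent.RelTilde.Extend
import Groth.Agent.QC.SubSheaf

/-!
Existence of the module attached to a compatible system.
-/

set_option autoImplicit false
set_option backward.isDefEq.respectTransparency false

universe u

open CategoryTheory CategoryTheory.Limits DirectSum TopologicalSpace AlgebraicGeometry Opposite
open scoped HomogeneousIdeal

noncomputable section

namespace Groth.Agent.RelTilde

section Ring

variable {A σ : Type u} [CommRing A] [SetLike σ A] [AddSubgroupClass σ A] {𝒜 : ℕ → σ} [GradedRing 𝒜]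
  {B σ' : Type u} [CommRing B] [SetLike σ' B] [AddSubgroupClass σ' B] {ℬ : ℕ → σ'} [GradedRing ℬ]
  (ψ : 𝒜 →+*ᵍ ℬ) (hψ : ℬ₊ ≤ (𝒜₊).map ψ)

lemma app_val_of_eq {P : Scheme.{u}} (h : Proj 𝒜 ⟶ P) (g : Proj ℬ ⟶ P)
    (e : Proj.map ψ hψ ≫ h = g) (W : P.Opens) (r : Γ(P, W)) (y : ProjectiveSpectrum ℬ)
    (hy : g.base y ∈ W) (hy' : h.base (ProjectiveSpectrum.comap ψ hψ y) ∈ W) :
    ((show GrTwist.O (𝒜 := ℬ) (op (g ⁻¹ᵁ W)) from (g.app W).hom r).1 ⟨y, hy⟩).val =
      GrTwist.locMap ψ hψ y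
        ((show GrTwist.O (𝒜 := 𝒜) (op (h ⁻¹ᵁ W)) from (h.app W).hom r).1 ⟨_, hy'⟩).val := by
  subst e
  refine (congrArg HomogeneousLocalization.val (GrTwist.comapStructureSheaf_apply ψ hψ (h ⁻¹ᵁ W)
    ((Proj.map ψ hψ ≫ h) ⁻¹ᵁ W) Set.Subset.rfl _ ⟨y, hy⟩)).trans ?_
  rw [HomogeneousLocalization.val_localRingHom]
  rfl

end Ring

section Modules

variable {X : Scheme.{u}}

/-- Evaluation of modules at an open. -/
def sectF (W : X.Opens) : X.Modules ⥤ AddCommGrpCat.{u} :=
  Scheme.Modules.toPresheaf X ⋙ (evaluation _ _).obj (op W)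

instance (W : X.Opens) : PreservesLimits (sectF W) := by
  have : PreservesLimits ((evaluation (Opens X)ᵒᵖ Ab.{u}).obj (op W)) := inferInstance
  exact comp_preservesLimits (Scheme.Modules.toPresheaf X) _

lemma exists_pi_section {ι : Type u} (E : ι → X.Modules) (W : X.Opens) (x : ∀ i, Γ(E i, W)) :
    ∃ t : Γ(∏ᶜ E, W), ∀ i, (Pi.π E i).app W t = x i := by
  let e := PreservesProduct.iso (sectF W) E
  refine ⟨e.inv ((Concrete.productEquiv fun i => (sectF W).obj (E i)).symm x), fun i => ?_⟩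
  change ((sectF W).map (Pi.π E i)) (e.inv _) = x i
  rw [← piComparison_comp_π, ConcreteCategory.comp_apply, ← PreservesProduct.iso_hom,
    Iso.inv_hom_id_apply]
  exact Concrete.productEquiv_symm_apply_π _ x i

lemma pi_section_ext {ι : Type u} (E : ι → X.Modules) (W : X.Opens) {s t : Γ(∏ᶜ E, W)}
    (h : ∀ i, (Pi.π E i).app W s = (Pi.π E i).app W t) : s = t :=
  Concrete.Pi.map_ext E (sectF W) s t h

end Modules

variable {S P : Scheme.{u}} {𝒮 : RelProj.QCGrAlg S} (D : Datum 𝒮) {q : P ⟶ S}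
  {ch : ∀ (U : S.Opens) (hU : IsAffineOpen U), ((q ⁻¹ᵁ U : P.Opens) : Scheme.{u}) ≅ Proj (𝒮.deg U hU)}
  (hP : RelProj.IsRelProj 𝒮 q ch) (n : ℤ)

/-- The product of the direct images. -/
abbrev Datum.prodE : P.Modules := ∏ᶜ fun U : S.affineOpens => D.E q ch n U.1 U.2

/-- The components of a section of the product. -/
def Datum.comps {W : P.Opens} (x : Γ(D.prodE (q := q) (ch := ch) n, W)) : D.Fam q ch n W := fun U hU =>
  (Pi.π (fun U : S.affineOpens => D.E q ch n U.1 U.2) ⟨U, hU⟩).app W x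

set_option synthInstance.maxHeartbeats 200000 in
set_option maxHeartbeats 800000 in
include hP in
lemma Datum.compat_smul {W : P.Opens} (r : Γ(P, W)) (x : Γ(D.prodE (q := q) (ch := ch) n, W))
    (hx : D.Compat q ch n (D.comps n x)) : D.Compat q ch n (D.comps n (r • x)) := by
  intro U hU s y hy hy'
  have key : ∀ (U : S.Opens) (hU : IsAffineOpen U) (y : ProjectiveSpectrum (𝒮.deg U hU))
      (hy : (RelProj.emb q ch U hU).base y ∈ W),
      GrMod.val (V := RelProj.emb q ch U hU ⁻¹ᵁ W) (D.comps n (r • x) U hU) ⟨y, hy⟩ =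
        ((show GrTwist.O (𝒜 := 𝒮.deg U hU) (op (RelProj.emb q ch U hU ⁻¹ᵁ W)) from
          ((RelProj.emb q ch U hU).app W).hom r).1 ⟨y, hy⟩).val •
        GrMod.val (V := RelProj.emb q ch U hU ⁻¹ᵁ W) (D.comps n x U hU) ⟨y, hy⟩ := fun U hU y hy => by
    have h1 : D.comps n (r • x) U hU =
        (show GrTwist.O (𝒜 := 𝒮.deg U hU) (op (RelProj.emb q ch U hU ⁻¹ᵁ W)) from
          ((RelProj.emb q ch U hU).app W).hom r) •
        (show GrMod.sect (𝒮.deg U hU) (D.deg U hU) n (op (RelProj.emb q ch U hU ⁻¹ᵁ W)) from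
          D.comps n x U hU) :=
      (Pi.π (fun U : S.affineOpens => D.E q ch n U.1 U.2) ⟨U, hU⟩).app_smul r x
    rw [h1]
    exact GrMod.coe_smul_val n y _ _
  rw [key, key, GrMod.locModMap_smul, hx U hU s y hy hy',
    app_val_of_eq _ _ _ _ (RelProj.map_res_emb hP U hU s) W r y hy hy']

/-- The compatible families inside the product. -/
def Datum.compatSub : QC.Sub (D.prodE (q := q) (ch := ch) n) where
  obj W :=
    { carrier := {x | D.Compat q ch n (D.comps n x)}
      zero_mem' := fun U hU r y hy hy' => by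
        have h0 : ∀ (U : S.Opens) (hU : IsAffineOpen U),
            D.comps n (0 : Γ(D.prodE (q := q) (ch := ch) n, W)) U hU = 0 := fun U hU => map_zero _
        rw [h0, h0]
        exact (map_zero _).symm
      add_mem' := fun {a b} ha hb U hU r y hy hy' => by
        have h1 : ∀ (U : S.Opens) (hU : IsAffineOpen U),
            D.comps n (a + b) U hU = D.comps n a U hU + D.comps n b U hU := fun U hU => map_add _ _ _
        rw [h1, h1]
        refine (congrArg₂ (· + ·) (ha U hU r y hy hy') (hb U hU r y hy hy')).trans ?_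
        exact (map_add _ _ _).symm
      smul_mem' := fun r x hx => D.compat_smul hP n r x hx }
  res_mem {O' O} h x hx := by
    have h1 : D.comps n (QC.res (D.prodE (q := q) (ch := ch) n) h x) = D.resFam h (D.comps n x) := by
      funext U hU
      exact (QC.app_res _ h x).symm
    change D.Compat q ch n _
    rw [h1]
    exact hx.res h
  local' {O} x hx := fun U hU r y hy hy' => by
    obtain ⟨W, h, hxW, hW⟩ := hx _ hy
    have hy'' : (RelProj.emb q ch U hU).base (ProjectiveSpectrum.comap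
      (𝒮.res hU (hU.basicOpen r) (S.basicOpen_le r)) (𝒮.irrelevant_le_map U hU r) y) ∈ W :=
      (emb_comap hP hU (hU.basicOpen r) (isB_basicOpen r) y).symm ▸ hxW
    have h1 : ∀ (V : S.Opens) (hV : IsAffineOpen V) (z : ProjectiveSpectrum (𝒮.deg V hV))
        (hz : (RelProj.emb q ch V hV).base z ∈ W),
        GrMod.val (V := RelProj.emb q ch V hV ⁻¹ᵁ W)
          (D.comps n (QC.res (D.prodE (q := q) (ch := ch) n) h x) V hV) ⟨z, hz⟩ =
        GrMod.val (V := RelProj.emb q ch V hV ⁻¹ᵁ O) (D.comps n x V hV) ⟨z, h hz⟩ := fun V hV z hz =>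
      Datum.IsTilde.app_res (lam := fun V hV => Pi.π (fun U : S.affineOpens => D.E q ch n U.1 U.2) ⟨V, hV⟩)
        h x V hV z hz
    have h2 := hW U hU r y hxW hy''
    rw [h1, h1] at h2
    exact h2

include hP in
/-- The module attached to a compatible system exists. -/
theorem Datum.exists_isTilde :
    ∃ (F : P.Modules) (lam : ∀ (U : S.Opens) (hU : IsAffineOpen U), F ⟶ D.E q ch n U hU),
      D.IsTilde q ch n F lam := by
  let T := D.compatSub hP n
  refine ⟨T.toModules, fun U hU => T.ι ≫ Pi.π (fun U : S.affineOpens => D.E q ch n U.1 U.2) ⟨U, hU⟩,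
    fun U hU W hW => ⟨fun a b hab => ?_, fun t₀ => ?_⟩, fun W s => ?_⟩
  · refine T.ι_app_injective W (pi_section_ext _ W fun V => ?_)
    exact congrFun (congrFun (((T.range_ι_app W _).mp ⟨a, rfl⟩).eq_of_chart hP
      ((T.range_ι_app W _).mp ⟨b, rfl⟩) hU hW hab) V.1) V.2
  · obtain ⟨t, ht, ht₀⟩ := exists_compat_extend hP hW t₀
    obtain ⟨x, hx⟩ := exists_pi_section (fun U : S.affineOpens => D.E q ch n U.1 U.2) W fun V => t V.1 V.2
    have hx' : D.Compat q ch n (D.comps n x) := by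
      have : D.comps n x = t := funext fun V => funext fun hV => hx ⟨V, hV⟩
      rw [this]; exact ht
    obtain ⟨a, ha⟩ := (T.range_ι_app W x).mpr hx'
    refine ⟨a, ?_⟩
    change (Pi.π (fun U : S.affineOpens => D.E q ch n U.1 U.2) ⟨U, hU⟩).app W (T.ι.app W a) = t₀
    rw [ha, hx, ht₀]
  · exact (T.range_ι_app W _).mp ⟨s, rfl⟩

end Groth.Agent.RelTilde
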