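import Groth.Agent.RelTilde.Comap
import Groth.Agent.RelTilde.Local
import Groth.Agent.RelTilde.BaseChange

/-!
Chart maps attached to a morphism of relative Proj's over the same base, generators of twists along
them, and pull-backs of twisting sheaves.
-/

set_option autoImplicit false
set_option backward.isDefEq.respectTransparency false

universe u

open CategoryTheory DirectSum TopologicalSpace AlgebraicGeometry Opposite
open scoped HomogeneousIdeal
open Groth.Agent.QC (res)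

noncomputable section

namespace Groth.Agent.RelTilde

section Gen

variable {X Y : Scheme.{u}} (j : Y ⟶ X) [IsOpenImmersion j] {L : X.Modules} {N : Y.Modules}

/-- A section whose image generates inside the image of an open immersion generates. -/
lemma isGen_of_app (φ : L ⟶ (Scheme.Modules.pushforward j).obj N)
    (h : ∀ W : X.Opens, W ≤ j.opensRange → Function.Bijective (φ.app W))
    {W : X.Opens} (hW : W ≤ j.opensRange) (e : Γ(L, W))
    (he : TMul.IsGen (X := Y) (N := N) (U := j ⁻¹ᵁ W) (φ.app W e)) : TMul.IsGen e := by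
  intro V hV
  have hV' : V ≤ j.opensRange := hV.trans hW
  refine (h V hV').of_comp_iff' _ |>.mp ?_
  rw [show (φ.app V ∘ fun c : Γ(X, V) => c • res L hV e) =
    (fun c : Γ(Y, j ⁻¹ᵁ V) => c • res N (j.preimage_mono hV) (φ.app W e)) ∘ (j.app V).hom from
    funext fun c => by
      refine (φ.app_smul c _).trans ?_
      rw [← QC.app_res φ]
      rfl]
  exact (he _ (j.preimage_mono hV)).comp (bijective_app_of_le j hV')

end Gen

section PowGen

variable {A σ : Type u} [CommRing A] [SetLike σ A] [AddSubgroupClass σ A] {𝒜 : ℕ → σ} [GradedRing 𝒜]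
  {f : A} (hf : f ∈ 𝒜 1) (n : ℤ) {U : (Proj 𝒜).Opens} (hU : U ≤ Proj.basicOpen 𝒜 f)

include hU in
lemma pow_not_mem_of_le (k : ℕ) (y : U) : f ^ k ∉ y.1.asHomogeneousIdeal :=
  not_mem_pow 𝒜 ((ProjectiveSpectrum.mem_basicOpen 𝒜 f y.1).mp (hU y.2)) k

include hf in
lemma pow_mem_one (k : ℕ) : f ^ k ∈ 𝒜 k := by
  have := SetLike.pow_mem_graded k hf
  rwa [smul_eq_mul, mul_one] at this

include hU in
lemma le_basicOpen_pow (k : ℕ) : U ≤ Proj.basicOpen 𝒜 (f ^ k) := fun y hy =>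
  (ProjectiveSpectrum.mem_basicOpen 𝒜 _ y).mpr (pow_not_mem_of_le hU k ⟨y, hy⟩)

lemma toNat_eq (n : ℤ) : ((n.toNat : ℕ) : ℤ) = ((-n).toNat : ℕ) + n := by omega

/-- The generator `f ^ n` of `O(n)` inside `D₊(f)`. -/
def powGen : Γ(GrMod.tilde 𝒜 𝒜 n, U) :=
  twistGen 𝒜 (pow_mem_one hf n.toNat) (pow_mem_one hf (-n).toNat) (toNat_eq n) (le_basicOpen_pow hU _)

lemma isGen_powGen : TMul.IsGen (powGen hf n hU) :=
  twistGen_bijective 𝒜 _ _ _ (le_basicOpen_pow hU _) _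

lemma val_powGen (y : U) :
    GrMod.val (powGen hf n hU) y =
      LocalizedModule.mk (f ^ n.toNat) ⟨f ^ (-n).toNat, pow_not_mem_of_le hU _ y⟩ := rfl

end PowGen

section ProjMap

variable {Y PA PB : Scheme.{u}} {𝒜 ℬ : RelProj.QCGrAlg Y}
  (φ : 𝒜.toQCAlg ⟶ ℬ.toQCAlg) (hφ : RelProj.IsGradedHom φ)
  (hirr : ∀ (U : Y.Opens) (hU : IsAffineOpen U),
    (ℬ.deg U hU)₊ ≤ ((𝒜.deg U hU)₊).map (RelProj.gradedHomAt φ hφ U hU))
  {pA : PA ⟶ Y} {pB : PB ⟶ Y}
  (chartA : ∀ (U : Y.Opens) (hU : IsAffineOpen U), (((pA ⁻¹ᵁ U : PA.Opens) : Scheme.{u}) ≅ Proj (𝒜.deg U hU)))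
  (chartB : ∀ (U : Y.Opens) (hU : IsAffineOpen U), (((pB ⁻¹ᵁ U : PB.Opens) : Scheme.{u}) ≅ Proj (ℬ.deg U hU)))
  (h : PB ⟶ PA) (hh : RelProj.IsRelProjMap φ hφ hirr chartA chartB h)

include hh in
lemma emb_comp_map (U : Y.Opens) (hU : IsAffineOpen U) :
    RelProj.emb pB chartB U hU ≫ h =
      Proj.map (RelProj.gradedHomAt φ hφ U hU) (hirr U hU) ≫ RelProj.emb pA chartA U hU := by
  change ((chartB U hU).inv ≫ (pB ⁻¹ᵁ U).ι) ≫ h = _
  rw [Category.assoc, hh U hU, Iso.inv_hom_id_assoc]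
  rfl

lemma res_gradedHomAt {U V : Y.Opens} (hU : IsAffineOpen U) (hV : IsAffineOpen V) (i : V ≤ U)
    (a : 𝒜.presheaf.obj (op U)) :
    ℬ.res hU hV i (RelProj.gradedHomAt φ hφ U hU a) =
      RelProj.gradedHomAt φ hφ V hV (𝒜.res hU hV i a) :=
  (congr($(φ.hom.naturality (homOfLE i).op) a)).symm

/-- The chart maps of a morphism of relative Proj's over the same base, with a semilinear map of
systems. -/
@[reducible] def ChartMap.ofProjMap {D : Datum 𝒜} {D' : Datum ℬ}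
    (v : ∀ (U : Y.Opens) (hU : IsAffineOpen U),
      D.M U →ₛₗ[(RelProj.gradedHomAt φ hφ U hU).toRingHom] D'.M U)
    (hv : ∀ (U : Y.Opens) (hU : IsAffineOpen U) (d : ℕ) (m : D.M U), m ∈ D.deg U hU d →
      v U hU m ∈ D'.deg U hU d)
    (natMod : ∀ {U V : Y.Opens} (hU : IsAffineOpen U) (hV : IsAffineOpen V) (i : V ≤ U) (m : D.M U),
      D'.res hU hV i (v U hU m) = v V hV (D.res hU hV i m)) :
    ChartMap D D' pA pB chartA chartB h where
  ι := Y.affineOpens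
  U i := i.1
  U' i := i.1
  hU i := i.2
  hU' i := i.2
  cover x := by
    obtain ⟨U, hU, hx, -⟩ := exists_isAffineOpen_mem_and_subset (x := pB.base x) (U := ⊤) trivial
    exact ⟨⟨U, hU⟩, hx⟩
  χ i := RelProj.gradedHomAt φ hφ i.1 i.2
  hirr i := hirr i.1 i.2
  v i := v i.1 i.2
  hv i := hv i.1 i.2
  square i := emb_comp_map φ hφ hirr chartA chartB h hh i.1 i.2
  natRing i k b _ a := res_gradedHomAt φ hφ i.2 k.2 b.le a
  natMod i k b _ m := natMod i.2 k.2 b.le m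
  common i j O hO bi bj x hx := ⟨⟨O, hO⟩, hx, bi, bj, IsB.refl O⟩

/-- `φ(U)` as a semilinear map of the systems of the algebras. -/
def selfHom (U : Y.Opens) (hU : IsAffineOpen U) :
    (Datum.self 𝒜).M U →ₛₗ[(RelProj.gradedHomAt φ hφ U hU).toRingHom] (Datum.self ℬ).M U where
  toFun := RelProj.gradedHomAt φ hφ U hU
  map_add' := map_add _
  map_smul' := map_mul _

lemma locModMap_selfHom {U : Y.Opens} (hU : IsAffineOpen U) (y : ProjectiveSpectrum (ℬ.deg U hU))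
    (x : GrTwist.Loc (𝒜.deg U hU)
      (ProjectiveSpectrum.comap (RelProj.gradedHomAt φ hφ U hU) (hirr U hU) y)) :
    GrMod.locModMap (RelProj.gradedHomAt φ hφ U hU) (hirr U hU) (selfHom φ hφ U hU) y x =
      GrTwist.locMap (RelProj.gradedHomAt φ hφ U hU) (hirr U hU) y x := by
  induction x using Localization.induction_on with
  | H p =>
    obtain ⟨a, s⟩ := p
    rw [GrTwist.locMap_mk]
    rfl

/-- The chart maps of `O(n) ⟶ h_* O(n)`. -/
@[reducible] def ChartMap.ofSelf :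
    ChartMap (Datum.self 𝒜) (Datum.self ℬ) pA pB chartA chartB h :=
  ChartMap.ofProjMap φ hφ hirr chartA chartB h hh (selfHom φ hφ) (fun U hU d m hm => hφ U hU d m hm)
    (fun hU hV i m => res_gradedHomAt φ hφ hU hV i m)

end ProjMap

end Groth.Agent.RelTilde

namespace Groth.Agent.RelTilde

section TwistBC

variable {S S' P P' : Scheme.{u}} {𝒮 : RelProj.QCGrAlg S} {𝒮' : RelProj.QCGrAlg S'}
  {q : P ⟶ S} {q' : P' ⟶ S'}
  {ch : ∀ (U : S.Opens) (hU : IsAffineOpen U), ((q ⁻¹ᵁ U : P.Opens) : Scheme.{u}) ≅ Proj (𝒮.deg U hU)}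
  {ch' : ∀ (U : S'.Opens) (hU : IsAffineOpen U),
    ((q' ⁻¹ᵁ U : P'.Opens) : Scheme.{u}) ≅ Proj (𝒮'.deg U hU)}
  {g : P' ⟶ P} (C : ChartMap (Datum.self 𝒮) (Datum.self 𝒮') q q' ch ch' g) (n : ℤ)
  (hv : ∀ (i : C.ι) (a : 𝒮.presheaf.obj (op (C.U i))), C.v i a = C.χ i a)

set_option maxHeartbeats 1600000 in
include hv in
/-- The comparison of twisting sheaves carries generators to generators, so its adjunct is an
isomorphism, when `𝒮` is generated in degree one. -/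
theorem ChartMap.isIso_adjunct_comap (hgen : 𝒮.IsGenDegOne)
    {F : P.Modules} {lam : ∀ (U : S.Opens) (hU : IsAffineOpen U), F ⟶ (Datum.self 𝒮).E q ch n U hU}
    (hF : (Datum.self 𝒮).IsTilde q ch n F lam) {G : P'.Modules}
    {lam' : ∀ (U : S'.Opens) (hU : IsAffineOpen U), G ⟶ (Datum.self 𝒮').E q' ch' n U hU}
    (hG : (Datum.self 𝒮').IsTilde q' ch' n G lam')
    (θ : F ⟶ (Scheme.Modules.pushforward g).obj G)
    (hθ : ∀ (i : C.ι) (W : P.Opens) (s : Γ(F, W)),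
      (lam' (C.U' i) (C.hU' i)).app (g ⁻¹ᵁ W) (θ.app W s) =
        C.read n i ((lam (C.U i) (C.hU i)).app W s)) :
    IsIso (((Scheme.Modules.pullbackPushforwardAdjunction g).homEquiv F G).symm θ) := by
  refine isIso_adjunct g θ hF.isQCoh hG.isQCoh fun x => ?_
  obtain ⟨i, hxi⟩ := C.cover x
  obtain ⟨y, rfl⟩ := exists_point (q := q') (ch := ch') (C.U' i) (C.hU' i) hxi
  let χ := C.χ i
  let E := RelProj.emb q ch (C.U i) (C.hU i)
  let E' := RelProj.emb q' ch' (C.U' i) (C.hU' i)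
  obtain ⟨f, hf, hfy⟩ := exists_deg_one_not_mem (𝒮.deg (C.U i) (C.hU i)) (hgen _ (C.hU i))
    (ProjectiveSpectrum.comap χ (C.hirr i) y)
  have hf' : χ f ∈ 𝒮'.deg (C.U' i) (C.hU' i) 1 := χ.map_mem hf
  let V := E ''ᵁ Proj.basicOpen (𝒮.deg (C.U i) (C.hU i)) f
  let V' := E' ''ᵁ Proj.basicOpen (𝒮'.deg (C.U' i) (C.hU' i)) (χ f)
  have hV : IsAffineOpen V := (Proj.isAffineOpen_basicOpen _ f hf one_pos).image_of_isOpenImmersion E
  have hV' : IsAffineOpen V' :=
    (Proj.isAffineOpen_basicOpen _ (χ f) hf' one_pos).image_of_isOpenImmersion E'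
  have hle : V' ≤ g ⁻¹ᵁ V := by
    rintro _ ⟨z, hz, rfl⟩
    exact ⟨ProjectiveSpectrum.comap χ (C.hirr i) z, hz, C.emb_comap' i z⟩
  have hy : (RelProj.emb q' ch' (C.U' i) (C.hU' i)).base y ∈ V' := ⟨y, hfy, rfl⟩
  refine ⟨V, hV, V', hV', hle, hy, ?_⟩
  have h1 : E ⁻¹ᵁ V ≤ Proj.basicOpen (𝒮.deg (C.U i) (C.hU i)) f := (E.preimage_image_eq _).le
  have h1' : E' ⁻¹ᵁ V' ≤ Proj.basicOpen (𝒮'.deg (C.U' i) (C.hU' i)) (χ f) :=
    (E'.preimage_image_eq _).le
  obtain ⟨e, he⟩ := (hF.bijective' (C.U i) (C.hU i) V (E.image_le_opensRange _)).2 (powGen hf n h1)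
  refine isBC_of_isGen g θ hle e
    (isGen_of_app E (lam (C.U i) (C.hU i)) (hF.bijective' _ _) (E.image_le_opensRange _) e
      (he.symm ▸ isGen_powGen hf n h1)) ?_
  refine isGen_of_app E' (lam' (C.U' i) (C.hU' i)) (hG.bijective' _ _) (E'.image_le_opensRange _) _ ?_
  suffices key : (lam' (C.U' i) (C.hU' i)).app V' (resθ g θ hle e) = powGen hf' n h1' from
    key.symm ▸ isGen_powGen hf' n h1'
  refine til_ext fun z => ?_
  have hz : E'.base z.1 ∈ g ⁻¹ᵁ V := hle z.2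
  have hz' : E.base (ProjectiveSpectrum.comap χ (C.hirr i) z.1) ∈ V := by
    rw [C.emb_comap' i z.1]; exact hz
  refine (Datum.IsTilde.app_res (lam := lam') hle (θ.app V e) (C.U' i) (C.hU' i) z.1 z.2).trans ?_
  refine ((congrArg (fun t => GrMod.val (V := E' ⁻¹ᵁ (g ⁻¹ᵁ V)) t ⟨z.1, hz⟩) (hθ i V e)).trans
    (C.val_read n i _ z.1 hz hz')).trans ?_
  rw [he]
  refine Eq.trans ?_ (val_powGen hf' n h1' z).symm
  refine ((congrArg (GrMod.locModMap χ (C.hirr i) (C.v i) z.1)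
    (val_powGen hf n h1 ⟨_, hz'⟩))).trans ?_
  rw [GrMod.locModMap_mk]
  exact congrArg₂ LocalizedModule.mk ((hv i _).trans (map_pow χ f _))
    (Subtype.ext (map_pow χ f _))

end TwistBC

end Groth.Agent.RelTilde
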