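import Groth.Agent.RelTilde.Affine
import Groth.Agent.QC.Pullback
import Groth.Prelude.Def_RelProj3

/-!
Restriction of scalars: `M(n)~ ⟶ Φ_* (N(n)~)` for a bijective semilinear map of graded modules.
-/

set_option autoImplicit false
set_option backward.isDefEq.respectTransparency false

universe u

open CategoryTheory DirectSum TopologicalSpace AlgebraicGeometry Opposite
open scoped HomogeneousIdeal
open Groth.Agent.QC (res)

noncomputable section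

namespace Groth.Agent.RelTilde

variable {A σ : Type u} [CommRing A] [SetLike σ A] [AddSubgroupClass σ A] {𝒜 : ℕ → σ}
  [GradedRing 𝒜] {B σ' : Type u} [CommRing B] [SetLike σ' B] [AddSubgroupClass σ' B] {ℬ : ℕ → σ'}
  [GradedRing ℬ] (ψ : 𝒜 →+*ᵍ ℬ)
  {M τ : Type u} [AddCommGroup M] [Module A M] [SetLike τ M] [AddSubgroupClass τ M] (ℳ : ℕ → τ)
  [SetLike.GradedSMul 𝒜 ℳ] [DirectSum.Decomposition ℳ]
  {N τ' : Type u} [AddCommGroup N] [Module B N] [SetLike τ' N] [AddSubgroupClass τ' N] (𝒩 : ℕ → τ')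
  [SetLike.GradedSMul ℬ 𝒩] [DirectSum.Decomposition 𝒩]
  (v : M →ₛₗ[ψ.toRingHom] N) (hv : ∀ (i : ℕ) (m : M), m ∈ ℳ i → v m ∈ 𝒩 i)

include hv in
omit [SetLike.GradedSMul 𝒜 ℳ] [SetLike.GradedSMul ℬ 𝒩] in
lemma map_decompose_semilinear (m : M) (i : ℕ) :
    v (decompose ℳ m i : M) = (decompose 𝒩 (v m) i : N) := by
  classical
  induction m using DirectSum.Decomposition.inductionOn ℳ with
  | zero => simp
  | homogeneous m =>
    rename_i j
    by_cases h : j = i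
    · subst h
      rw [decompose_of_mem_same ℳ m.2, decompose_of_mem_same 𝒩 (hv _ _ m.2)]
    · rw [decompose_of_mem_ne ℳ m.2 h, decompose_of_mem_ne 𝒩 (hv _ _ m.2) h, map_zero]
  | add a b ha hb =>
    simp only [decompose_add, DirectSum.add_apply, AddMemClass.coe_add, map_add, ha, hb]

variable (hψ : ℬ₊ ≤ (𝒜₊).map ψ)

set_option maxHeartbeats 1600000 in
/-- The canonical map is an isomorphism when `v` is bijective. -/
theorem isIso_comap_of_bijective (hbij : Function.Bijective v) (n : ℤ) :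
    IsIso (GrMod.comap ψ hψ v hv n) := by
  classical
  let φ := GrMod.comap ψ hψ v hv n
  let T := GrMod.tilde 𝒜 ℳ n
  let T' := (Scheme.Modules.pushforward (Proj.map ψ hψ)).obj (GrMod.tilde ℬ 𝒩 n)
  have hpre : ∀ f : A, Proj.map ψ hψ ⁻¹ᵁ Proj.basicOpen 𝒜 f = Proj.basicOpen ℬ (ψ f) :=
    fun f => Proj.map_preimage_basicOpen ψ hψ f
  have hinj : ∀ W : (Proj 𝒜).Opens, Function.Injective (φ.app W) := fun W => by
    refine (injective_iff_map_eq_zero _).mpr fun s hs => QC.section_eq_of_locally fun x hx => ?_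
    obtain ⟨e, i, g, a, he, hg, ha, -, hgx, hgW, hval⟩ :=
      exists_frac_nhd 𝒜 ℳ (U := op W) (s : GrMod.sect 𝒜 ℳ n (op W)) ⟨x, hx⟩
    obtain ⟨N₀, hN₀⟩ := exists_pow_smul_eq_zero ℬ 𝒩 (hv i a ha) he (ψ.map_mem hg) fun z hz => by
      have hzW : ProjectiveSpectrum.comap ψ hψ z ∈ W :=
        hgW ((ProjectiveSpectrum.mem_basicOpen 𝒜 g _).mpr hz)
      have h1 : GrMod.locModMap ψ hψ v z
          ((s : GrMod.sect 𝒜 ℳ n (op W)).1 ⟨_, hzW⟩).1 = 0 := by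
        have h2 := congrArg (fun t : Γ(T', W) =>
          GrMod.val (V := Proj.map ψ hψ ⁻¹ᵁ W) t ⟨z, hzW⟩) hs
        exact h2
      rw [hval ⟨_, hzW⟩ hz, GrMod.locModMap_mk] at h1
      exact (fr_eq_zero_iff ℬ z hz).mp h1
    have h0 : g ^ N₀ • a = 0 := hbij.1 (by
      rw [LinearMap.map_smulₛₗ, map_zero]
      exact (map_pow ψ g N₀).symm ▸ hN₀)
    refine ⟨Proj.basicOpen 𝒜 g, hgW, (ProjectiveSpectrum.mem_basicOpen 𝒜 g x).mpr hgx, ?_⟩
    rw [map_zero]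
    refine sect_ext 𝒜 ℳ fun y => ?_
    have hy := (ProjectiveSpectrum.mem_basicOpen 𝒜 g y.1).mp y.2
    refine (hval ⟨y.1, hgW y.2⟩ hy).trans ?_
    exact (fr_eq_zero_iff 𝒜 y.1 hy).mpr ⟨g ^ N₀, not_mem_pow 𝒜 hy N₀, h0⟩
  have hsurj : ∀ (d : ℕ) (f : A), 0 < d → f ∈ 𝒜 d →
      Function.Surjective (φ.app (Proj.basicOpen 𝒜 f)) := fun d f hd hf t => by
    obtain ⟨k, i, b, hi, hb, hval⟩ := exists_frac_basicOpen ℬ 𝒩 n hd (ψ.map_mem hf)
      (res (GrMod.tilde ℬ 𝒩 n) (hpre f).ge t)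
    obtain ⟨a', ha'⟩ := hbij.2 b
    let a : M := decompose ℳ a' i
    have hva : v a = b := by
      rw [map_decompose_semilinear ψ ℳ 𝒩 v hv, ha', decompose_of_mem_same 𝒩 hb]
    have hi' : (i : ℤ) = ((k • d : ℕ) : ℤ) + n := by rw [hi, smul_eq_mul, Nat.cast_mul]
    have hk : ∀ y : Proj.basicOpen 𝒜 f, f ^ k ∉ y.1.asHomogeneousIdeal := fun y =>
      not_mem_pow 𝒜 ((ProjectiveSpectrum.mem_basicOpen 𝒜 f y.1).mp y.2) k
    refine ⟨fracSect 𝒜 ℳ n (decompose ℳ a' i).2 (SetLike.pow_mem_graded k hf) hi' _ hk, ?_⟩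
    refine sect_ext ℬ 𝒩 fun z => ?_
    have hz : ψ f ∉ z.1.asHomogeneousIdeal :=
      (ProjectiveSpectrum.mem_basicOpen ℬ _ z.1).mp ((hpre f).le z.2)
    refine Eq.trans ?_ (hval ⟨z.1, (hpre f).le z.2⟩ (not_mem_pow ℬ hz k)).symm
    change GrMod.locModMap ψ hψ v z.1 (fr 𝒜 _ a (f ^ k) _) = _
    rw [GrMod.locModMap_mk]
    exact congrArg₂ LocalizedModule.mk hva (Subtype.ext (map_pow ψ f k))
  rw [Scheme.Modules.Hom.isIso_iff_isIso_app]
  intro W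
  rw [ConcreteCategory.isIso_iff_bijective]
  refine ⟨hinj W, fun t => ?_⟩
  have hex : ∀ x : W, ∃ (O : (Proj 𝒜).Opens) (_ : O ≤ W), x.1 ∈ O ∧
      Function.Surjective (φ.app O) := fun x => by
    obtain ⟨d, f, hd, hf, hfx, hfW⟩ := exists_homog_nhd 𝒜 x.2
    exact ⟨_, hfW, (ProjectiveSpectrum.mem_basicOpen 𝒜 f x.1).mpr hfx, hsurj d f hd hf⟩
  choose O hO hxO hOs using hex
  choose s hs using fun x => hOs x (res T' (hO x) t)
  obtain ⟨s₀, hs₀, -⟩ := TopCat.Sheaf.existsUnique_gluing' (QC.abSheaf T) O W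
    (fun x => homOfLE (hO x)) (fun x hx => Opens.mem_iSup.mpr ⟨⟨x, hx⟩, hxO _⟩) s (fun x x' => by
      refine hinj _ ?_
      change φ.app _ (res T (inf_le_left : O x ⊓ O x' ≤ O x) (s x)) =
        φ.app _ (res T (inf_le_right : O x ⊓ O x' ≤ O x') (s x'))
      rw [← QC.app_res, ← QC.app_res, hs, hs, QC.res_res, QC.res_res])
  refine ⟨s₀, QC.section_eq_of_locally fun x hx => ⟨O ⟨x, hx⟩, hO _, hxO _, ?_⟩⟩
  rw [QC.app_res, show res T (hO ⟨x, hx⟩) s₀ = s ⟨x, hx⟩ from hs₀ _]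
  exact hs _

end Groth.Agent.RelTilde
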