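import Groth.Agent.RelTilde.Dehom
import Groth.Agent.RelTilde.Restrict
import Groth.Agent.RelTilde.Local

/-!
Finite type and vanishing of `M~` when a tail of `M` is finitely generated and the ring is generated
in degree one.
-/

set_option autoImplicit false
set_option backward.isDefEq.respectTransparency false
set_option linter.style.haveILetI false

universe u

open CategoryTheory CategoryTheory.Limits DirectSum TopologicalSpace AlgebraicGeometry Opposite
open scoped HomogeneousIdeal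
open Groth.Agent.QC (res)

noncomputable section

namespace Groth.Agent.RelTilde

variable {A σ : Type u} [CommRing A] [SetLike σ A] [AddSubgroupClass σ A] (𝒜 : ℕ → σ)
  [GradedRing 𝒜]
variable {M τ : Type u} [AddCommGroup M] [Module A M] [SetLike τ M] [AddSubgroupClass τ M] (ℳ : ℕ → τ)
variable [SetLike.GradedSMul 𝒜 ℳ] [DirectSum.Decomposition ℳ]

set_option maxHeartbeats 800000 in
set_option synthInstance.maxHeartbeats 200000 in
/-- Sections over `D₊(g)`, `deg g = 1`, are finitely generated. -/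
lemma finite_sections_tilde {g : A} (hg : g ∈ 𝒜 1) {n : ℕ}
    (hTF : (Submodule.span A (⋃ k ∈ Set.Ici n, (ℳ k : Set M))).FG) :
    Module.Finite Γ(Proj 𝒜, Proj.basicOpen 𝒜 g) Γ(GrMod.tilde 𝒜 ℳ 0, Proj.basicOpen 𝒜 g) := by
  classical
  obtain ⟨T, hT⟩ := hTF
  let W := Submodule.span Γ(Proj 𝒜, Proj.basicOpen 𝒜 g) ((T.image (dehom 𝒜 hg ℳ 0) : Finset _) :
    Set Γ(GrMod.tilde 𝒜 ℳ 0, Proj.basicOpen 𝒜 g))
  have hW : ∀ m ∈ Submodule.span A (T : Set M), dehom 𝒜 hg ℳ 0 m ∈ W := fun m hm => by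
    induction hm using Submodule.span_induction with
    | mem x hx =>
      exact Submodule.subset_span (Finset.mem_coe.mpr (Finset.mem_image.mpr ⟨x, hx, rfl⟩))
    | zero => rw [map_zero]; exact zero_mem _
    | add x y _ _ hx hy => rw [map_add]; exact add_mem hx hy
    | smul a x _ hx => rw [dehom_smul]; exact W.smul_mem _ hx
  refine ⟨⟨T.image (dehom 𝒜 hg ℳ 0), eq_top_iff.mpr fun s _ => ?_⟩⟩
  obtain ⟨k, i, m, hm, hi, rfl⟩ := exists_sec 𝒜 ℳ hg 0 one_pos s
  have hm' : g ^ n • m ∈ ℳ (n • 1 + i) := smul_mem_graded 𝒜 ℳ (SetLike.pow_mem_graded n hg) hm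
  have hi' : ((n • 1 + i : ℕ) : ℤ) = (((n + k) • 1 : ℕ) : ℤ) + 0 := by
    simp only [smul_eq_mul, mul_one] at hi ⊢; push_cast at hi ⊢; omega
  have h1 : sec 𝒜 ℳ hg 0 hm hi = dehom 𝒜 hg ℳ 0 (g ^ n • m) := by
    rw [dehom_eq_sec 𝒜 hg ℳ 0 hm' hi']
    exact pt_ext 𝒜 ℳ fun y => fr_congr 𝒜 y.1 _ _ (by rw [smul_smul, ← pow_add, add_comm n k])
  rw [h1]
  refine hW _ ?_
  rw [hT]
  exact Submodule.subset_span (Set.mem_iUnion₂.mpr
    ⟨n • 1 + i, (by simp only [Set.mem_Ici, smul_eq_mul, mul_one]; omega), hm'⟩)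

/-- `M~` is of finite type. -/
theorem isFT_tilde_of_deg_one (hgen : ∀ x : ProjectiveSpectrum 𝒜, ∃ g ∈ 𝒜 1, g ∉ x.asHomogeneousIdeal)
    {n : ℕ} (hTF : (Submodule.span A (⋃ k ∈ Set.Ici n, (ℳ k : Set M))).FG) :
    CohB1.IsFT (GrMod.tilde 𝒜 ℳ 0) := by
  haveI : (GrMod.tilde 𝒜 ℳ 0).IsQuasicoherent := isQCoh_tilde 𝒜 ℳ 0
  refine Groth.Agent.QC.isFT_iff_exists_hasFinGen.mpr fun x => ?_
  obtain ⟨g, hg, hgx⟩ := hgen x
  haveI := finite_sections_tilde 𝒜 ℳ hg hTF
  exact ⟨Proj.basicOpen 𝒜 g, (ProjectiveSpectrum.mem_basicOpen 𝒜 g x).mpr hgx,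
    Groth.Agent.QC.hasFinGen_of_finite (Proj.isAffineOpen_basicOpen 𝒜 g hg one_pos)⟩

omit M τ ℳ in
/-- Positive degree elements lie in the powers of the ideal of degree one generators. -/
lemma mem_pow_of_gen (hgen : Subring.closure ((𝒜 0 : Set A) ∪ (𝒜 1 : Set A)) = ⊤)
    {I : Ideal A} (hI : ∀ a ∈ 𝒜 1, a ∈ I) {T : Set A} (hT : T ⊆ (𝒜 1 : Set A))
    (hIT : I = Ideal.span T) (k : ℕ) : ∀ a ∈ 𝒜 k, a ∈ I ^ k := by
  classical
  have hir : ∀ (j : ℕ) (a : A), 0 < j → a ∈ 𝒜 j → a ∈ I := fun j a hj ha => by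
    let π := Ideal.Quotient.mk I
    have hT' : Subring.closure ((𝒜 0 : Set A) ∪ (𝒜 1 : Set A)) ≤
        RingHom.eqLocus π (π.comp (GradedRing.projZeroRingHom 𝒜)) := Subring.closure_le.mpr <| by
      rintro b (hb | hb)
      · change π b = π (decompose 𝒜 b 0 : A)
        rw [decompose_of_mem_same 𝒜 hb]
      · change π b = π (decompose 𝒜 b 0 : A)
        rw [decompose_of_mem_ne 𝒜 hb one_ne_zero, map_zero]
        exact Ideal.Quotient.eq_zero_iff_mem.mpr (hI b hb)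
    have h1 : π a = π (decompose 𝒜 a 0 : A) := hT' (hgen ▸ Subring.mem_top a)
    rw [decompose_of_mem_ne 𝒜 ha (by omega), map_zero] at h1
    exact Ideal.Quotient.eq_zero_iff_mem.mp h1
  induction k with
  | zero => intro a _; rw [pow_zero, Ideal.one_eq_top]; trivial
  | succ k ih =>
    intro a ha
    have h1 : a ∈ Submodule.span A T := by have := hir _ a (Nat.succ_pos k) ha; rwa [hIT] at this
    obtain ⟨c, e⟩ := (Finsupp.mem_span_iff_linearCombination A T a).mp h1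
    rw [Finsupp.linearCombination_apply] at e
    have h2 := congrArg (GradedRing.proj 𝒜 (k + 1)) e
    simp only [GradedRing.proj_apply, decompose_of_mem_same 𝒜 ha, Finsupp.sum, smul_eq_mul] at h2
    rw [decompose_sum, DFinsupp.finset_sum_apply, AddSubmonoidClass.coe_finsetSum] at h2
    rw [← h2, pow_succ]
    refine sum_mem fun t _ => ?_
    rw [coe_decompose_mul_of_right_mem_of_le 𝒜 (hT t.2) (Nat.le_add_left 1 k), Nat.add_sub_cancel]
    exact Ideal.mul_mem_mul (ih _ (cmp_mem 𝒜 _ k)) (hI _ (hT t.2))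

/-- A module with finitely generated tail and vanishing tilde vanishes in large degrees. -/
theorem exists_bound_of_tilde_eq_zero (hgen : Subring.closure ((𝒜 0 : Set A) ∪ (𝒜 1 : Set A)) = ⊤)
    (T : Finset A) (hT : (T : Set A) ⊆ (𝒜 1 : Set A))
    (hspan : ∀ a ∈ 𝒜 1, a ∈ Ideal.span (T : Set A)) {n : ℕ}
    (hTF : (Submodule.span A (⋃ k ∈ Set.Ici n, (ℳ k : Set M))).FG)
    (h0 : ∀ g ∈ 𝒜 1, ∀ s : Γ(GrMod.tilde 𝒜 ℳ 0, Proj.basicOpen 𝒜 g), s = 0) :
    ∃ J : ℕ, ∀ k, J ≤ k → ∀ m ∈ ℳ k, m = 0 := by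
  classical
  have hnil : ∀ (g : A) (hg : g ∈ 𝒜 1) (m : M), ∃ K : ℕ, g ^ K • m = 0 := fun g hg m => by
    induction m using DirectSum.Decomposition.inductionOn ℳ with
    | zero => exact ⟨0, smul_zero _⟩
    | add a b ha hb =>
      obtain ⟨k, hk⟩ := ha
      obtain ⟨l, hl⟩ := hb
      exact ⟨k + l, by
        rw [smul_add, pow_add, mul_smul _ _ b, hl, smul_zero, add_zero, mul_comm, mul_smul, hk,
          smul_zero]⟩
    | homogeneous m =>
      rename_i i
      refine exists_pow_smul_eq_zero 𝒜 ℳ m.2 one_pos hg fun x hx => ?_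
      have hi : (i : ℤ) = ((i • 1 : ℕ) : ℤ) + 0 := by simp
      exact (fr_eq_zero_iff 𝒜 x (not_mem_pow 𝒜 hx i)).mp
        (congrArg (fun s => pt 𝒜 ℳ s ⟨x, (ProjectiveSpectrum.mem_basicOpen 𝒜 g x).mpr hx⟩)
          (h0 g hg (sec 𝒜 ℳ hg 0 m.2 hi)))
  obtain ⟨G₀, hG⟩ := hTF
  let G : Finset M := G₀.biUnion fun x => (decompose ℳ x).support.image fun d => (decompose ℳ x d : M)
  let N := Submodule.span A (G : Set M)
  have hGhom : ∀ x ∈ G, ∃ d, x ∈ ℳ d := fun x hx => by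
    obtain ⟨y, -, hy⟩ := Finset.mem_biUnion.mp hx
    obtain ⟨d, -, rfl⟩ := Finset.mem_image.mp hy
    exact ⟨d, (decompose ℳ y d).2⟩
  choose e he using fun x : G => hGhom x.1 x.2
  have hG₀ : Submodule.span A (G₀ : Set M) ≤ N := Submodule.span_le.mpr fun x hx => by
    change x ∈ N
    rw [← DirectSum.sum_support_decompose ℳ x]
    exact sum_mem fun d hd => Submodule.subset_span (Finset.mem_coe.mpr (Finset.mem_biUnion.mpr
      ⟨x, hx, Finset.mem_image.mpr ⟨d, hd, rfl⟩⟩))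
  have hle : Ideal.span (T : Set A) ≤ (N.annihilator).radical := by
    refine Ideal.span_le.mpr fun g hg => ?_
    choose K hK using hnil g (hT hg)
    refine ⟨G.sup K, (Submodule.mem_annihilator_span _ _).mpr fun x => ?_⟩
    have hx := Finset.le_sup (f := K) x.2
    rw [show G.sup K = (G.sup K - K x.1) + K x.1 by omega, pow_add, mul_smul, hK, smul_zero]
  obtain ⟨J, hJ⟩ := Ideal.exists_pow_le_of_le_radical_of_fg hle ⟨T, rfl⟩
  refine ⟨Finset.univ.sup e + J + n, fun k hk m hm => ?_⟩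
  have hmN : m ∈ N := hG₀ (by
    rw [hG]
    exact Submodule.subset_span (Set.mem_iUnion₂.mpr
      ⟨k, (by simp only [Set.mem_Ici]; omega), hm⟩))
  suffices key : ∀ z ∈ N, ∀ a : A, (decompose ℳ (a • z) k : M) = 0 by
    rw [← decompose_of_mem_same ℳ hm, ← one_smul A m]; exact key m hmN 1
  intro z hz
  induction hz using Submodule.span_induction with
  | mem x hx =>
    intro a
    have h1 := Finset.le_sup (f := e) (Finset.mem_univ ⟨x, hx⟩)
    rw [show k = (k - e ⟨x, hx⟩) + e ⟨x, hx⟩ by omega,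
      decompose_smul_of_mem 𝒜 ℳ a (he ⟨x, hx⟩)]
    have h2 : cmp 𝒜 a (k - e ⟨x, hx⟩) ∈ N.annihilator := hJ (Ideal.pow_le_pow_right (by omega)
      (mem_pow_of_gen 𝒜 hgen hspan hT rfl _ _ (cmp_mem 𝒜 a _)))
    exact Submodule.mem_annihilator.mp h2 x (Submodule.subset_span hx)
  | zero => simp
  | add x y _ _ hx hy =>
    intro a
    rw [smul_add, decompose_add, DirectSum.add_apply, AddMemClass.coe_add, hx, hy, add_zero]
  | smul b x _ hx =>
    intro a
    rw [smul_smul]; exact hx _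

section Res

lemma bijective_res_left {X : Scheme.{u}} (N : X.Modules) {U V : X.Opens} (h : V ≤ U) (h' : U ≤ V) :
    Function.Injective (res N h) :=
  Function.LeftInverse.injective (g := res N h') fun s => by rw [QC.res_res, QC.res_self]

end Res

section Rel

omit M τ ℳ

variable {S P : Scheme.{u}} {𝒮 : RelProj.QCGrAlg S} {D : Datum 𝒮} {q : P ⟶ S}
  {ch : ∀ (U : S.Opens) (hU : IsAffineOpen U), ((q ⁻¹ᵁ U : P.Opens) : Scheme.{u}) ≅ Proj (𝒮.deg U hU)}
  {F : P.Modules} {lam : ∀ (U : S.Opens) (hU : IsAffineOpen U), F ⟶ D.E q ch 0 U hU}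
  (hF : D.IsTilde q ch 0 F lam) (hgen : 𝒮.IsGenDegOne)
  (hTF : ∃ n : ℕ, ∀ (U : S.Opens) (hU : IsAffineOpen U),
    (Submodule.span (𝒮.presheaf.obj (op U)) (⋃ k ∈ Set.Ici n, (D.deg U hU k : Set (D.M U)))).FG)

include hF hgen hTF

/-- The module attached to a system with (TF) is of finite type. -/
theorem isFT_of_isTF : CohB1.IsFT F := by
  obtain ⟨n, hn⟩ := hTF
  refine QC.isFT_of_local fun x => ?_
  obtain ⟨U, hU, y, hy⟩ := exists_affine_point (𝒮 := 𝒮) (q := q) (ch := ch) x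
  obtain ⟨e⟩ := nonempty_restrict_iso (RelProj.emb q ch U hU) (lam U hU) (hF.bijective' U hU)
  exact ⟨_, RelProj.emb q ch U hU, inferInstance, ⟨y, hy⟩, QC.isFT_of_epi e.inv
    (isFT_tilde_of_deg_one (𝒮.deg U hU) (D.deg U hU)
      (exists_deg_one_not_mem (𝒮.deg U hU) (hgen U hU)) (hn U hU))⟩

/-- Vanishing of the attached module gives vanishing in large degrees on each affine open. -/
theorem exists_bound_of_isZero (hft : 𝒮.IsFTDeg 1) (h0 : IsZero F) (U : S.Opens)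
    (hU : IsAffineOpen U) : ∃ J : ℕ, ∀ k, J ≤ k → ∀ m ∈ D.deg U hU k, m = 0 := by
  obtain ⟨n, hn⟩ := hTF
  obtain ⟨T, hT, hspan⟩ := hft U hU
  refine exists_bound_of_tilde_eq_zero (𝒮.deg U hU) (D.deg U hU) (hgen U hU) T hT (fun a ha => ?_)
    (hn U hU) fun g hg s => ?_
  · obtain ⟨c, rfl⟩ := hspan a ha
    exact sum_mem fun t ht => Ideal.mul_mem_left _ _ (Ideal.subset_span ht)
  · let E := RelProj.emb q ch U hU
    have hs : ∀ (V : P.Opens) (t : Γ(F, V)), t = 0 := fun V t =>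
      congrArg (fun φ : F ⟶ F => φ.app V t) ((IsZero.iff_id_eq_zero F).mp h0)
    obtain ⟨t, ht⟩ := (hF.bijective' U hU (E ''ᵁ Proj.basicOpen (𝒮.deg U hU) g)
      (E.image_le_opensRange _)).2 (res (D.til 0 U hU) (E.preimage_image_eq _).le s)
    rw [hs _ t, map_zero] at ht
    refine (bijective_res_left (D.til 0 U hU) (E.preimage_image_eq _).le
      (E.preimage_image_eq _).ge) ?_
    rw [map_zero]
    exact ht.symm

end Rel

section Local

variable {S : Scheme.{u}} {𝒮 : RelProj.QCGrAlg S} (D : Datum 𝒮)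

omit M τ ℳ

lemma deg_eq_zero_of_isB {U V : S.Opens} (hU : IsAffineOpen U) (hV : IsAffineOpen V) (b : IsB V U)
    {k : ℕ} (h : ∀ m ∈ D.deg U hU k, m = 0) (t : D.M V) (ht : t ∈ D.deg V hV k) : t = 0 := by
  obtain ⟨r, rfl⟩ := b
  have H := D.isLocPair U hU r
  obtain ⟨a, j, hj⟩ := H.surjM t
  have h1 : 𝒮.res hU hV (S.basicOpen_le r) ((𝒮.str.app (op U)).hom r) ^ j • t ∈
      D.deg (S.basicOpen r) hV k := by
    have h2 := SetLike.pow_mem_graded j ((𝒮.res hU hV (S.basicOpen_le r)).map_mem H.deg_zero)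
    rw [smul_zero] at h2
    simpa using smul_mem_graded (𝒮.deg _ hV) (D.deg _ hV) h2 ht
  have h3 := map_decompose_semilinear (𝒮.res hU hV (S.basicOpen_le r)) (D.deg U hU) (D.deg _ hV)
    (D.res hU hV (S.basicOpen_le r)) H.map_mem a k
  rw [h _ (decompose (D.deg U hU) a k).2, map_zero, ← hj, decompose_of_mem_same _ h1] at h3
  exact ((H.isUnit_map).pow j).smul_eq_zero.mp h3.symm

end Local

end Groth.Agent.RelTilde
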