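import Groth.Agent.RelTilde.Dehom
import Mathlib.RingTheory.IsTensorProduct

/-!
Base change of the twisting sheaves along an extension of scalars.
-/

set_option autoImplicit false
set_option backward.isDefEq.respectTransparency false
set_option linter.style.haveILetI false

universe u

open CategoryTheory DirectSum TopologicalSpace AlgebraicGeometry Opposite
  HomogeneousLocalization
open scoped HomogeneousIdeal

noncomputable section

namespace Groth.Agent.RelTilde

lemma away_index {A σ : Type u} [CommRing A] [SetLike σ A] [AddSubgroupClass σ A] (𝒜 : ℕ → σ)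
    [GradedRing 𝒜] {f : A} {d : ℕ} (hf : f ∈ 𝒜 d) {k l : ℕ} (h : k = l) {a : A} (ha : a ∈ 𝒜 (k • d))
    (hb : a ∈ 𝒜 (l • d)) : away 𝒜 hf k ha = away 𝒜 hf l hb := by
  subst h; rfl

section

variable {A B σ σ' : Type u} [CommRing A] [CommRing B] [SetLike σ A] [AddSubgroupClass σ A]
  {𝒜 : ℕ → σ} [GradedRing 𝒜] [SetLike σ' B] [AddSubgroupClass σ' B] {ℬ : ℕ → σ'} [GradedRing ℬ]
  (ψ : 𝒜 →+*ᵍ ℬ)

/-- `ψ` as a semilinear map. -/
def ringHomSemilinear : A →ₛₗ[ψ.toRingHom] B where
  toFun := ψ
  map_add' := map_add ψ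
  map_smul' a b := map_mul ψ a b

lemma ringHomSemilinear_mem (i : ℕ) (a : A) (ha : a ∈ 𝒜 i) : ringHomSemilinear ψ a ∈ ℬ i :=
  ψ.map_mem ha

end

variable {R R' A B σ σ' : Type u} [CommRing R] [CommRing R'] [CommRing A] [CommRing B]
  [Algebra R R'] [Algebra R A] [Algebra R' B] [Algebra R B] [Algebra A B]
  [IsScalarTower R R' B] [IsScalarTower R A B]
  [SetLike σ A] [AddSubgroupClass σ A] {𝒜 : ℕ → σ} [GradedRing 𝒜]
  [SetLike σ' B] [AddSubgroupClass σ' B] {ℬ : ℕ → σ'} [GradedRing ℬ]
  (ψ : 𝒜 →+*ᵍ ℬ) (hψ : ℬ₊ ≤ (𝒜₊).map ψ)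
  (hψA : ∀ a, ψ a = algebraMap A B a)
  (hR : ∀ r : R, algebraMap R A r ∈ 𝒜 0) (hR' : ∀ r : R', algebraMap R' B r ∈ ℬ 0)

/-- The component in degree `i`. -/
def component {C σ'' : Type u} [CommRing C] [SetLike σ'' C] [AddSubgroupClass σ'' C]
    (𝒞 : ℕ → σ'') [GradedRing 𝒞] (i : ℕ) : C →+ C :=
  AddMonoidHom.mk' (fun c => (decompose 𝒞 c i : C)) fun a b => by
    simp only [decompose_add, DirectSum.add_apply, AddMemClass.coe_add]

lemma component_apply {C σ'' : Type u} [CommRing C] [SetLike σ'' C] [AddSubgroupClass σ'' C]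
    (𝒞 : ℕ → σ'') [GradedRing 𝒞] (i : ℕ) (c : C) : component 𝒞 i c = (decompose 𝒞 c i : C) := rfl

lemma component_mem {C σ'' : Type u} [CommRing C] [SetLike σ'' C] [AddSubgroupClass σ'' C]
    (𝒞 : ℕ → σ'') [GradedRing 𝒞] (i : ℕ) (c : C) : component 𝒞 i c ∈ 𝒞 i :=
  (decompose 𝒞 c i).2

lemma component_zero_mul {C σ'' : Type u} [CommRing C] [SetLike σ'' C] [AddSubgroupClass σ'' C]
    (𝒞 : ℕ → σ'') [GradedRing 𝒞] {r : C} (hr : r ∈ 𝒞 0) (i : ℕ) (c : C) :
    component 𝒞 i (r * c) = r * component 𝒞 i c := by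
  rw [component_apply, coe_decompose_mul_of_left_mem_of_le 𝒞 hr (Nat.zero_le i), Nat.sub_zero]
  rfl

lemma component_map {C D σ'' σ''' : Type u} [CommRing C] [CommRing D] [SetLike σ'' C]
    [AddSubgroupClass σ'' C] {𝒞 : ℕ → σ''} [GradedRing 𝒞] [SetLike σ''' D] [AddSubgroupClass σ''' D]
    {𝒟 : ℕ → σ'''} [GradedRing 𝒟] (χ : 𝒞 →+*ᵍ 𝒟) (i : ℕ) (c : C) :
    component 𝒟 i (χ c) = χ (component 𝒞 i c) := by
  rw [component_apply, component_apply, GradedRingHom.map_directSumDecompose]

include hψA hR hR'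

set_option maxHeartbeats 3200000 in
set_option synthInstance.maxHeartbeats 400000 in
/-- Extension of scalars gives base change of sections of `O(n)` over `D₊(f)`. -/
theorem isBC_self (hB : IsBaseChange R' (IsScalarTower.toAlgHom R A B).toLinearMap) {f : A} {d : ℕ}
    (hf : f ∈ 𝒜 d) (hd : 0 < d) (n : ℤ) :
    IsBC (Proj.map ψ hψ)
      (GrMod.comap ψ hψ (ringHomSemilinear ψ) (ringHomSemilinear_mem ψ) n)
      (basicOpen_le_preimage 𝒜 ψ hψ f) := by
  classical
  have hf' := ψ.map_mem hf
  have hmem : ∀ r : R', algebraMap R' B r ∈ ℬ ((0 : ℕ) • d) := fun r => by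
    rw [zero_smul]; exact hR' r
  have htoA : ∀ a, (IsScalarTower.toAlgHom R A B).toLinearMap a = ψ a := fun a => (hψA a).symm
  let ρ : R' →+* Γ(Proj ℬ, Proj.basicOpen ℬ (ψ f)) :=
    RingHom.mk' ⟨⟨fun r => away ℬ hf' 0 (hmem r), by
      rw [away_congr ℬ hf' (map_one (algebraMap R' B)) _ (map_one (algebraMap R' B) ▸ hmem 1), away_one]⟩,
      fun r r' => by
        rw [← away_mul ℬ hf' (hmem r) (hmem r') (map_mul (algebraMap R' B) r r' ▸ hmem (r * r'))]
        exact away_congr ℬ hf' (map_mul (algebraMap R' B) r r') _ _⟩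
      fun r r' => by
        change away ℬ hf' 0 (hmem (r + r')) = away ℬ hf' 0 (hmem r) + away ℬ hf' 0 (hmem r')
        rw [← away_add]
        exact away_congr ℬ hf' (map_add (algebraMap R' B) r r') _ _
  have hcr : ∀ (i : ℕ) (r : R') (e : B), component ℬ i (r • e) = r • component ℬ i e := fun i r e => by
    rw [Algebra.smul_def r e, component_zero_mul ℬ (hR' r), ← Algebra.smul_def]
  refine isBC_comap 𝒜 𝒜 hf n ℬ ψ hψ _ _ hd (fun Q _ _ w => ?_) fun Q _ _ F F' hFF' => ?_
  · letI : Module R' Q := Module.compHom Q ρ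
    letI : Module R Q := Module.compHom Q (algebraMap R R')
    haveI : IsScalarTower R R' Q := IsScalarTower.of_algebraMap_smul fun _ _ => rfl
    have hρ : ∀ (r : R') (q : Q), r • q = ρ r • q := fun _ _ => rfl
    let P : ℕ → Prop := fun i => ∃ k : ℕ, (i : ℤ) = ((k • d : ℕ) : ℤ) + n
    let α : ∀ i : ℕ, 𝒜 i →+ Q := fun i => if h : P i then
      AddMonoidHom.mk' (fun a => w (sec 𝒜 𝒜 hf n a.2 h.choose_spec)) (fun a b => by
        rw [← map_add]
        congr 1
        refine pt_ext 𝒜 𝒜 fun y => ?_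
        have hy := (ProjectiveSpectrum.mem_basicOpen 𝒜 f y.1).mp y.2
        refine Eq.trans ?_ (fr_add 𝒜 y.1 (not_mem_pow 𝒜 hy _) (not_mem_pow 𝒜 hy _)).symm
        exact fr_congr 𝒜 y.1 _ _ (by simp only [AddMemClass.coe_add, smul_eq_mul]; ring))
      else 0
    let w' : A →+ Q :=
      (DirectSum.toAddMonoid α).comp (DirectSum.decomposeAddEquiv 𝒜).toAddMonoidHom
    have hw' : ∀ (k i : ℕ) (a : A) (ha : a ∈ 𝒜 i) (hi : (i : ℤ) = ((k • d : ℕ) : ℤ) + n),
        w' a = w (sec 𝒜 𝒜 hf n ha hi) := fun k i a ha hi => by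
      have h : P i := ⟨k, hi⟩
      change DirectSum.toAddMonoid α (decompose 𝒜 a) = _
      rw [decompose_of_mem 𝒜 ha, DirectSum.toAddMonoid_of]
      simp only [α, dif_pos h, AddMonoidHom.mk'_apply]
      congr 1
      refine pt_ext 𝒜 𝒜 fun y => fr_congr 𝒜 y.1 _ _ ?_
      have hk : h.choose = k := by
        have h1 := h.choose_spec
        have h2 : h.choose * d = k * d := by simp only [smul_eq_mul] at h1 hi; omega
        exact Nat.eq_of_mul_eq_mul_right hd h2
      rw [hk]
    have hw0 : ∀ (i : ℕ) (a : A), a ∈ 𝒜 i → ¬ P i → w' a = 0 := fun i a ha h => by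
      change DirectSum.toAddMonoid α (decompose 𝒜 a) = _
      rw [decompose_of_mem 𝒜 ha, DirectSum.toAddMonoid_of]
      simp only [α, dif_neg h, AddMonoidHom.zero_apply]
    have hwR : ∀ (r : R) (a : A), w' (algebraMap R A r * a) = ρ (algebraMap R R' r) • w' a := by
      intro r a
      induction a using DirectSum.Decomposition.inductionOn 𝒜 with
      | zero => simp
      | add a b ha hb => rw [mul_add, map_add, ha, hb, map_add, smul_add]
      | homogeneous a =>
        rename_i i
        have hra : algebraMap R A r * a ∈ 𝒜 i := by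
          simpa using SetLike.mul_mem_graded (hR r) a.2
        by_cases h : P i
        · obtain ⟨k, hk⟩ := h
          have hr0 : algebraMap R A r ∈ 𝒜 ((0 : ℕ) • d) := by rw [zero_smul]; exact hR r
          rw [hw' k i _ hra hk, hw' k i _ a.2 hk,
            show sec 𝒜 𝒜 hf n hra hk = away 𝒜 hf 0 hr0 • sec 𝒜 𝒜 hf n a.2 hk from by
              rw [away_smul_sec]
              exact pt_ext 𝒜 𝒜 fun y => fr_congr 𝒜 y.1 _ _ (by simp only [zero_add, smul_eq_mul]),
            map_smulₛₗ w, appLE_away]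
          congr 1
          refine away_congr ℬ hf' ?_ _ _
          refine (hψA _).trans ?_
          rw [← IsScalarTower.algebraMap_apply, ← IsScalarTower.algebraMap_apply]
        · rw [hw0 i _ hra h, hw0 i _ a.2 h, smul_zero]
    let wR : A →ₗ[R] Q :=
      { toFun := w'
        map_add' := map_add w'
        map_smul' := fun r a => by
          rw [Algebra.smul_def, RingHom.id_apply, hwR]
          rfl }
    let G : B →ₗ[R'] Q := hB.lift wR
    have hG : ∀ a, G (ψ a) = w' a := fun a => by
      rw [← htoA]; exact hB.lift_eq wR a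
    let W : ∀ l : ℕ, B →+ Γ(Proj ℬ, Proj.basicOpen ℬ (ψ f)) := fun l =>
      AddMonoidHom.mk' (fun e => away ℬ hf' l (component_mem ℬ (l • d) e)) fun e e' => by
        refine (away_congr ℬ hf' (map_add (component ℬ (l • d)) e e') _
          (add_mem (component_mem ℬ (l • d) e) (component_mem ℬ (l • d) e'))).trans ?_
        exact away_add ℬ hf' _ _
    have hWr : ∀ (l : ℕ) (r : R') (e : B), W l (r • e) = ρ r * W l e := fun l r e => by
      have hre : component ℬ (l • d) (r • e) = algebraMap R' B r * component ℬ (l • d) e :=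
        (hcr _ r e).trans (Algebra.smul_def r _)
      have hmre : algebraMap R' B r * component ℬ (l • d) e ∈ ℬ ((0 + l) • d) := by
        rw [zero_add, ← hre]
        exact component_mem ℬ (l • d) _
      have hmre' : algebraMap R' B r * component ℬ (l • d) e ∈ ℬ (l • d) := by
        rwa [zero_add] at hmre
      refine (away_congr ℬ hf' hre _ hmre').trans ?_
      refine (away_index ℬ hf' (zero_add l) hmre hmre').symm.trans ?_
      exact away_mul ℬ hf' (hmem r) (component_mem ℬ (l • d) e) hmre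
    have key : ∀ (l k i : ℕ), (i : ℤ) = ((k • d : ℕ) : ℤ) + n → ∀ (e b : B),
        G (component ℬ (l • d) e * component ℬ i b) = W l e • G (component ℬ i b) := by
      intro l k i hi e b
      induction b using hB.inductionOn with
      | zero => simp
      | add b b' hb hb' => rw [map_add, mul_add, map_add, hb, hb', map_add, smul_add]
      | smul r b hb =>
        rw [hcr, mul_smul_comm, map_smul, map_smul, hb, hρ, hρ, ← mul_smul, ← mul_smul, mul_comm]
      | tmul a =>
        rw [htoA, component_map ψ i a]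
        induction e using hB.inductionOn with
        | zero => rw [map_zero, zero_mul, map_zero, map_zero, zero_smul]
        | add e e' he he' => rw [map_add, add_mul, map_add, he, he', map_add, add_smul]
        | smul r e he =>
          rw [hcr, smul_mul_assoc, map_smul, he, hWr, hρ, ← mul_smul]
        | tmul a' =>
          have ha := component_mem 𝒜 i a
          have he := component_mem 𝒜 (l • d) a'
          have hea := SetLike.mul_mem_graded he ha
          have hi' : ((l • d + i : ℕ) : ℤ) = (((l + k) • d : ℕ) : ℤ) + n := by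
            rw [add_smul]; push_cast; omega
          have hW : W l ((IsScalarTower.toAlgHom R A B).toLinearMap a') =
              away ℬ hf' l (ψ.map_mem he) := by
            refine away_congr ℬ hf' ?_ _ _
            rw [htoA, component_map ψ (l • d) a']
            rfl
          rw [hW, htoA, component_map ψ (l • d) a', ← map_mul, hG, hG, hw' _ _ _ hea hi',
            hw' _ _ _ ha hi, ← appLE_away 𝒜 hf ψ hψ he, ← map_smulₛₗ w, away_smul_sec]
    refine ⟨G.toAddMonoidHom, fun l e he k i b hb hi => ?_, fun k i m hm hi => ?_⟩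
    · have h := key l k i hi e b
      have he' : component ℬ (l • d) e = e := decompose_of_mem_same ℬ he
      have hb' : component ℬ i b = b := decompose_of_mem_same ℬ hb
      rw [show W l e = away ℬ hf' l he from away_congr ℬ hf' he' _ _, he', hb'] at h
      exact h
    · exact (hG m).trans (hw' k i m hm hi)
  · letI : Module R' Q := Module.compHom Q ρ
    refine LinearMap.ext fun s => ?_
    obtain ⟨k, i, b, hb, hi, rfl⟩ := exists_sec ℬ ℬ hf' n hd s
    suffices key : ∀ b : B, F (sec ℬ ℬ hf' n (component_mem ℬ i b) hi) =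
        F' (sec ℬ ℬ hf' n (component_mem ℬ i b) hi) by
      have hb' : component ℬ i b = b := decompose_of_mem_same ℬ hb
      have h := key b
      simp only [hb'] at h
      exact h
    clear b hb
    intro b
    induction b using hB.inductionOn with
    | zero =>
      have h0 : sec ℬ ℬ hf' n (component_mem ℬ i 0) hi = 0 := pt_ext ℬ ℬ fun y => by
        rw [pt_sec]
        simp only [map_zero]
        exact fr_zero ℬ y.1 _
      rw [h0, map_zero, map_zero]
    | add b b' hb hb' =>
      have h1 : sec ℬ ℬ hf' n (component_mem ℬ i (b + b')) hi =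
          sec ℬ ℬ hf' n (component_mem ℬ i b) hi + sec ℬ ℬ hf' n (component_mem ℬ i b') hi := by
        refine pt_ext ℬ ℬ fun y => ?_
        have hy := (ProjectiveSpectrum.mem_basicOpen ℬ _ y.1).mp y.2
        refine Eq.trans ?_ (fr_add ℬ y.1 (not_mem_pow ℬ hy k) (not_mem_pow ℬ hy k)).symm
        exact fr_congr ℬ y.1 _ _ (by simp only [map_add, smul_eq_mul]; ring)
      rw [h1, map_add, map_add, hb, hb']
    | smul r b hb =>
      have h1 : sec ℬ ℬ hf' n (component_mem ℬ i (r • b)) hi =
          away ℬ hf' 0 (hmem r) • sec ℬ ℬ hf' n (component_mem ℬ i b) hi := by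
        rw [away_smul_sec]
        refine pt_ext ℬ ℬ fun y => fr_congr ℬ y.1 _ _ ?_
        simp only [zero_add, smul_eq_mul, Algebra.smul_def, component_zero_mul ℬ (hR' r)]
      rw [h1, map_smul, map_smul, hb]
    | tmul a =>
      have h1 : sec ℬ ℬ hf' n (component_mem ℬ i ((IsScalarTower.toAlgHom R A B).toLinearMap a)) hi =
          sec ℬ ℬ hf' n (ringHomSemilinear_mem ψ i _ (component_mem 𝒜 i a)) hi := by
        refine pt_ext ℬ ℬ fun y => fr_congr ℬ y.1 _ _ ?_
        rw [htoA, component_map ψ i a]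
        rfl
      rw [h1]
      exact hFF' k i _ (component_mem 𝒜 i a) hi

set_option maxHeartbeats 800000 in
/-- `Φ^* O(n) ⟶ O(n)` is an isomorphism for an extension of scalars. -/
theorem isIso_adjunct_self (hB : IsBaseChange R' (IsScalarTower.toAlgHom R A B).toLinearMap) (n : ℤ) :
    IsIso (((Scheme.Modules.pullbackPushforwardAdjunction (Proj.map ψ hψ)).homEquiv _ _).symm
      (GrMod.comap ψ hψ (ringHomSemilinear ψ) (ringHomSemilinear_mem ψ) n)) := by
  refine isIso_adjunct (Proj.map ψ hψ) _ (isQCoh_tilde 𝒜 𝒜 n) (isQCoh_tilde ℬ ℬ n) fun y => ?_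
  obtain ⟨d, g, hd, hg, hgy⟩ := exists_pos_homog 𝒜 (ProjectiveSpectrum.comap ψ hψ y)
  exact ⟨_, Proj.isAffineOpen_basicOpen 𝒜 g hg hd, _,
    Proj.isAffineOpen_basicOpen ℬ (ψ g) (ψ.map_mem hg) hd, basicOpen_le_preimage 𝒜 ψ hψ g,
    (ProjectiveSpectrum.mem_basicOpen ℬ _ y).mpr hgy,
    isBC_self ψ hψ hψA hR hR' hB hg hd n⟩

end Groth.Agent.RelTilde
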