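import Groth.Agent.RelTilde.Transfer
import Groth.Agent.RelTilde.ScalarExt

/-!
Twisting sheaves of a relative Proj under base change.
-/

set_option autoImplicit false
set_option backward.isDefEq.respectTransparency false
set_option linter.style.haveILetI false

universe u

open CategoryTheory CategoryTheory.Limits DirectSum TopologicalSpace AlgebraicGeometry Opposite
open scoped HomogeneousIdeal

noncomputable section

namespace Groth.Agent.RelTilde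

variable {Y Y' P P' : Scheme.{u}} (ψ : Y' ⟶ Y) {𝒮 : RelProj.QCGrAlg Y} {𝒮' : RelProj.QCGrAlg Y'}
  (φ : ∀ (U : Y.Opens) (hU : IsAffineOpen U) (U' : Y'.Opens) (hU' : IsAffineOpen U') (_ : U' ≤ ψ ⁻¹ᵁ U),
    𝒮.deg U hU →+*ᵍ 𝒮'.deg U' hU')

/-- Pairs of affine opens `U' → U`. -/
structure AffPair where
  U : Y.Opens
  hU : IsAffineOpen U
  U' : Y'.Opens
  hU' : IsAffineOpen U'
  le : U' ≤ ψ ⁻¹ᵁ U

variable (hirr : ∀ (U : Y.Opens) (hU : IsAffineOpen U) (U' : Y'.Opens) (hU' : IsAffineOpen U')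
    (hle : U' ≤ ψ ⁻¹ᵁ U), (𝒮'.deg U' hU')₊ ≤ ((𝒮.deg U hU)₊).map (φ U hU U' hU' hle))
  (hnat : ∀ (i k : AffPair ψ) (b : k.U ≤ i.U) (b' : k.U' ≤ i.U') (a : 𝒮.presheaf.obj (op i.U)),
    𝒮'.res i.hU' k.hU' b' (φ i.U i.hU i.U' i.hU' i.le a) =
      φ k.U k.hU k.U' k.hU' k.le (𝒮.res i.hU k.hU b a))
  {p : P ⟶ Y}
  (chart : ∀ (U : Y.Opens) (hU : IsAffineOpen U), (((p ⁻¹ᵁ U : P.Opens) : Scheme.{u}) ≅ Proj (𝒮.deg U hU)))
  {p' : P' ⟶ Y'}
  (chart' : ∀ (U' : Y'.Opens) (hU' : IsAffineOpen U'),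
    (((p' ⁻¹ᵁ U' : P'.Opens) : Scheme.{u}) ≅ Proj (𝒮'.deg U' hU')))
  (g : P' ⟶ P)
  (hg : ∀ (U : Y.Opens) (hU : IsAffineOpen U) (U' : Y'.Opens) (hU' : IsAffineOpen U') (hle : U' ≤ ψ ⁻¹ᵁ U),
    (p' ⁻¹ᵁ U').ι ≫ g =
      (chart' U' hU').hom ≫ Proj.map (φ U hU U' hU' hle) (hirr U hU U' hU' hle) ≫ RelProj.emb p chart U hU)

include hirr hnat hg in
/-- The chart maps of a base change. -/
@[reducible] def ChartMap.ofBaseChange :
    ChartMap (Datum.self 𝒮) (Datum.self 𝒮') p p' chart chart' g where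
  ι := AffPair ψ
  U i := i.U
  U' i := i.U'
  hU i := i.hU
  hU' i := i.hU'
  cover x := by
    obtain ⟨U, hU, hxU, -⟩ :=
      exists_isAffineOpen_mem_and_subset (x := ψ.base (p'.base x)) (U := ⊤) trivial
    obtain ⟨U', hU', hxU', hle⟩ :=
      exists_isAffineOpen_mem_and_subset (x := p'.base x) (U := ψ ⁻¹ᵁ U) hxU
    exact ⟨⟨U, hU, U', hU', hle⟩, hxU'⟩
  χ i := φ i.U i.hU i.U' i.hU' i.le
  hirr i := hirr i.U i.hU i.U' i.hU' i.le
  v i := ringHomSemilinear (φ i.U i.hU i.U' i.hU' i.le)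
  hv i := ringHomSemilinear_mem _
  square i := by
    change ((chart' i.U' i.hU').inv ≫ (p' ⁻¹ᵁ i.U').ι) ≫ g = _
    rw [Category.assoc, hg i.U i.hU i.U' i.hU' i.le, Iso.inv_hom_id_assoc]
  natRing i k b b' a := hnat i k b.le b'.le a
  natMod i k b b' a := hnat i k b.le b'.le a
  common i j O hO bi bj x hx := by
    obtain ⟨r, r', hrr', hxr⟩ := exists_basicOpen_le_affine_inter i.hU j.hU (ψ.base (p'.base x))
      ⟨i.le (bi.le hx), j.le (bj.le hx)⟩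
    obtain ⟨s, hs, hxs⟩ := hO.exists_basicOpen_le (V := ψ ⁻¹ᵁ Y.basicOpen r) ⟨p'.base x, hxr⟩ hx
    exact ⟨⟨Y.basicOpen r, i.hU.basicOpen r, Y'.basicOpen s, hO.basicOpen s, hs⟩, hxs,
      isB_basicOpen r, ⟨r', hrr'.symm⟩, isB_basicOpen s⟩

variable (hpo : ∀ (U : Y.Opens) (hU : IsAffineOpen U) (U' : Y'.Opens) (hU' : IsAffineOpen U')
    (hle : U' ≤ ψ ⁻¹ᵁ U),
    IsPushout (ψ.appLE U U' hle) (𝒮.str.app (op U)) (𝒮'.str.app (op U'))
      (CommRingCat.ofHom (φ U hU U' hU' hle).toRingHom))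
  (hP : RelProj.IsRelProj 𝒮 p chart) (hP' : RelProj.IsRelProj 𝒮' p' chart')
  (n : ℤ) {L : P.Modules}
  {lam : ∀ (U : Y.Opens) (hU : IsAffineOpen U), L ⟶ (Datum.self 𝒮).E p chart n U hU}
  (hL : (Datum.self 𝒮).IsTilde p chart n L lam) {L' : P'.Modules}
  {lam' : ∀ (U : Y'.Opens) (hU : IsAffineOpen U), L' ⟶ (Datum.self 𝒮').E p' chart' n U hU}
  (hL' : (Datum.self 𝒮').IsTilde p' chart' n L' lam')

set_option maxHeartbeats 1600000 in
include hirr hnat hg hpo hP hP' hL hL' in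
/-- `g^* O(n) ≅ O(n)` under base change. -/
theorem nonempty_pullback_iso_baseChange :
    Nonempty ((Scheme.Modules.pullback g).obj L ≅ L') := by
  let C := ChartMap.ofBaseChange ψ φ hirr hnat chart chart' g hg
  obtain ⟨θ, hθ, -⟩ := C.existsUnique_comap n hP hP' hL hL'
  haveI := C.isIso_adjunct_of_isBC n hL hL' θ hθ fun i y => by
    obtain ⟨d, f, hd, hf, hfy⟩ :=
      exists_pos_homog (𝒮.deg i.U i.hU) (ProjectiveSpectrum.comap (C.χ i) (C.hirr i) y)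
    let χ := φ i.U i.hU i.U' i.hU' i.le
    letI : Algebra Γ(Y, i.U) Γ(Y', i.U') := (ψ.appLE i.U i.U' i.le).hom.toAlgebra
    letI : Algebra Γ(Y, i.U) (𝒮.presheaf.obj (op i.U)) := (𝒮.str.app (op i.U)).hom.toAlgebra
    letI : Algebra Γ(Y', i.U') (𝒮'.presheaf.obj (op i.U')) := (𝒮'.str.app (op i.U')).hom.toAlgebra
    letI : Algebra (𝒮.presheaf.obj (op i.U)) (𝒮'.presheaf.obj (op i.U')) := χ.toRingHom.toAlgebra
    letI : Algebra Γ(Y, i.U) (𝒮'.presheaf.obj (op i.U')) :=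
      ((𝒮'.str.app (op i.U')).hom.comp (ψ.appLE i.U i.U' i.le).hom).toAlgebra
    haveI : IsScalarTower Γ(Y, i.U) Γ(Y', i.U') (𝒮'.presheaf.obj (op i.U')) :=
      .of_algebraMap_eq' rfl
    haveI : IsScalarTower Γ(Y, i.U) (𝒮.presheaf.obj (op i.U)) (𝒮'.presheaf.obj (op i.U')) :=
      .of_algebraMap_eq' (congrArg CommRingCat.Hom.hom (hpo i.U i.hU i.U' i.hU' i.le).w)
    haveI : Algebra.IsPushout Γ(Y, i.U) Γ(Y', i.U') (𝒮.presheaf.obj (op i.U))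
        (𝒮'.presheaf.obj (op i.U')) :=
      CommRingCat.isPushout_iff_isPushout.mp (hpo i.U i.hU i.U' i.hU' i.le)
    exact ⟨d, f, hd, hf, hfy, isBC_self (R := Γ(Y, i.U)) (R' := Γ(Y', i.U')) χ
      (hirr i.U i.hU i.U' i.hU' i.le) (fun _ => rfl) (fun r => 𝒮.str_mem i.U i.hU r)
      (fun r => 𝒮'.str_mem i.U' i.hU' r) Algebra.IsPushout.out hf hd n⟩
  exact ⟨asIso (((Scheme.Modules.pullbackPushforwardAdjunction g).homEquiv L L').symm θ)⟩

end Groth.Agent.RelTilde
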