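import Groth.Agent.RelTilde.Compat
import Groth.Agent.QC.Sections

/-!
The systems attached to a graded module and to the algebra itself, and translation of
`RelProj.IsRelTilde`, `RelProj.IsRelTwist`.
-/

set_option autoImplicit false
set_option backward.isDefEq.respectTransparency false

universe u

open CategoryTheory DirectSum TopologicalSpace AlgebraicGeometry Opposite
open scoped HomogeneousIdeal

noncomputable section

namespace Groth.Agent.RelTilde

section Natural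

variable {A σ : Type u} [CommRing A] [SetLike σ A] [AddSubgroupClass σ A] {𝒜 : ℕ → σ} [GradedRing 𝒜]
  {B σ' : Type u} [CommRing B] [SetLike σ' B] [AddSubgroupClass σ' B] {ℬ : ℕ → σ'} [GradedRing ℬ]
  {M : Type u} [AddCommGroup M] [Module A M] {M' : Type u} [AddCommGroup M'] [Module A M']
  {N : Type u} [AddCommGroup N] [Module B N] {N' : Type u} [AddCommGroup N'] [Module B N']
  (ψ : 𝒜 →+*ᵍ ℬ) (hψ : ℬ₊ ≤ (𝒜₊).map ψ) (v : M →ₛₗ[ψ.toRingHom] N) (v' : M' →ₛₗ[ψ.toRingHom] N')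
  (u : M →ₗ[A] M') (u' : N →ₗ[B] N')

/-- The maps of localised modules commute with the maps along a ring homomorphism. -/
lemma locMap_locModMap (h : ∀ m, u' (v m) = v' (u m)) (y : ProjectiveSpectrum ℬ)
    (x : GrMod.LocMod 𝒜 (M := M) (ProjectiveSpectrum.comap ψ hψ y)) :
    GrMod.locMap u' y (GrMod.locModMap ψ hψ v y x) =
      GrMod.locModMap ψ hψ v' y (GrMod.locMap u _ x) := by
  induction x using LocalizedModule.induction_on with
  | h m s => rw [GrMod.locModMap_mk, GrMod.locMap_mk, GrMod.locMap_mk, GrMod.locModMap_mk, h]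

end Natural

variable {S : Scheme.{u}} (𝒮 : RelProj.QCGrAlg S)

lemma res_str {U V : S.Opens} (hU : IsAffineOpen U) (hV : IsAffineOpen V) (i : V ≤ U) (r : Γ(S, U)) :
    𝒮.res hU hV i ((𝒮.str.app (op U)).hom r) =
      (𝒮.str.app (op V)).hom ((S.presheaf.map (homOfLE i).op).hom r) :=
  (congr($(𝒮.str.naturality (homOfLE i).op) r)).symm

lemma isUnit_res_str {U : S.Opens} (hU : IsAffineOpen U) (r : Γ(S, U)) :
    IsUnit (𝒮.res hU (hU.basicOpen r) (S.basicOpen_le r) ((𝒮.str.app (op U)).hom r)) := by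
  rw [res_str]
  exact (RingedSpace.isUnit_res_basicOpen _ r).map _

lemma surj_res {U : S.Opens} (hU : IsAffineOpen U) (r : Γ(S, U))
    (b : 𝒮.presheaf.obj (op (S.basicOpen r))) :
    ∃ (a : 𝒮.presheaf.obj (op U)) (k : ℕ),
      𝒮.res hU (hU.basicOpen r) (S.basicOpen_le r) ((𝒮.str.app (op U)).hom r) ^ k * b =
        𝒮.res hU (hU.basicOpen r) (S.basicOpen_le r) a := by
  let _inst := (𝒮.presheaf.map (homOfLE (S.basicOpen_le r)).op).hom.toAlgebra
  have hloc : IsLocalization.Away ((𝒮.str.app (op U)).hom r) (𝒮.presheaf.obj (op (S.basicOpen r))) :=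
    𝒮.isQC U hU r
  obtain ⟨k, a, ha⟩ := IsLocalization.Away.surj ((𝒮.str.app (op U)).hom r) b
  exact ⟨a, k, (mul_comm _ b).trans ha⟩

lemma ker_res {U : S.Opens} (hU : IsAffineOpen U) (r : Γ(S, U)) (a : 𝒮.presheaf.obj (op U))
    (h : 𝒮.res hU (hU.basicOpen r) (S.basicOpen_le r) a = 0) :
    ∃ k : ℕ, (𝒮.str.app (op U)).hom r ^ k * a = 0 := by
  let _inst := (𝒮.presheaf.map (homOfLE (S.basicOpen_le r)).op).hom.toAlgebra
  have hloc : IsLocalization.Away ((𝒮.str.app (op U)).hom r) (𝒮.presheaf.obj (op (S.basicOpen r))) :=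
    𝒮.isQC U hU r
  obtain ⟨⟨_, k, rfl⟩, hk⟩ := (IsLocalization.map_eq_zero_iff (Submonoid.powers ((𝒮.str.app (op U)).hom r))
    (𝒮.presheaf.obj (op (S.basicOpen r))) a).mp h
  exact ⟨k, hk⟩

variable {𝒮} in
/-- The system of a quasi-coherent graded module. -/
@[reducible] def Datum.ofGrModule (ℳ : RelProj.GrModule 𝒮)
    (hℳ : Coh.IsQCoh ((AMod.toOS 𝒮.toQCAlg).obj ℳ.mod)) : Datum 𝒮 where
  M U := ℳ.mod.val.obj (op U)
  addCommGroup _ := inferInstance
  module _ := inferInstance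
  deg := ℳ.deg
  decomp := ℳ.decomp
  gradedSMul := ℳ.gradedSMul
  res hU hV i := ℳ.res hU hV i
  res_comp hU hV hW i j m := by
    exact QC.res_res ((AMod.toOS 𝒮.toQCAlg).obj ℳ.mod) j i m
  isLocPair U hU r :=
    { deg_zero := 𝒮.str_mem U hU r
      isUnit_map := isUnit_res_str 𝒮 hU r
      surjA := surj_res 𝒮 hU r
      surjM := fun t => by
        have := (QC.isLoc_of_isQCoh hU (M := (AMod.toOS 𝒮.toQCAlg).obj ℳ.mod) (hM := hℳ))
        obtain ⟨k, m, hm⟩ := this.exists_extend r t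
        refine ⟨m, k, ?_⟩
        refine Eq.trans ?_ hm.symm
        rw [res_str, ← map_pow]
        rfl
      kerM := fun m hm => by
        obtain ⟨k, hk⟩ := (QC.isLoc_of_isQCoh hU (M := (AMod.toOS 𝒮.toQCAlg).obj ℳ.mod)
          (hM := hℳ)).exists_pow_smul_eq_zero r m hm
        refine ⟨k, ?_⟩
        rw [← map_pow]
        exact hk
      map_mem := fun i m hm => ℳ.map_mem hU (hU.basicOpen r) (S.basicOpen_le r) hm }

/-- The system of the algebra itself. -/
@[reducible] def Datum.self : Datum 𝒮 where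
  M U := 𝒮.presheaf.obj (op U)
  addCommGroup _ := inferInstance
  module _ := inferInstance
  deg := 𝒮.deg
  decomp U hU := show Decomposition (𝒮.deg U hU) from inferInstance
  gradedSMul U hU := ⟨fun {i j a m} ha hm => SetLike.mul_mem_graded ha hm⟩
  res hU hV i :=
    { toFun := 𝒮.res hU hV i
      map_add' := map_add _
      map_smul' := map_mul _ }
  res_comp hU hV hW i j m := DFunLike.congr_fun (RelProjLib.res_comp 𝒮 hU hV hW i j) m
  isLocPair U hU r :=
    { deg_zero := 𝒮.str_mem U hU r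
      isUnit_map := isUnit_res_str 𝒮 hU r
      surjA := surj_res 𝒮 hU r
      surjM := fun b => surj_res 𝒮 hU r b
      kerM := fun m hm => ker_res 𝒮 hU r m hm
      map_mem := fun i m hm => 𝒮.map_mem hU (hU.basicOpen r) (S.basicOpen_le r) hm }

variable {P : Scheme.{u}} {q : P ⟶ S}
  {ch : ∀ (U : S.Opens) (hU : IsAffineOpen U), ((q ⁻¹ᵁ U : P.Opens) : Scheme.{u}) ≅ Proj (𝒮.deg U hU)}

variable {𝒮} in
lemma isRelTilde_iff (ℳ : RelProj.GrModule 𝒮) (hℳ : Coh.IsQCoh ((AMod.toOS 𝒮.toQCAlg).obj ℳ.mod))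
    (n : ℤ) (F : P.Modules) (lam : ∀ (U : S.Opens) (hU : IsAffineOpen U),
      F ⟶ (Scheme.Modules.pushforward (RelProj.emb q ch U hU)).obj (GrMod.tilde (𝒮.deg U hU) (ℳ.deg U hU) n)) :
    RelProj.IsRelTilde 𝒮 q ch ℳ n F lam ↔ (Datum.ofGrModule ℳ hℳ).IsTilde q ch n F lam :=
  ⟨fun h => ⟨h.bijective, fun W s U hU r y hy hy' => h.compat U hU r W s y hy hy'⟩,
    fun h => ⟨h.bijective, fun U hU r W s y hy hy' => h.compat W s U hU r y hy hy'⟩⟩

lemma locModMap_self {U : S.Opens} (hU : IsAffineOpen U) {V : S.Opens} (hV : IsAffineOpen V) (i : V ≤ U)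
    (hψ : (𝒮.deg V hV)₊ ≤ ((𝒮.deg U hU)₊).map (𝒮.res hU hV i))
    (y : ProjectiveSpectrum (𝒮.deg V hV))
    (x : GrTwist.Loc (𝒮.deg U hU) (ProjectiveSpectrum.comap (𝒮.res hU hV i) hψ y)) :
    GrMod.locModMap (𝒮.res hU hV i) hψ ((Datum.self 𝒮).res hU hV i) y x =
      GrTwist.locMap (𝒮.res hU hV i) hψ y x := by
  induction x using Localization.induction_on with
  | H p =>
    obtain ⟨a, s⟩ := p
    rw [GrTwist.locMap_mk]
    rfl

lemma isRelTwist_iff (n : ℤ) (L : P.Modules) (lam : ∀ (U : S.Opens) (hU : IsAffineOpen U),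
      L ⟶ (Scheme.Modules.pushforward (RelProj.emb q ch U hU)).obj (GrTwist.twist (𝒮.deg U hU) n)) :
    RelProj.IsRelTwist 𝒮 q ch n L lam ↔ (Datum.self 𝒮).IsTilde q ch n L lam :=
  ⟨fun h => ⟨h.bijective, fun W s U hU r y hy hy' =>
      (h.compat U hU r W s y hy hy').trans (locModMap_self 𝒮 hU _ _ _ y _).symm⟩,
    fun h => ⟨h.bijective, fun U hU r W s y hy hy' =>
      (h.compat W s U hU r y hy hy').trans (locModMap_self 𝒮 hU _ _ _ y _)⟩⟩

end Groth.Agent.RelTilde
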