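import Groth.Agent.RelTilde.BaseChange
import Groth.Agent.RelTilde.QCoh
import Groth.Prelude.Def_RelProj3

/-!
Maps out of the sections of `M(n)~` over `D₊(f)`, and base change of these sections.
-/

set_option autoImplicit false
set_option backward.isDefEq.respectTransparency false

universe u

open CategoryTheory DirectSum TopologicalSpace AlgebraicGeometry Opposite
  HomogeneousLocalization
open scoped HomogeneousIdeal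
open Groth.Agent.QC (res)

noncomputable section

namespace Groth.Agent.RelTilde

variable {A σ : Type u} [CommRing A] [SetLike σ A] [AddSubgroupClass σ A] (𝒜 : ℕ → σ)
  [GradedRing 𝒜]
variable {M τ : Type u} [AddCommGroup M] [Module A M] [SetLike τ M] [AddSubgroupClass τ M] (ℳ : ℕ → τ)
variable [SetLike.GradedSMul 𝒜 ℳ] [DirectSum.Decomposition ℳ]
variable {f : A} {d : ℕ} (hf : f ∈ 𝒜 d) (n : ℤ)

omit [DirectSum.Decomposition ℳ] in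
/-- The section `m / f ^ k`. -/
def sec {k i : ℕ} {m : M} (hm : m ∈ ℳ i) (hi : (i : ℤ) = ((k • d : ℕ) : ℤ) + n) :
    Γ(GrMod.tilde 𝒜 ℳ n, Proj.basicOpen 𝒜 f) :=
  fracSect 𝒜 ℳ n hm (SetLike.pow_mem_graded k hf) hi _
    (fun y => not_mem_pow 𝒜 ((ProjectiveSpectrum.mem_basicOpen 𝒜 f y.1).mp y.2) k)

omit [DirectSum.Decomposition ℳ] in
lemma pt_sec {k i : ℕ} {m : M} (hm : m ∈ ℳ i) (hi : (i : ℤ) = ((k • d : ℕ) : ℤ) + n)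
    (y : Proj.basicOpen 𝒜 f) :
    pt 𝒜 ℳ (sec 𝒜 ℳ hf n hm hi) y = fr 𝒜 y.1 m (f ^ k)
      (not_mem_pow 𝒜 ((ProjectiveSpectrum.mem_basicOpen 𝒜 f y.1).mp y.2) k) := rfl

lemma exists_sec (hd : 0 < d) (s : Γ(GrMod.tilde 𝒜 ℳ n, Proj.basicOpen 𝒜 f)) :
    ∃ (k i : ℕ) (m : M) (hm : m ∈ ℳ i) (hi : (i : ℤ) = ((k • d : ℕ) : ℤ) + n),
      s = sec 𝒜 ℳ hf n hm hi := by
  obtain ⟨k, i, m, hi, hm, h⟩ := exists_frac_basicOpen 𝒜 ℳ n hd hf s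
  exact ⟨k, i, m, hm, by rw [hi, smul_eq_mul, Nat.cast_mul], pt_ext 𝒜 ℳ fun y => h y _⟩

lemma exists_pow_of_sec_eq (hd : 0 < d) {k i k' i' : ℕ} {m m' : M} (hm : m ∈ ℳ i)
    (hi : (i : ℤ) = ((k • d : ℕ) : ℤ) + n) (hm' : m' ∈ ℳ i')
    (hi' : (i' : ℤ) = ((k' • d : ℕ) : ℤ) + n)
    (h : sec 𝒜 ℳ hf n hm hi = sec 𝒜 ℳ hf n hm' hi') :
    ∃ N : ℕ, (f ^ (N + k')) • m = (f ^ (N + k)) • m' := by
  have e : k • d + i' = k' • d + i := by omega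
  have hz : f ^ k' • m - f ^ k • m' ∈ ℳ (k' • d + i) :=
    sub_mem (smul_mem_graded 𝒜 ℳ (SetLike.pow_mem_graded k' hf) hm)
      (e ▸ smul_mem_graded 𝒜 ℳ (SetLike.pow_mem_graded k hf) hm')
  obtain ⟨N, hN⟩ := exists_pow_smul_eq_zero 𝒜 ℳ hz hd hf fun x hx => by
    have h1 := congrArg (fun s => pt 𝒜 ℳ s ⟨x, (ProjectiveSpectrum.mem_basicOpen 𝒜 f x).mpr hx⟩) h
    exact (fr_eq_iff 𝒜 x _ _).mp h1
  refine ⟨N, sub_eq_zero.mp ?_⟩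
  rw [pow_add, pow_add, mul_smul, mul_smul, ← smul_sub, hN]

omit [DirectSum.Decomposition ℳ] in
lemma away_smul_sec {l : ℕ} {e : A} (he : e ∈ 𝒜 (l • d)) {k i : ℕ} {m : M} (hm : m ∈ ℳ i)
    (hi : (i : ℤ) = ((k • d : ℕ) : ℤ) + n) :
    away 𝒜 hf l he • sec 𝒜 ℳ hf n hm hi =
      sec 𝒜 ℳ hf n (k := l + k) (i := l • d + i) (smul_mem_graded 𝒜 ℳ he hm)
        (by rw [add_smul]; push_cast; omega) := by
  refine pt_ext 𝒜 ℳ fun y => ?_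
  have hy := (ProjectiveSpectrum.mem_basicOpen 𝒜 f y.1).mp y.2
  rw [← QC.resO_self le_rfl (away 𝒜 hf l he)]
  refine (pt_away_smul 𝒜 ℳ hf he le_rfl _ y (pt_sec 𝒜 ℳ hf n hm hi y)
    (not_mem_mul 𝒜 (not_mem_pow 𝒜 hy l) (not_mem_pow 𝒜 hy k))).trans ?_
  exact fr_congr 𝒜 y.1 _ _ (by rw [pow_add])

omit [DirectSum.Decomposition ℳ] in
lemma sec_add {k i k' i' : ℕ} {m m' : M} (hm : m ∈ ℳ i)
    (hi : (i : ℤ) = ((k • d : ℕ) : ℤ) + n) (hm' : m' ∈ ℳ i')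
    (hi' : (i' : ℤ) = ((k' • d : ℕ) : ℤ) + n) :
    sec 𝒜 ℳ hf n hm hi + sec 𝒜 ℳ hf n hm' hi' =
      sec 𝒜 ℳ hf n (k := k + k') (i := k' • d + i) (m := f ^ k' • m + f ^ k • m')
        (add_mem (smul_mem_graded 𝒜 ℳ (SetLike.pow_mem_graded k' hf) hm)
          ((show k • d + i' = k' • d + i by omega) ▸
            smul_mem_graded 𝒜 ℳ (SetLike.pow_mem_graded k hf) hm'))
        (by rw [add_smul]; push_cast; omega) := by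
  refine pt_ext 𝒜 ℳ fun y => ?_
  have hy := (ProjectiveSpectrum.mem_basicOpen 𝒜 f y.1).mp y.2
  refine (fr_add 𝒜 y.1 (not_mem_pow 𝒜 hy k) (not_mem_pow 𝒜 hy k')).trans ?_
  exact fr_congr 𝒜 y.1 _ _ (by rw [pow_add])

omit M τ ℳ in
lemma away_pow_self (N : ℕ) :
    away 𝒜 hf N (a := f ^ N) (SetLike.pow_mem_graded N hf) = 1 := by
  refine (congrArg _ (val_injective _ ?_)).trans (map_one _)
  rw [Away.val_mk, val_one]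
  exact Localization.mk_self (⟨f ^ N, _⟩ : Submonoid.powers f)

variable {Q : Type u} [AddCommGroup Q] [Module Γ(Proj 𝒜, Proj.basicOpen 𝒜 f) Q]

/-- An additive map on `M` compatible with the functions `e / f ^ l` gives a linear map on sections. -/
theorem exists_lift (hd : 0 < d) (G : M →+ Q)
    (hG : ∀ (l : ℕ) (e : A) (he : e ∈ 𝒜 (l • d)) (k i : ℕ) (m : M), m ∈ ℳ i →
      (i : ℤ) = ((k • d : ℕ) : ℤ) + n → G (e • m) = away 𝒜 hf l he • G m) :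
    ∃ F : Γ(GrMod.tilde 𝒜 ℳ n, Proj.basicOpen 𝒜 f) →ₗ[Γ(Proj 𝒜, Proj.basicOpen 𝒜 f)] Q,
      ∀ (k i : ℕ) (m : M) (hm : m ∈ ℳ i) (hi : (i : ℤ) = ((k • d : ℕ) : ℤ) + n),
        F (sec 𝒜 ℳ hf n hm hi) = G m := by
  have hpow : ∀ (N k i : ℕ) (m : M), m ∈ ℳ i → (i : ℤ) = ((k • d : ℕ) : ℤ) + n →
      G (f ^ N • m) = G m := fun N k i m hm hi => by
    rw [hG N _ (SetLike.pow_mem_graded N hf) k i m hm hi, away_pow_self, one_smul]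
  have hex : ∀ s : Γ(GrMod.tilde 𝒜 ℳ n, Proj.basicOpen 𝒜 f), ∃ q : Q,
      ∀ (k i : ℕ) (m : M) (hm : m ∈ ℳ i) (hi : (i : ℤ) = ((k • d : ℕ) : ℤ) + n),
        s = sec 𝒜 ℳ hf n hm hi → G m = q := fun s => by
    obtain ⟨k₀, i₀, m₀, hm₀, hi₀, rfl⟩ := exists_sec 𝒜 ℳ hf n hd s
    refine ⟨G m₀, fun k i m hm hi h => ?_⟩
    obtain ⟨N, hN⟩ := exists_pow_of_sec_eq 𝒜 ℳ hf n hd hm hi hm₀ hi₀ h.symm
    rw [← hpow (N + k₀) k i m hm hi, hN, hpow _ k₀ i₀ m₀ hm₀ hi₀]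
  choose F hF using hex
  refine ⟨
    { toFun := F
      map_add' := fun s t => by
        obtain ⟨k, i, m, hm, hi, rfl⟩ := exists_sec 𝒜 ℳ hf n hd s
        obtain ⟨k', i', m', hm', hi', rfl⟩ := exists_sec 𝒜 ℳ hf n hd t
        rw [← hF _ _ _ _ _ _ (sec_add 𝒜 ℳ hf n hm hi hm' hi'), ← hF _ _ _ _ _ _ rfl,
          ← hF _ _ _ _ _ _ rfl, map_add, hpow _ k i m hm hi, hpow _ k' i' m' hm' hi']
      map_smul' := fun c s => by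
        obtain ⟨l, e, he, -, rfl⟩ := exists_away 𝒜 hf hd c
        obtain ⟨k, i, m, hm, hi, rfl⟩ := exists_sec 𝒜 ℳ hf n hd s
        rw [← hF _ _ _ _ _ _ (away_smul_sec 𝒜 ℳ hf n he hm hi), ← hF _ _ _ _ _ _ rfl,
          hG l e he k i m hm hi, RingHom.id_apply] }, fun k i m hm hi => (hF _ k i m hm hi rfl).symm⟩

section Map

variable {B σ' : Type u} [CommRing B] [SetLike σ' B] [AddSubgroupClass σ' B] {ℬ : ℕ → σ'}
  [GradedRing ℬ]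
  {N τ' : Type u} [AddCommGroup N] [Module B N] [SetLike τ' N] [AddSubgroupClass τ' N] (𝒩 : ℕ → τ')
  [SetLike.GradedSMul ℬ 𝒩] [DirectSum.Decomposition 𝒩]
  (ψ : 𝒜 →+*ᵍ ℬ) (hψ : ℬ₊ ≤ (𝒜₊).map ψ)
  (v : M →ₛₗ[ψ.toRingHom] N) (hv : ∀ (i : ℕ) (m : M), m ∈ ℳ i → v m ∈ 𝒩 i)

omit M τ ℳ in
lemma basicOpen_le_preimage (f : A) :
    Proj.basicOpen ℬ (ψ f) ≤ Proj.map ψ hψ ⁻¹ᵁ Proj.basicOpen 𝒜 f :=
  (Proj.map_preimage_basicOpen ψ hψ f).ge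

omit M τ ℳ in
lemma appLE_away {l : ℕ} {e : A} (he : e ∈ 𝒜 (l • d)) :
    ((Proj.map ψ hψ).appLE (Proj.basicOpen 𝒜 f) (Proj.basicOpen ℬ (ψ f))
      (basicOpen_le_preimage 𝒜 ψ hψ f)).hom (away 𝒜 hf l he) =
      away ℬ (ψ.map_mem hf) l (ψ.map_mem he) := by
  refine show (_ : GrTwist.O (𝒜 := ℬ) (op (Proj.basicOpen ℬ (ψ f)))) = _ from
    Subtype.ext (funext fun y => val_injective _ ?_)
  have hy : f ^ l ∉ (ProjectiveSpectrum.comap ψ hψ y.1).asHomogeneousIdeal :=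
    not_mem_pow 𝒜 (show f ∉ (ProjectiveSpectrum.comap ψ hψ y.1).asHomogeneousIdeal from
      (ProjectiveSpectrum.mem_basicOpen ℬ _ y.1).mp y.2) l
  refine (val_localRingHom _).trans ?_
  refine Eq.trans (b := GrTwist.locMap ψ hψ y.1 (Localization.mk e ⟨f ^ l, hy⟩)) rfl ?_
  refine (GrTwist.locMap_mk ψ hψ y.1 e _).trans ?_
  exact congrArg₂ Localization.mk rfl (Subtype.ext (map_pow ψ f l))

lemma resθ_sec {k i : ℕ} {m : M} (hm : m ∈ ℳ i) (hi : (i : ℤ) = ((k • d : ℕ) : ℤ) + n) :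
    resθ (Proj.map ψ hψ) (GrMod.comap ψ hψ v hv n) (basicOpen_le_preimage 𝒜 ψ hψ f)
        (sec 𝒜 ℳ hf n hm hi) =
      sec ℬ 𝒩 (ψ.map_mem hf) n (hv i m hm) hi := by
  refine pt_ext ℬ 𝒩 fun y => ?_
  change GrMod.locModMap ψ hψ v y.1 (fr 𝒜 _ m (f ^ k) _) = _
  rw [GrMod.locModMap_mk]
  exact congrArg₂ LocalizedModule.mk rfl (Subtype.ext (map_pow ψ f k))

/-- Base change of the sections over `D₊(f)`, from lifts of maps to `N`. -/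
theorem isBC_comap (hd : 0 < d)
    (H : ∀ (Q : Type u) [AddCommGroup Q] [Module Γ(Proj ℬ, Proj.basicOpen ℬ (ψ f)) Q]
      (w : Γ(GrMod.tilde 𝒜 ℳ n, Proj.basicOpen 𝒜 f) →ₛₗ[((Proj.map ψ hψ).appLE
        (Proj.basicOpen 𝒜 f) (Proj.basicOpen ℬ (ψ f)) (basicOpen_le_preimage 𝒜 ψ hψ f)).hom] Q),
      ∃ G : N →+ Q,
        (∀ (l : ℕ) (e : B) (he : e ∈ ℬ (l • d)) (k i : ℕ) (b : N), b ∈ 𝒩 i →
          (i : ℤ) = ((k • d : ℕ) : ℤ) + n → G (e • b) = away ℬ (ψ.map_mem hf) l he • G b) ∧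
        ∀ (k i : ℕ) (m : M) (hm : m ∈ ℳ i) (hi : (i : ℤ) = ((k • d : ℕ) : ℤ) + n),
          G (v m) = w (sec 𝒜 ℳ hf n hm hi))
    (Hu : ∀ (Q : Type u) [AddCommGroup Q] [Module Γ(Proj ℬ, Proj.basicOpen ℬ (ψ f)) Q]
      (F F' : Γ(GrMod.tilde ℬ 𝒩 n, Proj.basicOpen ℬ (ψ f)) →ₗ[Γ(Proj ℬ, Proj.basicOpen ℬ (ψ f))] Q),
      (∀ (k i : ℕ) (m : M) (hm : m ∈ ℳ i) (hi : (i : ℤ) = ((k • d : ℕ) : ℤ) + n),
        F (sec ℬ 𝒩 (ψ.map_mem hf) n (hv i m hm) hi) = F' (sec ℬ 𝒩 (ψ.map_mem hf) n (hv i m hm) hi)) →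
      F = F') :
    IsBC (Proj.map ψ hψ) (GrMod.comap ψ hψ v hv n) (basicOpen_le_preimage 𝒜 ψ hψ f) := by
  intro Q _ _ w
  obtain ⟨G, hG, hGw⟩ := H Q w
  obtain ⟨F, hF⟩ := exists_lift ℬ 𝒩 (ψ.map_mem hf) n hd G hG
  refine ⟨F, fun s => ?_, fun F' hF' => Hu Q F' F fun k i m hm hi => ?_⟩
  · obtain ⟨k, i, m, hm, hi, rfl⟩ := exists_sec 𝒜 ℳ hf n hd s
    exact ((congrArg F (resθ_sec 𝒜 ℳ hf n 𝒩 ψ hψ v hv hm hi)).trans (hF k i _ _ hi)).trans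
      (hGw k i m hm hi)
  · refine Eq.trans ?_ ((hF k i _ (hv i m hm) hi).trans (hGw k i m hm hi)).symm
    exact (congrArg F' (resθ_sec 𝒜 ℳ hf n 𝒩 ψ hψ v hv hm hi).symm).trans (hF' _)

end Map

end Groth.Agent.RelTilde
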