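import Groth.Agent.RelTilde.Glue
import Groth.Agent.RelTilde.Exists

/-!
The comparison `M(n)~ ⟶ g_* (N(n)~)` of a morphism `g` of relative Proj's given on charts.
-/

set_option autoImplicit false
set_option backward.isDefEq.respectTransparency false

universe u

open CategoryTheory DirectSum TopologicalSpace AlgebraicGeometry Opposite
open scoped HomogeneousIdeal

noncomputable section

namespace Groth.Agent.RelTilde

variable {S S' P P' : Scheme.{u}} {𝒮 : RelProj.QCGrAlg S} {𝒮' : RelProj.QCGrAlg S'}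

/-- Chartwise data of a morphism of relative Proj's with a semilinear map of systems. -/
structure ChartMap (D : Datum 𝒮) (D' : Datum 𝒮') (q : P ⟶ S) (q' : P' ⟶ S')
    (ch : ∀ (U : S.Opens) (hU : IsAffineOpen U), ((q ⁻¹ᵁ U : P.Opens) : Scheme.{u}) ≅ Proj (𝒮.deg U hU))
    (ch' : ∀ (U : S'.Opens) (hU : IsAffineOpen U),
      ((q' ⁻¹ᵁ U : P'.Opens) : Scheme.{u}) ≅ Proj (𝒮'.deg U hU))
    (g : P' ⟶ P) where
  ι : Type u
  U : ι → S.Opens
  U' : ι → S'.Opens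
  hU : ∀ i, IsAffineOpen (U i)
  hU' : ∀ i, IsAffineOpen (U' i)
  cover : ∀ x : P', ∃ i, x ∈ q' ⁻¹ᵁ U' i
  χ : ∀ i, 𝒮.deg (U i) (hU i) →+*ᵍ 𝒮'.deg (U' i) (hU' i)
  hirr : ∀ i, (𝒮'.deg (U' i) (hU' i))₊ ≤ ((𝒮.deg (U i) (hU i))₊).map (χ i)
  v : ∀ i, D.M (U i) →ₛₗ[(χ i).toRingHom] D'.M (U' i)
  hv : ∀ (i : ι) (d : ℕ) (m : D.M (U i)), m ∈ D.deg (U i) (hU i) d → v i m ∈ D'.deg (U' i) (hU' i) d
  square : ∀ i, RelProj.emb q' ch' (U' i) (hU' i) ≫ g = Proj.map (χ i) (hirr i) ≫ RelProj.emb q ch (U i) (hU i)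
  natRing : ∀ (i k : ι) (b : IsB (U k) (U i)) (b' : IsB (U' k) (U' i)) (a : 𝒮.presheaf.obj (op (U i))),
    𝒮'.res (hU' i) (hU' k) b'.le (χ i a) = χ k (𝒮.res (hU i) (hU k) b.le a)
  natMod : ∀ (i k : ι) (b : IsB (U k) (U i)) (b' : IsB (U' k) (U' i)) (m : D.M (U i)),
    D'.res (hU' i) (hU' k) b'.le (v i m) = v k (D.res (hU i) (hU k) b.le m)
  common : ∀ (i j : ι) (O : S'.Opens) (_ : IsAffineOpen O), IsB O (U' i) → IsB O (U' j) →
    ∀ x ∈ q' ⁻¹ᵁ O, ∃ k, x ∈ q' ⁻¹ᵁ U' k ∧ IsB (U k) (U i) ∧ IsB (U k) (U j) ∧ IsB (U' k) O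

variable {D : Datum 𝒮} {D' : Datum 𝒮'} {q : P ⟶ S} {q' : P' ⟶ S'}
  {ch : ∀ (U : S.Opens) (hU : IsAffineOpen U), ((q ⁻¹ᵁ U : P.Opens) : Scheme.{u}) ≅ Proj (𝒮.deg U hU)}
  {ch' : ∀ (U : S'.Opens) (hU : IsAffineOpen U),
    ((q' ⁻¹ᵁ U : P'.Opens) : Scheme.{u}) ≅ Proj (𝒮'.deg U hU)}
  {g : P' ⟶ P} (C : ChartMap D D' q q' ch ch' g) (n : ℤ)

lemma ChartMap.emb_comap' (i : C.ι) (y : ProjectiveSpectrum (𝒮'.deg (C.U' i) (C.hU' i))) :
    (RelProj.emb q ch (C.U i) (C.hU i)).base (ProjectiveSpectrum.comap (C.χ i) (C.hirr i) y) =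
      g.base ((RelProj.emb q' ch' (C.U' i) (C.hU' i)).base y) :=
  (congrArg (fun f : Proj (𝒮'.deg (C.U' i) (C.hU' i)) ⟶ P => f.base y) (C.square i)).symm

/-- The image of a reading under the chart map. -/
def ChartMap.read {W : P.Opens} (i : C.ι) :
    Γ(D.til n (C.U i) (C.hU i), RelProj.emb q ch (C.U i) (C.hU i) ⁻¹ᵁ W) →+
    Γ(D'.til n (C.U' i) (C.hU' i), RelProj.emb q' ch' (C.U' i) (C.hU' i) ⁻¹ᵁ (g ⁻¹ᵁ W)) :=
  GrMod.comapApp (C.χ i) (C.hirr i) (C.v i) (C.hv i) n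
    (RelProj.emb q ch (C.U i) (C.hU i) ⁻¹ᵁ W)
    (RelProj.emb q' ch' (C.U' i) (C.hU' i) ⁻¹ᵁ (g ⁻¹ᵁ W))
    (fun y hy => by
      change (RelProj.emb q ch (C.U i) (C.hU i)).base _ ∈ W
      rw [C.emb_comap' i y]
      exact hy)

lemma ChartMap.val_read {W : P.Opens} (i : C.ι)
    (t : Γ(D.til n (C.U i) (C.hU i), RelProj.emb q ch (C.U i) (C.hU i) ⁻¹ᵁ W))
    (y : ProjectiveSpectrum (𝒮'.deg (C.U' i) (C.hU' i)))
    (hy : (RelProj.emb q' ch' (C.U' i) (C.hU' i)).base y ∈ g ⁻¹ᵁ W)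
    (hy' : (RelProj.emb q ch (C.U i) (C.hU i)).base
      (ProjectiveSpectrum.comap (C.χ i) (C.hirr i) y) ∈ W) :
    GrMod.val (V := RelProj.emb q' ch' (C.U' i) (C.hU' i) ⁻¹ᵁ (g ⁻¹ᵁ W)) (C.read n i t) ⟨y, hy⟩ =
      GrMod.locModMap (C.χ i) (C.hirr i) (C.v i) y
        (GrMod.val (V := RelProj.emb q ch (C.U i) (C.hU i) ⁻¹ᵁ W) t ⟨_, hy'⟩) := rfl

/-- The maps of values commute with restriction. -/
lemma ChartMap.tr_locModMap (i k : C.ι) (b : IsB (C.U k) (C.U i)) (b' : IsB (C.U' k) (C.U' i))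
    (w : ProjectiveSpectrum (𝒮'.deg (C.U' k) (C.hU' k))) (y : ProjectiveSpectrum (𝒮'.deg (C.U' i) (C.hU' i)))
    (h' : ProjectiveSpectrum.comap (𝒮'.res (C.hU' i) (C.hU' k) b'.le) (irrB 𝒮' (C.hU' i) (C.hU' k) b') w = y)
    (h : ProjectiveSpectrum.comap (𝒮.res (C.hU i) (C.hU k) b.le) (irrB 𝒮 (C.hU i) (C.hU k) b)
      (ProjectiveSpectrum.comap (C.χ k) (C.hirr k) w) = ProjectiveSpectrum.comap (C.χ i) (C.hirr i) y)
    (x : GrMod.LocMod (𝒮.deg (C.U i) (C.hU i)) (M := D.M (C.U i))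
      (ProjectiveSpectrum.comap (C.χ i) (C.hirr i) y)) :
    D'.tr (C.hU' i) (C.hU' k) b' w y h' (GrMod.locModMap (C.χ i) (C.hirr i) (C.v i) y x) =
      GrMod.locModMap (C.χ k) (C.hirr k) (C.v k) w
        (D.tr (C.hU i) (C.hU k) b (ProjectiveSpectrum.comap (C.χ k) (C.hirr k) w) _ h x) := by
  induction x using LocalizedModule.induction_on with
  | h m s =>
    obtain ⟨a, ha⟩ := s
    rw [GrMod.locModMap_mk, D.tr_mk, D'.tr_mk, GrMod.locModMap_mk]
    congr 1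
    · exact C.natMod i k b b' m
    · exact Subtype.ext (C.natRing i k b b' a)

set_option synthInstance.maxHeartbeats 200000 in
set_option maxHeartbeats 1600000 in
/-- The chart map of readings is linear along `g`. -/
lemma ChartMap.read_smul {W : P.Opens} (i : C.ι) (c : Γ(P, W))
    (t : Γ(D.til n (C.U i) (C.hU i), RelProj.emb q ch (C.U i) (C.hU i) ⁻¹ᵁ W)) :
    C.read n i (((RelProj.emb q ch (C.U i) (C.hU i)).app W).hom c • t) =
      ((RelProj.emb q' ch' (C.U' i) (C.hU' i)).app (g ⁻¹ᵁ W)).hom ((g.app W).hom c) •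
        C.read n i t := by
  refine (GrMod.comapApp_smul _ _ _ _ n _ _ _ _ _).trans ?_
  refine til_ext fun y => ?_
  refine (GrMod.coe_smul_val n y.1 _ _).trans ?_
  refine Eq.trans ?_ (GrMod.coe_smul_val n y.1 _ _).symm
  refine congrArg (fun a : GrTwist.Loc (𝒮'.deg (C.U' i) (C.hU' i)) y.1 => a • _) ?_
  have hy' : (RelProj.emb q ch (C.U i) (C.hU i)).base
      (ProjectiveSpectrum.comap (C.χ i) (C.hirr i) y.1) ∈ W := by
    rw [C.emb_comap' i y.1]; exact y.2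
  refine ((congrArg HomogeneousLocalization.val
    (GrTwist.comapStructureSheaf_apply (C.χ i) (C.hirr i) _ _ _ _ ⟨y.1, y.2⟩)).trans ?_).trans
    (app_val_of_eq (C.χ i) (C.hirr i) (RelProj.emb q ch (C.U i) (C.hU i))
      (RelProj.emb q' ch' (C.U' i) (C.hU' i) ≫ g) (C.square i).symm W c y.1 y.2 hy').symm
  rw [HomogeneousLocalization.val_localRingHom]
  rfl

variable (hP : RelProj.IsRelProj 𝒮 q ch) (hP' : RelProj.IsRelProj 𝒮' q' ch')
  {F : P.Modules} {lam : ∀ (U : S.Opens) (hU : IsAffineOpen U), F ⟶ D.E q ch n U hU}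
  (hF : D.IsTilde q ch n F lam) {G : P'.Modules}
  {lam' : ∀ (U : S'.Opens) (hU : IsAffineOpen U), G ⟶ D'.E q' ch' n U hU}
  (hG : D'.IsTilde q' ch' n G lam')

include hP hP' hF hG

set_option maxHeartbeats 1600000 in
/-- The chartwise comparison glues to exactly one morphism. -/
theorem ChartMap.existsUnique_comap :
    ∃! θ : F ⟶ (Scheme.Modules.pushforward g).obj G, ∀ (i : C.ι) (W : P.Opens) (s : Γ(F, W)),
      (lam' (C.U' i) (C.hU' i)).app (g ⁻¹ᵁ W) (θ.app W s) =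
        C.read n i ((lam (C.U i) (C.hU i)).app W s) := by
  have hex : ∀ (W : P.Opens) (s : Γ(F, W)), ∃! r : Γ(G, g ⁻¹ᵁ W), ∀ i : C.ι,
      (lam' (C.U' i) (C.hU' i)).app (g ⁻¹ᵁ W) r = C.read n i ((lam (C.U i) (C.hU i)).app W s) := by
    intro W s
    refine hG.existsUnique_section' hP' C.U' C.hU' (fun x _ => Opens.mem_iSup.mpr (C.cover x)) _ ?_
    intro i j O hO bi bj z y y' hi hj hy hy'
    have hx : (RelProj.emb q' ch' O hO).base z ∈ q' ⁻¹ᵁ O :=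
      mem_preimage_emb (q := q') (ch := ch') O hO z
    obtain ⟨k, hxk, bki, bkj, bk⟩ := C.common i j O hO bi bj _ hx
    obtain ⟨w, hw⟩ := exists_point (q := q') (ch := ch') (C.U' k) (C.hU' k) hxk
    have bki' := bk.trans (C.hU' i) bi
    have bkj' := bk.trans (C.hU' j) bj
    have hwz : ProjectiveSpectrum.comap (𝒮'.res hO (C.hU' k) bk.le) (irrB 𝒮' hO (C.hU' k) bk) w = z :=
      comap_eq hP' hO (C.hU' k) bk w z hw.symm
    have hwy : ProjectiveSpectrum.comap (𝒮'.res (C.hU' i) (C.hU' k) bki'.le)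
        (irrB 𝒮' (C.hU' i) (C.hU' k) bki') w = y :=
      comap_eq hP' (C.hU' i) (C.hU' k) bki' w y (by rw [hw, ← hi, emb_comap hP' (C.hU' i) hO bi z])
    have hwy' : ProjectiveSpectrum.comap (𝒮'.res (C.hU' j) (C.hU' k) bkj'.le)
        (irrB 𝒮' (C.hU' j) (C.hU' k) bkj') w = y' :=
      comap_eq hP' (C.hU' j) (C.hU' k) bkj' w y' (by rw [hw, ← hj, emb_comap hP' (C.hU' j) hO bj z])
    have hgi : ProjectiveSpectrum.comap (𝒮.res (C.hU i) (C.hU k) bki.le) (irrB 𝒮 (C.hU i) (C.hU k) bki)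
        (ProjectiveSpectrum.comap (C.χ k) (C.hirr k) w) = ProjectiveSpectrum.comap (C.χ i) (C.hirr i) y :=
      comap_eq hP (C.hU i) (C.hU k) bki _ _ (by
        rw [C.emb_comap' i y, C.emb_comap' k w, hw, ← hi, emb_comap hP' (C.hU' i) hO bi z])
    have hgj : ProjectiveSpectrum.comap (𝒮.res (C.hU j) (C.hU k) bkj.le) (irrB 𝒮 (C.hU j) (C.hU k) bkj)
        (ProjectiveSpectrum.comap (C.χ k) (C.hirr k) w) = ProjectiveSpectrum.comap (C.χ j) (C.hirr j) y' :=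
      comap_eq hP (C.hU j) (C.hU k) bkj _ _ (by
        rw [C.emb_comap' j y', C.emb_comap' k w, hw, ← hj, emb_comap hP' (C.hU' j) hO bj z])
    have hyW : (RelProj.emb q ch (C.U i) (C.hU i)).base
        (ProjectiveSpectrum.comap (C.χ i) (C.hirr i) y) ∈ W := by rw [C.emb_comap' i y]; exact hy
    have hyW' : (RelProj.emb q ch (C.U j) (C.hU j)).base
        (ProjectiveSpectrum.comap (C.χ j) (C.hirr j) y') ∈ W := by rw [C.emb_comap' j y']; exact hy'
    have hwW : (RelProj.emb q ch (C.U k) (C.hU k)).base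
        (ProjectiveSpectrum.comap (C.χ k) (C.hirr k) w) ∈ W := by
      rw [← emb_comap hP (C.hU i) (C.hU k) bki _, hgi]; exact hyW
    refine (D'.tr_bijective hO (C.hU' k) bk w z hwz).1 ?_
    rw [D'.tr_tr (C.hU' i) hO (C.hU' k) bi bk bki' w z y hi hwz hwy,
      D'.tr_tr (C.hU' j) hO (C.hU' k) bj bk bkj' w z y' hj hwz hwy',
      C.val_read n i _ y hy hyW, C.val_read n j _ y' hy' hyW',
      C.tr_locModMap i k bki bki' w y hwy hgi, C.tr_locModMap j k bkj bkj' w y' hwy' hgj,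
      ← (hF.compat W s).val_tr hP (C.hU i) (C.hU k) bki _ _ hgi hwW hyW,
      ← (hF.compat W s).val_tr hP (C.hU j) (C.hU k) bkj _ _ hgj hwW hyW']
  choose r hr hru using hex
  have hext : ∀ (W : P.Opens) (a b : Γ(G, g ⁻¹ᵁ W)),
      (∀ i, (lam' (C.U' i) (C.hU' i)).app _ a = (lam' (C.U' i) (C.hU' i)).app _ b) → a = b :=
    fun W a b hab => QC.section_eq_of_locally fun x hx => by
      obtain ⟨i, hxi⟩ := C.cover x
      refine ⟨g ⁻¹ᵁ W ⊓ q' ⁻¹ᵁ C.U' i, inf_le_left, ⟨hx, hxi⟩,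
        (hG.bijective (C.U' i) (C.hU' i) _ inf_le_right).1 ?_⟩
      rw [← QC.app_res, ← QC.app_res, hab i]
  let θ : F ⟶ (Scheme.Modules.pushforward g).obj G := ⟨PresheafOfModules.homMk
    { app := fun W => AddCommGrpCat.ofHom (X := Γ(F, W.unop)) (Y := Γ(G, g ⁻¹ᵁ W.unop))
        (AddMonoidHom.mk' (r W.unop) fun s s' => hext _ _ _ fun i => by
          refine (hr W.unop (s + s') i).trans ?_
          refine (congrArg (C.read n i) (((lam (C.U i) (C.hU i)).app W.unop).hom.map_add s s')).trans ?_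
          refine ((C.read n i).map_add _ _).trans ?_
          refine Eq.trans ?_ (((lam' (C.U' i) (C.hU' i)).app (g ⁻¹ᵁ W.unop)).hom.map_add _ _).symm
          exact congrArg₂ (· + ·) (hr W.unop s i).symm (hr W.unop s' i).symm)
      naturality := fun W W' e => by
        ext s
        change r W'.unop (QC.res F (leOfHom e.unop) s) =
          QC.res G (g.preimage_mono (leOfHom e.unop)) (r W.unop s)
        refine hext _ _ _ fun i => ?_
        rw [hr, ← QC.app_res (lam' (C.U' i) (C.hU' i)), hr, ← QC.app_res (lam (C.U i) (C.hU i))]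
        rfl }
    fun W (c : Γ(P, W.unop)) (s : Γ(F, W.unop)) => by
      change r W.unop (c • s) = (g.app W.unop).hom c • r W.unop s
      refine hext _ _ _ fun i => ?_
      rw [hr]
      refine (congrArg (C.read n i) ((lam (C.U i) (C.hU i)).app_smul c s)).trans ?_
      refine (C.read_smul n i c _).trans ?_
      rw [← hr W.unop s i]
      exact ((lam' (C.U' i) (C.hU' i)).app_smul ((g.app W.unop).hom c) (r W.unop s)).symm⟩
  refine ⟨θ, fun i W s => hr W s i, fun θ' hθ' => ?_⟩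
  ext W s
  exact hru W s _ fun i => hθ' i W s

end Groth.Agent.RelTilde
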