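import Groth.Agent.RelTilde.Datum
import Groth.Agent.QC.Basic

/-!
Compatible families of sections of the modules `M(U)(n)~` on the charts of a relative Proj.
-/

set_option autoImplicit false
set_option backward.isDefEq.respectTransparency false

universe u

open CategoryTheory DirectSum TopologicalSpace AlgebraicGeometry Opposite
open scoped HomogeneousIdeal

noncomputable section

namespace Groth.Agent.RelTilde

variable {S P : Scheme.{u}} {𝒮 : RelProj.QCGrAlg S} (D : Datum 𝒮) (q : P ⟶ S)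
  (ch : ∀ (U : S.Opens) (hU : IsAffineOpen U), ((q ⁻¹ᵁ U : P.Opens) : Scheme.{u}) ≅ Proj (𝒮.deg U hU))
  (n : ℤ)

/-- The direct image of `M(U)(n)~` on `P`. -/
abbrev Datum.E (U : S.Opens) (hU : IsAffineOpen U) : P.Modules :=
  (Scheme.Modules.pushforward (RelProj.emb q ch U hU)).obj (D.til n U hU)

/-- A family of sections on the charts. -/
abbrev Datum.Fam (W : P.Opens) : Type u :=
  ∀ (U : S.Opens) (hU : IsAffineOpen U), Γ(D.til n U hU, RelProj.emb q ch U hU ⁻¹ᵁ W)

/-- The family is compatible along restriction to basic opens, valuewise. -/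
def Datum.Compat {W : P.Opens} (t : D.Fam q ch n W) : Prop :=
  ∀ (U : S.Opens) (hU : IsAffineOpen U) (r : Γ(S, U))
    (y : ProjectiveSpectrum (𝒮.deg (S.basicOpen r) (hU.basicOpen r)))
    (hy : (RelProj.emb q ch (S.basicOpen r) (hU.basicOpen r)).base y ∈ W)
    (hy' : (RelProj.emb q ch U hU).base (ProjectiveSpectrum.comap
      (𝒮.res hU (hU.basicOpen r) (S.basicOpen_le r)) (𝒮.irrelevant_le_map U hU r) y) ∈ W),
    GrMod.val (V := RelProj.emb q ch (S.basicOpen r) (hU.basicOpen r) ⁻¹ᵁ W)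
        (t (S.basicOpen r) (hU.basicOpen r)) ⟨y, hy⟩ =
      GrMod.locModMap (𝒮.res hU (hU.basicOpen r) (S.basicOpen_le r)) (𝒮.irrelevant_le_map U hU r)
        (D.res hU (hU.basicOpen r) (S.basicOpen_le r)) y
        (GrMod.val (V := RelProj.emb q ch U hU ⁻¹ᵁ W) (t U hU) ⟨_, hy'⟩)

/-- `(F, lam)` is the module attached to the system `D`. -/
structure Datum.IsTilde (F : P.Modules)
    (lam : ∀ (U : S.Opens) (hU : IsAffineOpen U), F ⟶ D.E q ch n U hU) : Prop where
  bijective : ∀ (U : S.Opens) (hU : IsAffineOpen U) (W : P.Opens), W ≤ q ⁻¹ᵁ U →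
    Function.Bijective ((lam U hU).app W)
  compat : ∀ (W : P.Opens) (s : Γ(F, W)),
    D.Compat q ch n (W := W) (fun U hU => (lam U hU).app W s)

variable {D q ch n}

lemma val_res {U : S.Opens} {hU : IsAffineOpen U} {V W : (Proj (𝒮.deg U hU)).Opens} (h : V ≤ W)
    (s : Γ(D.til n U hU, W)) (y : V) :
    GrMod.val (V := V) (QC.res (D.til n U hU) h s) y = GrMod.val (V := W) s ⟨y.1, h y.2⟩ := rfl

/-- Sections of `M(U)(n)~` are determined by their values. -/
lemma til_ext {U : S.Opens} {hU : IsAffineOpen U} {W : (Proj (𝒮.deg U hU)).Opens}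
    {s t : Γ(D.til n U hU, W)}
    (h : ∀ y : W, GrMod.val (V := W) s y = GrMod.val (V := W) t y) : s = t :=
  Subtype.ext (funext fun y => Subtype.ext (h y))

/-- Restriction of a family. -/
def Datum.resFam {W' W : P.Opens} (h : W' ≤ W) (t : D.Fam q ch n W) : D.Fam q ch n W' := fun U hU =>
  QC.res (D.til n U hU) (fun _ hy => h hy) (t U hU)

lemma Datum.Compat.res {W' W : P.Opens} (h : W' ≤ W) {t : D.Fam q ch n W}
    (ht : D.Compat q ch n t) : D.Compat q ch n (D.resFam h t) :=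
  fun U hU r y hy hy' => ht U hU r y (h hy) (h hy')

lemma Datum.IsTilde.app_res {F : P.Modules}
    {lam : ∀ (U : S.Opens) (hU : IsAffineOpen U), F ⟶ D.E q ch n U hU}
    {W' W : P.Opens} (h : W' ≤ W) (s : Γ(F, W)) (U : S.Opens) (hU : IsAffineOpen U)
    (y : ProjectiveSpectrum (𝒮.deg U hU)) (hy : (RelProj.emb q ch U hU).base y ∈ W') :
    GrMod.val (V := RelProj.emb q ch U hU ⁻¹ᵁ W') ((lam U hU).app W' (QC.res F h s)) ⟨y, hy⟩ =
      GrMod.val (V := RelProj.emb q ch U hU ⁻¹ᵁ W) ((lam U hU).app W s) ⟨y, h hy⟩ := by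
  rw [← QC.app_res (lam U hU) h s]
  rfl

variable (hP : RelProj.IsRelProj 𝒮 q ch)

include hP

lemma Datum.Compat.val_tr {W : P.Opens} {t : D.Fam q ch n W} (ht : D.Compat q ch n t)
    {U V : S.Opens} (hU : IsAffineOpen U) (hV : IsAffineOpen V) (b : IsB V U)
    (z : ProjectiveSpectrum (𝒮.deg V hV)) (y : ProjectiveSpectrum (𝒮.deg U hU))
    (h : ProjectiveSpectrum.comap (𝒮.res hU hV b.le) (irrB 𝒮 hU hV b) z = y)
    (hz : (RelProj.emb q ch V hV).base z ∈ W) (hy : (RelProj.emb q ch U hU).base y ∈ W) :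
    GrMod.val (V := RelProj.emb q ch V hV ⁻¹ᵁ W) (t V hV) ⟨z, hz⟩ =
      D.tr hU hV b z y h (GrMod.val (V := RelProj.emb q ch U hU ⁻¹ᵁ W) (t U hU) ⟨y, hy⟩) := by
  subst h
  obtain ⟨r, rfl⟩ := b
  exact ht U hU r z hz hy

/-- Two compatible families agreeing at one chart over a point agree at every chart over it. -/
lemma Datum.Compat.val_eq {W : P.Opens} {t t' : D.Fam q ch n W} (ht : D.Compat q ch n t)
    (ht' : D.Compat q ch n t') {U V : S.Opens} (hU : IsAffineOpen U) (hV : IsAffineOpen V)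
    {y : ProjectiveSpectrum (𝒮.deg U hU)} {y' : ProjectiveSpectrum (𝒮.deg V hV)}
    (h : (RelProj.emb q ch U hU).base y = (RelProj.emb q ch V hV).base y')
    (hy : (RelProj.emb q ch U hU).base y ∈ W) (hy' : (RelProj.emb q ch V hV).base y' ∈ W)
    (he : GrMod.val (V := RelProj.emb q ch U hU ⁻¹ᵁ W) (t U hU) ⟨y, hy⟩ =
      GrMod.val (V := RelProj.emb q ch U hU ⁻¹ᵁ W) (t' U hU) ⟨y, hy⟩) :
    GrMod.val (V := RelProj.emb q ch V hV ⁻¹ᵁ W) (t V hV) ⟨y', hy'⟩ =
      GrMod.val (V := RelProj.emb q ch V hV ⁻¹ᵁ W) (t' V hV) ⟨y', hy'⟩ := by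
  obtain ⟨O, hO, bU, bV, z, hzU, hzV⟩ := exists_common hP hU hV h
  have hz : (RelProj.emb q ch O hO).base z ∈ W := by
    rw [← emb_comap hP hU hO bU z, hzU]; exact hy
  refine (D.tr_bijective hV hO bV z y' hzV).1 ?_
  rw [← ht.val_tr hP hV hO bV z y' hzV hz hy', ← ht'.val_tr hP hV hO bV z y' hzV hz hy',
    ht.val_tr hP hU hO bU z y hzU hz hy, ht'.val_tr hP hU hO bU z y hzU hz hy, he]

/-- A compatible family equal to another on a chart covering its domain is equal to it. -/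
lemma Datum.Compat.eq_of_chart {W : P.Opens} {t t' : D.Fam q ch n W} (ht : D.Compat q ch n t)
    (ht' : D.Compat q ch n t') {U : S.Opens} (hU : IsAffineOpen U) (hW : W ≤ q ⁻¹ᵁ U)
    (he : t U hU = t' U hU) : t = t' := by
  funext V hV
  refine til_ext fun y' => ?_
  obtain ⟨y, hy⟩ := exists_point (q := q) (ch := ch) U hU (hW y'.2)
  exact ht.val_eq hP ht' hU hV hy (hy ▸ y'.2 : (RelProj.emb q ch U hU).base y ∈ W) y'.2 (by rw [he])

section Reconstruct

variable {G : P.Modules} {lam : ∀ (U : S.Opens) (hU : IsAffineOpen U), G ⟶ D.E q ch n U hU}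
  (hG : D.IsTilde q ch n G lam)

include hG

/-- Sections of `G` are determined by their readings on the charts. -/
lemma Datum.IsTilde.section_ext {W : P.Opens} {g g' : Γ(G, W)}
    (h : ∀ (U : S.Opens) (hU : IsAffineOpen U), (lam U hU).app W g = (lam U hU).app W g') : g = g' := by
  refine QC.section_eq_of_locally fun x hx => ?_
  obtain ⟨U, hU, hxU, -⟩ := exists_isAffineOpen_mem_and_subset (x := q.base x) (U := ⊤) trivial
  refine ⟨W ⊓ q ⁻¹ᵁ U, inf_le_left, ⟨hx, hxU⟩, (hG.bijective U hU _ inf_le_right).1 ?_⟩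
  rw [← QC.app_res (lam U hU), ← QC.app_res (lam U hU), h]

set_option maxHeartbeats 1600000 in
/-- A compatible family is read off from exactly one section. -/
theorem Datum.IsTilde.existsUnique_section {W : P.Opens} (t : D.Fam q ch n W)
    (ht : D.Compat q ch n t) :
    ∃! g : Γ(G, W), ∀ (U : S.Opens) (hU : IsAffineOpen U), (lam U hU).app W g = t U hU := by
  have hsurj : ∀ U : S.affineOpens, ∃ g : Γ(G, W ⊓ q ⁻¹ᵁ U.1),
      (fun (V : S.Opens) (hV : IsAffineOpen V) => (lam V hV).app (W ⊓ q ⁻¹ᵁ U.1) g) =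
        D.resFam inf_le_left t := fun U => by
    obtain ⟨g, hg⟩ := (hG.bijective U.1 U.2 (W ⊓ q ⁻¹ᵁ U.1) inf_le_right).2
      (D.resFam inf_le_left t U.1 U.2)
    exact ⟨g, (hG.compat _ g).eq_of_chart hP (ht.res inf_le_left) U.2 inf_le_right hg⟩
  choose g hg using hsurj
  have hval : ∀ (U : S.affineOpens) (V : S.Opens) (hV : IsAffineOpen V)
      (y : ProjectiveSpectrum (𝒮.deg V hV)) (hy : (RelProj.emb q ch V hV).base y ∈ W ⊓ q ⁻¹ᵁ U.1),
      GrMod.val (V := RelProj.emb q ch V hV ⁻¹ᵁ (W ⊓ q ⁻¹ᵁ U.1))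
        ((lam V hV).app (W ⊓ q ⁻¹ᵁ U.1) (g U)) ⟨y, hy⟩ =
      GrMod.val (V := RelProj.emb q ch V hV ⁻¹ᵁ W) (t V hV) ⟨y, hy.1⟩ := fun U V hV y hy => by
    rw [congrFun (congrFun (hg U) V) hV]
    rfl
  obtain ⟨g₀, hg₀, -⟩ := TopCat.Sheaf.existsUnique_gluing' (QC.abSheaf G)
    (fun U : S.affineOpens => W ⊓ q ⁻¹ᵁ U.1) W (fun U => homOfLE inf_le_left)
    (fun x hx => by
      obtain ⟨U, hU, hxU, -⟩ := exists_isAffineOpen_mem_and_subset (x := q.base x) (U := ⊤) trivial
      exact Opens.mem_iSup.mpr ⟨⟨U, hU⟩, hx, hxU⟩)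
    g (fun U U' => hG.section_ext hP fun V hV => til_ext fun y => by
      refine (Datum.IsTilde.app_res (lam := lam) inf_le_left (g U) V hV y.1 y.2).trans ?_
      refine Eq.trans ?_ (Datum.IsTilde.app_res (lam := lam) inf_le_right (g U') V hV y.1 y.2).symm
      rw [hval, hval])
  refine ⟨g₀, fun V hV => til_ext fun y => ?_, fun g' hg' => hG.section_ext hP fun V hV => ?_⟩
  · obtain ⟨U, hU, hxU, -⟩ := exists_isAffineOpen_mem_and_subset
      (x := q.base ((RelProj.emb q ch V hV).base y.1)) (U := ⊤) trivial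
    refine (Datum.IsTilde.app_res (lam := lam) (W' := W ⊓ q ⁻¹ᵁ U) inf_le_left g₀ V hV y.1 ⟨y.2, hxU⟩).symm.trans ?_
    rw [show QC.res G inf_le_left g₀ = g ⟨U, hU⟩ from hg₀ ⟨U, hU⟩]
    exact hval ⟨U, hU⟩ V hV y.1 _
  · rw [hg' V hV]
    refine til_ext fun y => ?_
    obtain ⟨U, hU, hxU, -⟩ := exists_isAffineOpen_mem_and_subset
      (x := q.base ((RelProj.emb q ch V hV).base y.1)) (U := ⊤) trivial
    refine Eq.trans ?_ (Datum.IsTilde.app_res (lam := lam) (W' := W ⊓ q ⁻¹ᵁ U) inf_le_left g₀ V hV y.1 ⟨y.2, hxU⟩)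
    rw [show QC.res G inf_le_left g₀ = g ⟨U, hU⟩ from hg₀ ⟨U, hU⟩]
    exact (hval ⟨U, hU⟩ V hV y.1 _).symm

/-- Maps into `G` are the compatible systems of maps into the charts. -/
theorem Datum.IsTilde.existsUnique_hom {F : P.Modules}
    (f : ∀ (U : S.Opens) (hU : IsAffineOpen U), F ⟶ D.E q ch n U hU)
    (hf : ∀ (W : P.Opens) (s : Γ(F, W)), D.Compat q ch n (W := W) (fun U hU => (f U hU).app W s)) :
    ∃! φ : F ⟶ G, ∀ (U : S.Opens) (hU : IsAffineOpen U), φ ≫ lam U hU = f U hU := by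
  choose a ha hau using fun (W : P.Opens) (s : Γ(F, W)) => hG.existsUnique_section hP _ (hf W s)
  let φ : F ⟶ G := ⟨PresheafOfModules.homMk
    { app := fun W => AddCommGrpCat.ofHom (X := Γ(F, W.unop)) (Y := Γ(G, W.unop))
        (AddMonoidHom.mk' (a W.unop) fun s s' => hG.section_ext hP fun U hU => by
          rw [ha, map_add, map_add, ha, ha])
      naturality := fun W W' i => by
        ext s
        change a W'.unop (QC.res F (leOfHom i.unop) s) = QC.res G (leOfHom i.unop) (a W.unop s)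
        refine hG.section_ext hP fun U hU => ?_
        rw [ha, ← QC.app_res (lam U hU), ha, ← QC.app_res (f U hU)] }
    fun W (r : Γ(P, W.unop)) (s : Γ(F, W.unop)) => by
      change a W.unop (r • s) = r • a W.unop s
      refine hG.section_ext hP fun U hU => ?_
      rw [ha]
      refine ((f U hU).app_smul r s).trans ?_
      rw [← ha W.unop s U hU]
      exact ((lam U hU).app_smul r _).symm⟩
  refine ⟨φ, fun U hU => ?_, fun ψ hψ => ?_⟩
  · ext W s
    exact ha W s U hU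
  · ext W s
    exact hau W s _ fun U hU => by rw [← hψ U hU]; rfl

end Reconstruct

end Groth.Agent.RelTilde
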