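import Groth.Agent.RelTilde.LocPair
import Groth.Agent.RelTilde.Basic
import Groth.Agent.RelProjLib.Basic

/-!
Compatible systems of graded modules over the affine opens of the base and the values of their
homogeneous localisations at the points of a relative Proj.
-/

set_option autoImplicit false
set_option backward.isDefEq.respectTransparency false

universe u

open CategoryTheory DirectSum TopologicalSpace AlgebraicGeometry Opposite
open scoped HomogeneousIdeal

noncomputable section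

namespace Groth.Agent.RelTilde

variable {S : Scheme.{u}}

/-- `V` is a basic open of `U`. -/
def IsB (V U : S.Opens) : Prop := ∃ r : Γ(S, U), S.basicOpen r = V

lemma IsB.le {V U : S.Opens} (b : IsB V U) : V ≤ U := b.choose_spec ▸ S.basicOpen_le _

lemma IsB.trans {W V U : S.Opens} (hU : IsAffineOpen U) (b₂ : IsB W V) (b₁ : IsB V U) : IsB W U := by
  obtain ⟨f, rfl⟩ := b₁
  obtain ⟨g, rfl⟩ := b₂
  exact hU.basicOpen_basicOpen_is_basicOpen f g

lemma IsB.refl (U : S.Opens) : IsB U U :=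
  ⟨1, S.basicOpen_of_isUnit isUnit_one⟩

lemma isB_basicOpen {U : S.Opens} (r : Γ(S, U)) : IsB (S.basicOpen r) U := ⟨r, rfl⟩

variable (𝒮 : RelProj.QCGrAlg S)

lemma irrB {V U : S.Opens} (hU : IsAffineOpen U) (hV : IsAffineOpen V) (b : IsB V U) :
    (𝒮.deg V hV)₊ ≤ ((𝒮.deg U hU)₊).map (𝒮.res hU hV b.le) := by
  obtain ⟨r, rfl⟩ := b
  exact 𝒮.irrelevant_le_map U hU r

/-- A compatible system of graded modules over the sections of `𝒮` on the affine opens, restriction
to a basic open being the localisation. -/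
structure Datum where
  M : S.Opens → Type u
  addCommGroup : ∀ U, AddCommGroup (M U)
  module : ∀ U, Module (𝒮.presheaf.obj (op U)) (M U)
  deg : ∀ U, IsAffineOpen U → ℕ → AddSubgroup (M U)
  decomp : ∀ U hU, Decomposition (deg U hU)
  gradedSMul : ∀ U hU, SetLike.GradedSMul (𝒮.deg U hU) (deg U hU)
  res : ∀ {U V : S.Opens} (hU : IsAffineOpen U) (hV : IsAffineOpen V) (i : V ≤ U),
    M U →ₛₗ[(𝒮.res hU hV i).toRingHom] M V
  res_comp : ∀ {U V W : S.Opens} (hU : IsAffineOpen U) (hV : IsAffineOpen V) (hW : IsAffineOpen W)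
    (i : V ≤ U) (j : W ≤ V) (m : M U), res hV hW j (res hU hV i m) = res hU hW (j.trans i) m
  isLocPair : ∀ (U : S.Opens) (hU : IsAffineOpen U) (r : Γ(S, U)),
    IsLocPair (deg U hU) (deg (S.basicOpen r) (hU.basicOpen r))
      (𝒮.res hU (hU.basicOpen r) (S.basicOpen_le r)) (res hU (hU.basicOpen r) (S.basicOpen_le r))
      ((𝒮.str.app (op U)).hom r)

variable {𝒮} (D : Datum 𝒮)

instance (U : S.Opens) : AddCommGroup (D.M U) := D.addCommGroup U
instance (U : S.Opens) : Module (𝒮.presheaf.obj (op U)) (D.M U) := D.module U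
instance (U : S.Opens) (hU : IsAffineOpen U) : Decomposition (D.deg U hU) := D.decomp U hU
instance (U : S.Opens) (hU : IsAffineOpen U) : SetLike.GradedSMul (𝒮.deg U hU) (D.deg U hU) :=
  D.gradedSMul U hU

/-- `M(U)(n)~` on `Proj 𝒮(U)`. -/
abbrev Datum.til (n : ℤ) (U : S.Opens) (hU : IsAffineOpen U) : (Proj (𝒮.deg U hU)).Modules :=
  GrMod.tilde (𝒮.deg U hU) (D.deg U hU) n

/-- The map of localised modules along a basic open inclusion, the source point a free variable. -/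
def Datum.tr {U V : S.Opens} (hU : IsAffineOpen U) (hV : IsAffineOpen V) (b : IsB V U)
    (z : ProjectiveSpectrum (𝒮.deg V hV)) (y : ProjectiveSpectrum (𝒮.deg U hU))
    (h : ProjectiveSpectrum.comap (𝒮.res hU hV b.le) (irrB 𝒮 hU hV b) z = y) :
    GrMod.LocMod (𝒮.deg U hU) (M := D.M U) y →+ GrMod.LocMod (𝒮.deg V hV) (M := D.M V) z :=
  h ▸ GrMod.locModMap (𝒮.res hU hV b.le) (irrB 𝒮 hU hV b) (D.res hU hV b.le) z

lemma Datum.tr_rfl {U V : S.Opens} (hU : IsAffineOpen U) (hV : IsAffineOpen V) (b : IsB V U)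
    (z : ProjectiveSpectrum (𝒮.deg V hV)) :
    D.tr hU hV b z _ rfl =
      GrMod.locModMap (𝒮.res hU hV b.le) (irrB 𝒮 hU hV b) (D.res hU hV b.le) z := rfl

lemma res_not_mem {U V : S.Opens} {hU : IsAffineOpen U} {hV : IsAffineOpen V} {b : IsB V U}
    {z : ProjectiveSpectrum (𝒮.deg V hV)} {y : ProjectiveSpectrum (𝒮.deg U hU)}
    (h : ProjectiveSpectrum.comap (𝒮.res hU hV b.le) (irrB 𝒮 hU hV b) z = y)
    {g : 𝒮.presheaf.obj (op U)} :
    g ∉ y.asHomogeneousIdeal ↔ 𝒮.res hU hV b.le g ∉ z.asHomogeneousIdeal := by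
  subst h; exact Iff.rfl

lemma Datum.tr_mk {U V : S.Opens} (hU : IsAffineOpen U) (hV : IsAffineOpen V) (b : IsB V U)
    (z : ProjectiveSpectrum (𝒮.deg V hV)) (y : ProjectiveSpectrum (𝒮.deg U hU))
    (h : ProjectiveSpectrum.comap (𝒮.res hU hV b.le) (irrB 𝒮 hU hV b) z = y)
    (m : D.M U) (g : 𝒮.presheaf.obj (op U)) (hg : g ∉ y.asHomogeneousIdeal) :
    D.tr hU hV b z y h (LocalizedModule.mk m ⟨g, hg⟩) =
      LocalizedModule.mk (D.res hU hV b.le m) ⟨𝒮.res hU hV b.le g, (res_not_mem (b := b) h).mp hg⟩ := by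
  subst h; rfl

lemma Datum.tr_tr {U V W : S.Opens} (hU : IsAffineOpen U) (hV : IsAffineOpen V) (hW : IsAffineOpen W)
    (b₁ : IsB V U) (b₂ : IsB W V) (b₃ : IsB W U)
    (w : ProjectiveSpectrum (𝒮.deg W hW)) (z : ProjectiveSpectrum (𝒮.deg V hV))
    (y : ProjectiveSpectrum (𝒮.deg U hU))
    (h₁ : ProjectiveSpectrum.comap (𝒮.res hU hV b₁.le) (irrB 𝒮 hU hV b₁) z = y)
    (h₂ : ProjectiveSpectrum.comap (𝒮.res hV hW b₂.le) (irrB 𝒮 hV hW b₂) w = z)
    (h₃ : ProjectiveSpectrum.comap (𝒮.res hU hW b₃.le) (irrB 𝒮 hU hW b₃) w = y)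
    (q : GrMod.LocMod (𝒮.deg U hU) (M := D.M U) y) :
    D.tr hV hW b₂ w z h₂ (D.tr hU hV b₁ z y h₁ q) = D.tr hU hW b₃ w y h₃ q := by
  induction q using LocalizedModule.induction_on with
  | h m s =>
    obtain ⟨g, hg⟩ := s
    rw [D.tr_mk, D.tr_mk, D.tr_mk]
    congr 1
    · exact D.res_comp hU hV hW b₁.le b₂.le m
    · exact Subtype.ext (DFunLike.congr_fun (RelProjLib.res_comp 𝒮 hU hV hW b₁.le b₂.le) g)

lemma Datum.isLocPair_of_isB {U V : S.Opens} (hU : IsAffineOpen U) (hV : IsAffineOpen V) (b : IsB V U) :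
    ∃ f, IsLocPair (D.deg U hU) (D.deg V hV) (𝒮.res hU hV b.le) (D.res hU hV b.le) f := by
  obtain ⟨r, rfl⟩ := b
  exact ⟨_, D.isLocPair U hU r⟩

lemma Datum.tr_bijective {U V : S.Opens} (hU : IsAffineOpen U) (hV : IsAffineOpen V) (b : IsB V U)
    (z : ProjectiveSpectrum (𝒮.deg V hV)) (y : ProjectiveSpectrum (𝒮.deg U hU))
    (h : ProjectiveSpectrum.comap (𝒮.res hU hV b.le) (irrB 𝒮 hU hV b) z = y) :
    Function.Bijective (D.tr hU hV b z y h) := by
  subst h
  obtain ⟨f, H⟩ := D.isLocPair_of_isB hU hV b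
  exact H.locModMap_bijective _ z

section Points

variable {P : Scheme.{u}} {q : P ⟶ S}
  {ch : ∀ (U : S.Opens) (hU : IsAffineOpen U), ((q ⁻¹ᵁ U : P.Opens) : Scheme.{u}) ≅ Proj (𝒮.deg U hU)}
  (hP : RelProj.IsRelProj 𝒮 q ch)

include hP

omit D

lemma emb_comap {U V : S.Opens} (hU : IsAffineOpen U) (hV : IsAffineOpen V) (b : IsB V U)
    (z : ProjectiveSpectrum (𝒮.deg V hV)) :
    (RelProj.emb q ch U hU).base (ProjectiveSpectrum.comap (𝒮.res hU hV b.le) (irrB 𝒮 hU hV b) z) =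
      (RelProj.emb q ch V hV).base z := by
  obtain ⟨r, rfl⟩ := b
  rw [← RelProj.map_res_emb hP U hU r]
  rfl

lemma comap_eq {U V : S.Opens} (hU : IsAffineOpen U) (hV : IsAffineOpen V) (b : IsB V U)
    (z : ProjectiveSpectrum (𝒮.deg V hV)) (y : ProjectiveSpectrum (𝒮.deg U hU))
    (h : (RelProj.emb q ch U hU).base y = (RelProj.emb q ch V hV).base z) :
    ProjectiveSpectrum.comap (𝒮.res hU hV b.le) (irrB 𝒮 hU hV b) z = y :=
  (RelProj.emb q ch U hU).isOpenEmbedding.injective ((emb_comap hP hU hV b z).trans h.symm)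

omit hP in
lemma mem_preimage_emb (U : S.Opens) (hU : IsAffineOpen U) (y : ProjectiveSpectrum (𝒮.deg U hU)) :
    (RelProj.emb q ch U hU).base y ∈ q ⁻¹ᵁ U := by
  rw [← RelProjLib.opensRange_emb (𝒮 := 𝒮) (q := q) (ch := ch) U hU]
  exact ⟨y, rfl⟩

omit hP in
lemma exists_point (U : S.Opens) (hU : IsAffineOpen U) {x : P} (hx : x ∈ q ⁻¹ᵁ U) :
    ∃ y : ProjectiveSpectrum (𝒮.deg U hU), (RelProj.emb q ch U hU).base y = x := by
  rw [← RelProjLib.opensRange_emb (𝒮 := 𝒮) (q := q) (ch := ch) U hU] at hx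
  exact hx

omit hP in
lemma exists_affine_point (x : P) :
    ∃ (U : S.Opens) (hU : IsAffineOpen U) (y : ProjectiveSpectrum (𝒮.deg U hU)),
      (RelProj.emb q ch U hU).base y = x := by
  obtain ⟨U, hU, hx, -⟩ := exists_isAffineOpen_mem_and_subset (x := q.base x) (U := ⊤) trivial
  exact ⟨U, hU, exists_point U hU hx⟩

/-- Two points over the same point of `P` come from a point over a common basic open. -/
lemma exists_common {U V : S.Opens} (hU : IsAffineOpen U) (hV : IsAffineOpen V)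
    {y : ProjectiveSpectrum (𝒮.deg U hU)} {y' : ProjectiveSpectrum (𝒮.deg V hV)}
    (h : (RelProj.emb q ch U hU).base y = (RelProj.emb q ch V hV).base y') :
    ∃ (O : S.Opens) (hO : IsAffineOpen O) (bU : IsB O U) (bV : IsB O V)
      (z : ProjectiveSpectrum (𝒮.deg O hO)),
      ProjectiveSpectrum.comap (𝒮.res hU hO bU.le) (irrB 𝒮 hU hO bU) z = y ∧
      ProjectiveSpectrum.comap (𝒮.res hV hO bV.le) (irrB 𝒮 hV hO bV) z = y' := by
  have hxU := mem_preimage_emb (q := q) (ch := ch) U hU y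
  have hxV := mem_preimage_emb (q := q) (ch := ch) V hV y'
  rw [← h] at hxV
  obtain ⟨f, g, hfg, hx⟩ := exists_basicOpen_le_affine_inter hU hV
    (q.base ((RelProj.emb q ch U hU).base y)) ⟨hxU, hxV⟩
  obtain ⟨z, hz⟩ := exists_point (q := q) (ch := ch) (S.basicOpen f) (hU.basicOpen f) hx
  have bU : IsB (S.basicOpen f) U := isB_basicOpen f
  have bV : IsB (S.basicOpen f) V := ⟨g, hfg.symm⟩
  exact ⟨_, hU.basicOpen f, bU, bV, z,
    comap_eq hP hU _ bU z y hz.symm, comap_eq hP hV _ bV z y' (h.symm.trans hz.symm)⟩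

end Points

end Groth.Agent.RelTilde
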