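import Groth.Agent.RelTilde.SectLift

/-!
Dehomogenisation at an element of degree one, and base change of `M(n)~` along a morphism of
homogeneous spectra.
-/

set_option autoImplicit false
set_option backward.isDefEq.respectTransparency false

universe u

open CategoryTheory DirectSum TopologicalSpace AlgebraicGeometry Opposite
  HomogeneousLocalization
open scoped HomogeneousIdeal

noncomputable section

namespace Groth.Agent.RelTilde

variable {A σ : Type u} [CommRing A] [SetLike σ A] [AddSubgroupClass σ A] (𝒜 : ℕ → σ)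
  [GradedRing 𝒜] {f : A}

section Away

variable {d : ℕ} (hf : f ∈ 𝒜 d)

lemma away_add {k : ℕ} {a b : A} (ha : a ∈ 𝒜 (k • d)) (hb : b ∈ 𝒜 (k • d)) :
    away 𝒜 hf k (add_mem ha hb) = away 𝒜 hf k ha + away 𝒜 hf k hb := by
  refine (congrArg _ (val_injective _ ?_)).trans (map_add _ _ _)
  rw [val_add, Away.val_mk, Away.val_mk, Away.val_mk, Localization.add_mk_self]

lemma away_mul {k l : ℕ} {a b : A} (ha : a ∈ 𝒜 (k • d)) (hb : b ∈ 𝒜 (l • d))
    (hab : a * b ∈ 𝒜 ((k + l) • d)) :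
    away 𝒜 hf (k + l) hab = away 𝒜 hf k ha * away 𝒜 hf l hb := by
  refine (congrArg _ (val_injective _ ?_)).trans (map_mul _ _ _)
  rw [val_mul, Away.val_mk, Away.val_mk, Away.val_mk, Localization.mk_mul]
  exact congrArg₂ Localization.mk rfl (Subtype.ext (pow_add f k l))

lemma away_one (h : (1 : A) ∈ 𝒜 ((0 : ℕ) • d)) : away 𝒜 hf 0 h = 1 := by
  refine (congrArg _ (val_injective _ ?_)).trans (map_one _)
  rw [Away.val_mk, val_one, ← Localization.mk_one]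
  exact congrArg₂ Localization.mk rfl (Subtype.ext (pow_zero f))

lemma away_congr {k : ℕ} {a b : A} (h : a = b) (ha : a ∈ 𝒜 (k • d)) (hb : b ∈ 𝒜 (k • d)) :
    away 𝒜 hf k ha = away 𝒜 hf k hb := by
  subst h; rfl

end Away

variable (hf : f ∈ 𝒜 1)

lemma mem_smul_one {a : A} {k : ℕ} (ha : a ∈ 𝒜 k) : a ∈ 𝒜 (k • 1) := by
  rwa [smul_eq_mul, mul_one]

/-- `a ↦ a / f ^ k` on the degree `k` part. -/
def awayHom (k : ℕ) : 𝒜 k →+ Γ(Proj 𝒜, Proj.basicOpen 𝒜 f) :=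
  AddMonoidHom.mk' (fun a => away 𝒜 hf k (mem_smul_one 𝒜 a.2))
    fun a b => away_add 𝒜 hf (mem_smul_one 𝒜 a.2) (mem_smul_one 𝒜 b.2)

/-- Dehomogenisation at `f`, onto the functions on `D₊(f)`. -/
def dehomRing : A →+* Γ(Proj 𝒜, Proj.basicOpen 𝒜 f) :=
  (DirectSum.toSemiring (awayHom 𝒜 hf) (away_one 𝒜 hf _)
      (fun {i j} a b => away_mul 𝒜 hf (k := i) (l := j) (mem_smul_one 𝒜 a.2) (mem_smul_one 𝒜 b.2) _)).comp
    (DirectSum.decomposeRingEquiv 𝒜).toRingHom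

lemma dehomRing_of_mem {k : ℕ} {a : A} (ha : a ∈ 𝒜 k) :
    dehomRing 𝒜 hf a = away 𝒜 hf k (mem_smul_one 𝒜 ha) := by
  simp only [dehomRing, RingHom.comp_apply]
  erw [decompose_of_mem 𝒜 ha, DirectSum.toSemiring_of]
  rfl

variable {M τ : Type u} [AddCommGroup M] [Module A M] [SetLike τ M] [AddSubgroupClass τ M] (ℳ : ℕ → τ)
variable [SetLike.GradedSMul 𝒜 ℳ] (n : ℤ)

include hf in
lemma shift_mem {i : ℕ} {m : M} (hm : m ∈ ℳ i) : f ^ n.toNat • m ∈ ℳ (n.toNat • 1 + i) :=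
  smul_mem_graded 𝒜 ℳ (SetLike.pow_mem_graded n.toNat hf) hm

omit [AddSubgroupClass τ M] in
lemma shift_eq (i : ℕ) :
    ((n.toNat • 1 + i : ℕ) : ℤ) = (((i + (-n).toNat) • 1 : ℕ) : ℤ) + n := by
  simp only [smul_eq_mul, mul_one]; push_cast; omega

/-- `m ↦ m / f ^ (i - n)` on the degree `i` part. -/
def dehomDeg (i : ℕ) : ℳ i →+ Γ(GrMod.tilde 𝒜 ℳ n, Proj.basicOpen 𝒜 f) :=
  AddMonoidHom.mk' (fun m => sec 𝒜 ℳ hf n (shift_mem 𝒜 hf ℳ n m.2) (shift_eq n i)) fun m m' => by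
    refine pt_ext 𝒜 ℳ fun y => ?_
    have hy := (ProjectiveSpectrum.mem_basicOpen 𝒜 f y.1).mp y.2
    refine Eq.trans ?_ (fr_add 𝒜 y.1 (not_mem_pow 𝒜 hy _) (not_mem_pow 𝒜 hy _)).symm
    refine fr_congr 𝒜 y.1 _ _ ?_
    simp only [AddMemClass.coe_add, smul_add, smul_smul, mul_assoc]

variable [DirectSum.Decomposition ℳ]

/-- Dehomogenisation at `f` of a graded module, shifted by `n`. -/
def dehom : M →+ Γ(GrMod.tilde 𝒜 ℳ n, Proj.basicOpen 𝒜 f) :=
  (DirectSum.toAddMonoid (dehomDeg 𝒜 hf ℳ n)).comp (DirectSum.decomposeAddEquiv ℳ).toAddMonoidHom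

lemma dehom_of_mem {i : ℕ} {m : M} (hm : m ∈ ℳ i) :
    dehom 𝒜 hf ℳ n m = sec 𝒜 ℳ hf n (shift_mem 𝒜 hf ℳ n hm) (shift_eq n i) := by
  change DirectSum.toAddMonoid _ (decompose ℳ m) = _
  rw [decompose_of_mem ℳ hm, DirectSum.toAddMonoid_of]
  rfl

lemma dehom_eq_sec {k i : ℕ} {m : M} (hm : m ∈ ℳ i) (hi : (i : ℤ) = ((k • 1 : ℕ) : ℤ) + n) :
    dehom 𝒜 hf ℳ n m = sec 𝒜 ℳ hf n hm hi := by
  rw [dehom_of_mem 𝒜 hf ℳ n hm]
  refine pt_ext 𝒜 ℳ fun y => fr_congr 𝒜 y.1 _ _ ?_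
  rw [smul_smul, ← pow_add]
  congr 2
  simp only [smul_eq_mul, mul_one] at hi
  omega

lemma dehom_smul (a : A) (m : M) :
    dehom 𝒜 hf ℳ n (a • m) = dehomRing 𝒜 hf a • dehom 𝒜 hf ℳ n m := by
  classical
  induction a using DirectSum.Decomposition.inductionOn 𝒜 with
  | zero => simp
  | add a b ha hb => rw [add_smul, map_add, ha, hb, map_add, add_smul]
  | homogeneous a =>
    rename_i l
    induction m using DirectSum.Decomposition.inductionOn ℳ with
    | zero => simp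
    | add x y hx hy => rw [smul_add, map_add, hx, hy, map_add, smul_add]
    | homogeneous m =>
      rename_i i
      rw [dehomRing_of_mem 𝒜 hf a.2, dehom_of_mem 𝒜 hf ℳ n m.2, away_smul_sec,
        dehom_of_mem 𝒜 hf ℳ n (smul_mem_graded 𝒜 ℳ a.2 m.2)]
      refine pt_ext 𝒜 ℳ fun y => fr_congr 𝒜 y.1 _ _ ?_
      simp only [smul_smul]
      congr 1
      ring

section Map

variable {B σ' : Type u} [CommRing B] [SetLike σ' B] [AddSubgroupClass σ' B] {ℬ : ℕ → σ'}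
  [GradedRing ℬ]
  {N τ' : Type u} [AddCommGroup N] [Module B N] [SetLike τ' N] [AddSubgroupClass τ' N] (𝒩 : ℕ → τ')
  [SetLike.GradedSMul ℬ 𝒩] [DirectSum.Decomposition 𝒩]
  (ψ : 𝒜 →+*ᵍ ℬ) (hψ : ℬ₊ ≤ (𝒜₊).map ψ)
  (v : M →ₛₗ[ψ.toRingHom] N) (hv : ∀ (i : ℕ) (m : M), m ∈ ℳ i → v m ∈ 𝒩 i)

omit M τ ℳ in
lemma appLE_dehomRing (a : A) :
    ((Proj.map ψ hψ).appLE (Proj.basicOpen 𝒜 f) (Proj.basicOpen ℬ (ψ f))
      (basicOpen_le_preimage 𝒜 ψ hψ f)).hom (dehomRing 𝒜 hf a) =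
      dehomRing ℬ (ψ.map_mem hf) (ψ a) := by
  classical
  induction a using DirectSum.Decomposition.inductionOn 𝒜 with
  | zero => rw [map_zero, map_zero, map_zero, map_zero]
  | add a b ha hb => rw [map_add, map_add, ha, hb, map_add, map_add]
  | homogeneous a =>
    rename_i l
    rw [dehomRing_of_mem 𝒜 hf a.2, appLE_away]
    exact (dehomRing_of_mem ℬ (ψ.map_mem hf) (ψ.map_mem a.2)).symm

set_option maxHeartbeats 1600000 in
set_option synthInstance.maxHeartbeats 200000 in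
include hf in
/-- Base change of a module along `ψ` gives base change of sections over `D₊(f)`, `deg f = 1`. -/
theorem isBC_of_isBaseChange
    (hbc : ∀ (Q : Type u) [AddCommGroup Q] [Module B Q] (w : M →ₛₗ[ψ.toRingHom] Q),
      ∃! g : N →ₗ[B] Q, ∀ m : M, g (v m) = w m) :
    IsBC (Proj.map ψ hψ) (GrMod.comap ψ hψ v hv n) (basicOpen_le_preimage 𝒜 ψ hψ f) := by
  classical
  have hf' := ψ.map_mem hf
  refine isBC_comap 𝒜 ℳ hf n 𝒩 ψ hψ v hv one_pos (fun Q _ _ w => ?_) fun Q _ _ F F' hFF' => ?_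
  · letI : Module B Q := Module.compHom Q (dehomRing ℬ hf')
    let w' : M →ₛₗ[ψ.toRingHom] Q :=
      { toFun := fun m => w (dehom 𝒜 hf ℳ n m)
        map_add' := fun a b => by rw [map_add, map_add]
        map_smul' := fun a m => by
          rw [dehom_smul, map_smulₛₗ w, appLE_dehomRing]
          rfl }
    obtain ⟨g, hg, -⟩ := hbc Q w'
    refine ⟨g.toAddMonoidHom, fun l e he k i b hb hi => ?_, fun k i m hm hi => ?_⟩
    · refine (g.map_smul e b).trans ?_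
      change dehomRing ℬ hf' e • g b = _
      rw [dehomRing_of_mem ℬ hf' (show e ∈ ℬ l by rwa [smul_eq_mul, mul_one] at he)]
      rfl
    · exact (hg m).trans (congrArg w (dehom_eq_sec 𝒜 hf ℳ n hm hi))
  · letI : Module B Q := Module.compHom Q (dehomRing ℬ hf')
    let L : (Γ(GrMod.tilde ℬ 𝒩 n, Proj.basicOpen ℬ (ψ f)) →ₗ[Γ(Proj ℬ, Proj.basicOpen ℬ (ψ f))] Q) →
        N →ₗ[B] Q := fun F =>
      { toFun := fun b => F (dehom ℬ hf' 𝒩 n b)
        map_add' := fun a b => by rw [map_add, map_add]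
        map_smul' := fun e b => by
          rw [dehom_smul, map_smul]
          rfl }
    have hagree : ∀ m, L F (v m) = L F' (v m) := fun m => by
      induction m using DirectSum.Decomposition.inductionOn ℳ with
      | zero => simp
      | add a b ha hb => simp only [map_add, ha, hb]
      | homogeneous m =>
        rename_i i
        have h1 : dehom ℬ hf' 𝒩 n (v (m : M)) =
            sec ℬ 𝒩 hf' n (hv _ _ (shift_mem 𝒜 hf ℳ n m.2)) (shift_eq n i) := by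
          rw [dehom_of_mem ℬ hf' 𝒩 n (hv i m m.2)]
          refine pt_ext ℬ 𝒩 fun y => fr_congr ℬ y.1 _ _ ?_
          rw [LinearMap.map_smulₛₗ]
          exact congrArg (fun c => (ψ f) ^ (i + (-n).toNat) • (c • v (m : M))) (map_pow ψ f _).symm
        change F _ = F' _
        rw [h1]
        exact hFF' _ _ _ (shift_mem 𝒜 hf ℳ n m.2) (shift_eq n i)
    obtain ⟨g, -, hgu⟩ := hbc Q ((L F).comp v)
    have hL : L F = L F' := (hgu _ fun m => rfl).trans (hgu _ fun m => (hagree m).symm).symm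
    refine LinearMap.ext fun s => ?_
    obtain ⟨k, i, b, hb, hi, rfl⟩ := exists_sec ℬ 𝒩 hf' n one_pos s
    rw [← dehom_eq_sec ℬ hf' 𝒩 n hb hi]
    exact LinearMap.congr_fun hL b

omit hf in
set_option maxHeartbeats 800000 in
/-- `ν : Φ^*(M(n)~) ⟶ N(n)~` is an isomorphism for a base change of modules and generation in
degree one. -/
theorem isIso_adjunct_comap (hgen : (𝒜₊).toIdeal = Ideal.span (𝒜 1 : Set A))
    (hbc : ∀ (Q : Type u) [AddCommGroup Q] [Module B Q] (w : M →ₛₗ[ψ.toRingHom] Q),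
      ∃! g : N →ₗ[B] Q, ∀ m : M, g (v m) = w m) :
    IsIso (((Scheme.Modules.pullbackPushforwardAdjunction (Proj.map ψ hψ)).homEquiv _ _).symm
      (GrMod.comap ψ hψ v hv n)) := by
  refine isIso_adjunct (Proj.map ψ hψ) _ (isQCoh_tilde 𝒜 ℳ n) (isQCoh_tilde ℬ 𝒩 n) fun y => ?_
  obtain ⟨g, hg, hgy⟩ : ∃ g ∈ 𝒜 1, g ∉ (ProjectiveSpectrum.comap ψ hψ y).asHomogeneousIdeal := by
    by_contra hc
    push Not at hc
    refine (ProjectiveSpectrum.comap ψ hψ y).not_irrelevant_le ?_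
    change (𝒜₊).toIdeal ≤ _
    rw [hgen]
    exact Ideal.span_le.mpr hc
  exact ⟨_, Proj.isAffineOpen_basicOpen 𝒜 g hg one_pos, _,
    Proj.isAffineOpen_basicOpen ℬ (ψ g) (ψ.map_mem hg) one_pos, basicOpen_le_preimage 𝒜 ψ hψ g,
    (ProjectiveSpectrum.mem_basicOpen ℬ _ y).mpr hgy, isBC_of_isBaseChange 𝒜 hg ℳ n 𝒩 ψ hψ v hv hbc⟩

end Map

end Groth.Agent.RelTilde
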