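import Groth.Agent.RelTilde.Compat

/-!
A section on one chart extends uniquely to a compatible family.
-/

set_option autoImplicit false
set_option backward.isDefEq.respectTransparency false

universe u

open CategoryTheory DirectSum TopologicalSpace AlgebraicGeometry Opposite
open scoped HomogeneousIdeal

noncomputable section

namespace Groth.Agent.RelTilde

variable {S P : Scheme.{u}} {𝒮 : RelProj.QCGrAlg S} {D : Datum 𝒮} {q : P ⟶ S}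
  {ch : ∀ (U : S.Opens) (hU : IsAffineOpen U), ((q ⁻¹ᵁ U : P.Opens) : Scheme.{u}) ≅ Proj (𝒮.deg U hU)}
  {n : ℤ} {W : P.Opens} {U₀ : S.Opens} {hU₀ : IsAffineOpen U₀}

/-- The value at a point of a chart transported from the chart over `U₀`. -/
def Transported (t₀ : Γ(D.til n U₀ hU₀, RelProj.emb q ch U₀ hU₀ ⁻¹ᵁ W)) (V : S.Opens) (hV : IsAffineOpen V)
    (y' : ProjectiveSpectrum (𝒮.deg V hV)) (c : GrMod.LocMod (𝒮.deg V hV) (M := D.M V) y') : Prop :=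
  ∀ (O : S.Opens) (hO : IsAffineOpen O) (bU : IsB O U₀) (bV : IsB O V)
    (z : ProjectiveSpectrum (𝒮.deg O hO)) (y : ProjectiveSpectrum (𝒮.deg U₀ hU₀))
    (hy : (RelProj.emb q ch U₀ hU₀).base y ∈ W)
    (h : ProjectiveSpectrum.comap (𝒮.res hU₀ hO bU.le) (irrB 𝒮 hU₀ hO bU) z = y)
    (h' : ProjectiveSpectrum.comap (𝒮.res hV hO bV.le) (irrB 𝒮 hV hO bV) z = y'),
    D.tr hV hO bV z y' h' c =
      D.tr hU₀ hO bU z y h (GrMod.val (V := RelProj.emb q ch U₀ hU₀ ⁻¹ᵁ W) t₀ ⟨y, hy⟩)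

variable (hP : RelProj.IsRelProj 𝒮 q ch) (hW : W ≤ q ⁻¹ᵁ U₀)
  (t₀ : Γ(D.til n U₀ hU₀, RelProj.emb q ch U₀ hU₀ ⁻¹ᵁ W))

include hP hW

lemma exists_common₀ {V : S.Opens} (hV : IsAffineOpen V) {y' : ProjectiveSpectrum (𝒮.deg V hV)}
    (hy' : (RelProj.emb q ch V hV).base y' ∈ W) :
    ∃ (O : S.Opens) (hO : IsAffineOpen O) (bU : IsB O U₀) (bV : IsB O V)
      (z : ProjectiveSpectrum (𝒮.deg O hO)) (y : ProjectiveSpectrum (𝒮.deg U₀ hU₀)),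
      (RelProj.emb q ch U₀ hU₀).base y ∈ W ∧
      ProjectiveSpectrum.comap (𝒮.res hU₀ hO bU.le) (irrB 𝒮 hU₀ hO bU) z = y ∧
      ProjectiveSpectrum.comap (𝒮.res hV hO bV.le) (irrB 𝒮 hV hO bV) z = y' := by
  obtain ⟨y, hy⟩ := exists_point (q := q) (ch := ch) U₀ hU₀ (hW hy')
  obtain ⟨O, hO, bU, bV, z, h1, h2⟩ := exists_common hP hU₀ hV hy
  exact ⟨O, hO, bU, bV, z, y, hy ▸ hy', h1, h2⟩

lemma transported_unique {V : S.Opens} {hV : IsAffineOpen V} {y' : ProjectiveSpectrum (𝒮.deg V hV)}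
    (hy' : (RelProj.emb q ch V hV).base y' ∈ W) {c c' : GrMod.LocMod (𝒮.deg V hV) (M := D.M V) y'}
    (hc : Transported t₀ V hV y' c) (hc' : Transported t₀ V hV y' c') : c = c' := by
  obtain ⟨O, hO, bU, bV, z, y, hy, h1, h2⟩ := exists_common₀ hP hW hV hy'
  exact (D.tr_bijective hV hO bV z y' h2).1
    ((hc O hO bU bV z y hy h1 h2).trans (hc' O hO bU bV z y hy h1 h2).symm)

omit hW in
lemma transported_of_eq {V : S.Opens} {hV : IsAffineOpen V} {y' : ProjectiveSpectrum (𝒮.deg V hV)}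
    {c : GrMod.LocMod (𝒮.deg V hV) (M := D.M V) y'} {O : S.Opens} (hO : IsAffineOpen O)
    (bU : IsB O U₀) (bV : IsB O V) (z : ProjectiveSpectrum (𝒮.deg O hO))
    (y : ProjectiveSpectrum (𝒮.deg U₀ hU₀)) (hy : (RelProj.emb q ch U₀ hU₀).base y ∈ W)
    (h : ProjectiveSpectrum.comap (𝒮.res hU₀ hO bU.le) (irrB 𝒮 hU₀ hO bU) z = y)
    (h' : ProjectiveSpectrum.comap (𝒮.res hV hO bV.le) (irrB 𝒮 hV hO bV) z = y')
    (he : D.tr hV hO bV z y' h' c =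
      D.tr hU₀ hO bU z y h (GrMod.val (V := RelProj.emb q ch U₀ hU₀ ⁻¹ᵁ W) t₀ ⟨y, hy⟩)) :
    Transported t₀ V hV y' c := by
  intro O₁ hO₁ bU₁ bV₁ z₁ y₁ hy₁ h₁ h₁'
  have hzz : (RelProj.emb q ch O hO).base z = (RelProj.emb q ch O₁ hO₁).base z₁ := by
    rw [← emb_comap hP hV hO bV z, ← emb_comap hP hV hO₁ bV₁ z₁, h', h₁']
  have hyy : y = y₁ := (RelProj.emb q ch U₀ hU₀).isOpenEmbedding.injective (by
    rw [← h, ← h₁, emb_comap hP hU₀ hO bU z, emb_comap hP hU₀ hO₁ bU₁ z₁, hzz])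
  subst hyy
  obtain ⟨O₂, hO₂, b, b₁, w, hw, hw₁⟩ := exists_common hP hO hO₁ hzz
  have e1 : ProjectiveSpectrum.comap (𝒮.res hV hO₂ (b.trans hV bV).le)
      (irrB 𝒮 hV hO₂ (b.trans hV bV)) w = y' := comap_eq hP hV hO₂ (b.trans hV bV) w y' (by
    rw [← h', emb_comap hP hV hO bV z, ← hw, emb_comap hP hO hO₂ b w])
  have e2 : ProjectiveSpectrum.comap (𝒮.res hU₀ hO₂ (b.trans hU₀ bU).le)
      (irrB 𝒮 hU₀ hO₂ (b.trans hU₀ bU)) w = y := comap_eq hP hU₀ hO₂ (b.trans hU₀ bU) w y (by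
    rw [← h, emb_comap hP hU₀ hO bU z, ← hw, emb_comap hP hO hO₂ b w])
  refine (D.tr_bijective hO₁ hO₂ b₁ w z₁ hw₁).1 ?_
  rw [D.tr_tr hV hO₁ hO₂ bV₁ b₁ (b.trans hV bV) w z₁ y' h₁' hw₁ e1,
    D.tr_tr hU₀ hO₁ hO₂ bU₁ b₁ (b.trans hU₀ bU) w z₁ y h₁ hw₁ e2,
    ← D.tr_tr hV hO hO₂ bV b (b.trans hV bV) w z y' h' hw e1,
    ← D.tr_tr hU₀ hO hO₂ bU b (b.trans hU₀ bU) w z y h hw e2, he]

lemma exists_transported {V : S.Opens} {hV : IsAffineOpen V} {y' : ProjectiveSpectrum (𝒮.deg V hV)}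
    (hy' : (RelProj.emb q ch V hV).base y' ∈ W) : ∃ c, Transported t₀ V hV y' c := by
  obtain ⟨O, hO, bU, bV, z, y, hy, h1, h2⟩ := exists_common₀ hP hW hV hy'
  obtain ⟨c, hc⟩ := (D.tr_bijective hV hO bV z y' h2).2
    (D.tr hU₀ hO bU z y h1 (GrMod.val (V := RelProj.emb q ch U₀ hU₀ ⁻¹ᵁ W) t₀ ⟨y, hy⟩))
  exact ⟨c, transported_of_eq hP t₀ hO bU bV z y hy h1 h2 hc⟩

/-- Near every point the transported values are one fraction. -/
lemma exists_transported_frac {V : S.Opens} {hV : IsAffineOpen V} {y' : ProjectiveSpectrum (𝒮.deg V hV)}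
    (hy' : (RelProj.emb q ch V hV).base y' ∈ W) :
    ∃ (i j : ℕ) (m : D.deg V hV i) (a : 𝒮.deg V hV j)
      (N : Opens (ProjectiveSpectrum.top (𝒮.deg V hV))),
      y' ∈ N ∧ N ≤ RelProj.emb q ch V hV ⁻¹ᵁ W ∧ ((i : ℤ) = j + n ∨ (m : D.M V) = 0) ∧
      ∀ w ∈ N, ∃ ha : (a : 𝒮.presheaf.obj (op V)) ∉ w.asHomogeneousIdeal,
        Transported t₀ V hV w (LocalizedModule.mk (m : D.M V) ⟨a, ha⟩) := by
  obtain ⟨O, hO, bU, bV, z, y, hy, h1, h2⟩ := exists_common₀ hP hW hV hy'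
  obtain ⟨e, i, g, a, -, hg, ha, hn, hgy, hgU, hs⟩ :=
    exists_frac_nhd (𝒮.deg U₀ hU₀) (D.deg U₀ hU₀) t₀ ⟨y, hy⟩
  obtain ⟨f₁, H₁⟩ := D.isLocPair_of_isB hU₀ hO bU
  obtain ⟨f₂, H₂⟩ := D.isLocPair_of_isB hV hO bV
  obtain ⟨m', a', hm', ha', hlift⟩ := H₂.exists_frac_lift (H₁.map_mem _ _ ha)
    ((𝒮.res hU₀ hO bU.le).map_mem hg)
  have hz : 𝒮.res hU₀ hO bU.le g ∉ z.asHomogeneousIdeal := (res_not_mem (b := bU) h1).mp hgy
  have hembz : (RelProj.emb q ch O hO).base z = (RelProj.emb q ch V hV).base y' := by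
    rw [← emb_comap hP hV hO bV z, h2]
  let NO : (Proj (𝒮.deg O hO)).Opens :=
    Proj.basicOpen (𝒮.deg O hO) (𝒮.res hU₀ hO bU.le g) ⊓ RelProj.emb q ch O hO ⁻¹ᵁ W
  refine ⟨i, e, ⟨m', hm'⟩, ⟨a', ha'⟩, RelProj.emb q ch V hV ⁻¹ᵁ (RelProj.emb q ch O hO ''ᵁ NO),
    ⟨z, ⟨(ProjectiveSpectrum.mem_basicOpen _ _ _).mpr hz, ?_⟩, hembz⟩, ?_, Or.inl hn, ?_⟩
  · change (RelProj.emb q ch O hO).base z ∈ W
    rw [hembz]; exact hy'
  · rintro w ⟨zw, hzw, e'⟩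
    change (RelProj.emb q ch V hV).base w ∈ W
    rw [← e']; exact hzw.2
  · rintro w ⟨zw, hzw, e'⟩
    obtain ⟨hz', hval⟩ := hlift zw ((ProjectiveSpectrum.mem_basicOpen _ _ _).mp hzw.1)
    have hw2 : ProjectiveSpectrum.comap (𝒮.res hV hO bV.le) (irrB 𝒮 hV hO bV) zw = w :=
      comap_eq hP hV hO bV zw w e'.symm
    refine ⟨(res_not_mem (b := bV) hw2).mpr hz', ?_⟩
    have hy0 : (RelProj.emb q ch U₀ hU₀).base
        (ProjectiveSpectrum.comap (𝒮.res hU₀ hO bU.le) (irrB 𝒮 hU₀ hO bU) zw) ∈ W := by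
      rw [emb_comap hP hU₀ hO bU zw]; exact hzw.2
    refine transported_of_eq hP t₀ hO bU bV zw _ hy0 rfl hw2 ?_
    rw [D.tr_mk, hval ((ProjectiveSpectrum.mem_basicOpen _ _ _).mp hzw.1)]
    have hgw : g ∉ (ProjectiveSpectrum.comap (𝒮.res hU₀ hO bU.le)
        (irrB 𝒮 hU₀ hO bU) zw).asHomogeneousIdeal :=
      (ProjectiveSpectrum.mem_basicOpen _ _ _).mp hzw.1
    exact (congrArg (D.tr hU₀ hO bU zw _ rfl) (hs ⟨_, hy0⟩ hgw)).trans
      (D.tr_mk hU₀ hO bU zw _ rfl a g hgw) |>.symm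

/-- A section on the chart over `U₀` extends to a compatible family. -/
theorem exists_compat_extend :
    ∃ t : D.Fam q ch n W, D.Compat q ch n t ∧ t U₀ hU₀ = t₀ := by
  choose c hc using fun (V : S.Opens) (hV : IsAffineOpen V) (y : ProjectiveSpectrum (𝒮.deg V hV))
    (hy : (RelProj.emb q ch V hV).base y ∈ W) => exists_transported hP hW t₀ hy
  have hmem : ∀ (V : S.Opens) (hV : IsAffineOpen V) (y : ProjectiveSpectrum (𝒮.deg V hV))
      (hy : (RelProj.emb q ch V hV).base y ∈ W),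
      c V hV y hy ∈ GrMod.tildeAt (𝒮.deg V hV) (D.deg V hV) n y := fun V hV y hy => by
    obtain ⟨i, j, m, a, N, hyN, hNW, hij, hN⟩ := exists_transported_frac hP hW t₀ hy
    obtain ⟨ha, htr⟩ := hN y hyN
    rw [transported_unique hP hW t₀ hy (hc V hV y hy) htr]
    rcases hij with hij | h0
    · exact Submodule.subset_span ⟨i, j, m, a, ha, hij, rfl⟩
    · rw [h0, LocalizedModule.zero_mk]; exact zero_mem _
  let t : D.Fam q ch n W := fun V hV =>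
    (⟨fun y => ⟨c V hV y.1 y.2, hmem V hV y.1 y.2⟩, fun y => by
      obtain ⟨i, j, m, a, N, hyN, hNW, hij, hN⟩ := exists_transported_frac hP hW t₀ y.2
      refine ⟨N, hyN, homOfLE hNW, i, j, m, a, fun w => (hN w.1 w.2).1, hij, fun w => ?_⟩
      exact transported_unique hP hW t₀ (hNW w.2) (hc V hV w.1 (hNW w.2)) (hN w.1 w.2).2⟩ :
      GrMod.sect (𝒮.deg V hV) (D.deg V hV) n (op (RelProj.emb q ch V hV ⁻¹ᵁ W)))
  refine ⟨t, fun U hU r y hy hy' => ?_, til_ext fun y => ?_⟩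
  · obtain ⟨O, hO, bU₀, bV, z, y₀, hy₀, h1, h2⟩ := exists_common₀ hP hW (hU.basicOpen r) hy
    refine (D.tr_bijective (hU.basicOpen r) hO bV z y h2).1 ?_
    refine (hc _ (hU.basicOpen r) y hy O hO bU₀ bV z y₀ hy₀ h1 h2).trans ?_
    have bU : IsB O U := bV.trans hU (isB_basicOpen r)
    have h3 : ProjectiveSpectrum.comap (𝒮.res hU hO bU.le) (irrB 𝒮 hU hO bU) z =
        ProjectiveSpectrum.comap (𝒮.res hU (hU.basicOpen r) (S.basicOpen_le r))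
          (𝒮.irrelevant_le_map U hU r) y := comap_eq hP hU hO bU z _ (by
      rw [← emb_comap hP (hU.basicOpen r) hO bV z, h2]
      exact emb_comap hP hU (hU.basicOpen r) (isB_basicOpen r) y)
    refine (hc U hU _ hy' O hO bU₀ bU z y₀ hy₀ h1 h3).symm.trans ?_
    exact (D.tr_tr hU (hU.basicOpen r) hO (isB_basicOpen r) bV bU z y _ rfl h2 h3 _).symm
  · refine transported_unique hP hW t₀ y.2 (hc U₀ hU₀ y.1 y.2) ?_
    obtain ⟨O, hO, bU, bV, z, y₁, hy₁, h1, h2⟩ := exists_common₀ hP hW hU₀ y.2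
    have : y₁ = y.1 := by rw [← h1, ← h2]
    subst this
    exact transported_of_eq hP t₀ hO bU bV z y.1 hy₁ h1 h2 rfl

end Groth.Agent.RelTilde
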