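import Groth.Agent.RelTilde.TF
import Groth.Agent.RelTilde.TensorRing

/-!
`M(n)~` is of finite type for a Noetherian module.
-/

set_option autoImplicit false
set_option backward.isDefEq.respectTransparency false
set_option linter.style.haveILetI false

universe u

open CategoryTheory CategoryTheory.Limits DirectSum TopologicalSpace AlgebraicGeometry Opposite
open scoped HomogeneousIdeal

noncomputable section

namespace Groth.Agent.RelTilde

variable {A σ : Type u} [CommRing A] [SetLike σ A] [AddSubgroupClass σ A] (𝒜 : ℕ → σ)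
  [GradedRing 𝒜]
variable {M τ : Type u} [AddCommGroup M] [Module A M] [SetLike τ M] [AddSubgroupClass τ M] (ℳ : ℕ → τ)
variable [SetLike.GradedSMul 𝒜 ℳ] [DirectSum.Decomposition ℳ]

set_option maxHeartbeats 800000 in
set_option synthInstance.maxHeartbeats 200000 in
/-- Sections of `M(n)~` over `D₊(f)` are finitely generated for a Noetherian module. -/
lemma finite_sections_of_isNoetherian [IsNoetherian A M] (n : ℤ) {f : A} {d : ℕ} (hd : 0 < d) (hf : f ∈ 𝒜 d) :
    Module.Finite Γ(Proj 𝒜, Proj.basicOpen 𝒜 f) Γ(GrMod.tilde 𝒜 ℳ n, Proj.basicOpen 𝒜 f) := by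
  classical
  let S : Set M := {m | ∃ k i : ℕ, m ∈ ℳ i ∧ (i : ℤ) = ((k • d : ℕ) : ℤ) + n}
  obtain ⟨T, hTS, hT⟩ := (Submodule.fg_span_iff_fg_span_finset_subset (R := A) S).1 (IsNoetherian.noetherian _)
  choose kT iT hmT hiT using fun t : T => (show (t : M) ∈ S from hTS t.2)
  let gen : T → Γ(GrMod.tilde 𝒜 ℳ n, Proj.basicOpen 𝒜 f) := fun t => sec 𝒜 ℳ hf n (hmT t) (hiT t)
  refine ⟨⟨Finset.univ.image gen, eq_top_iff.mpr fun s _ => ?_⟩⟩
  let W := Submodule.span Γ(Proj 𝒜, Proj.basicOpen 𝒜 f)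
    ((Finset.univ.image gen : Finset _) : Set Γ(GrMod.tilde 𝒜 ℳ n, Proj.basicOpen 𝒜 f))
  obtain ⟨k, i, m, hm, hi, rfl⟩ := exists_sec 𝒜 ℳ hf n hd s
  have hmS : m ∈ Submodule.span A (T : Set M) := hT ▸ Submodule.subset_span ⟨k, i, hm, hi⟩
  obtain ⟨a, -, ha⟩ := Submodule.mem_span_finset.1 hmS
  let N := Finset.univ.sup kT
  have hj : ∀ t : T, kT t ≤ N + k := fun t =>
    (Finset.le_sup (Finset.mem_univ t)).trans (Nat.le_add_right _ _)
  have hdeg : ∀ t : T, N • d + i = (N + k - kT t) • d + iT t := fun t => by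
    have h1 := hi
    have h2 := hiT t
    simp only [smul_eq_mul, Nat.cast_mul] at h1 h2 ⊢
    zify [hj t]
    push_cast
    linarith
  let e : T → A := fun t => cmp 𝒜 (f ^ N * a t.1) ((N + k - kT t) • d)
  have hsum : f ^ N • m = ∑ t : T, e t • (t : M) := by
    have h1 : f ^ N • m = ∑ t : T, (f ^ N * a t.1) • (t : M) := by
      rw [← ha, Finset.smul_sum, ← Finset.sum_coe_sort T]
      exact Finset.sum_congr rfl fun t _ => (mul_smul _ _ _).symm
    let pr : M →+ M := AddMonoidHom.mk' (fun z => (decompose ℳ z (N • d + i) : M))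
      (fun a b => by simp [decompose_add])
    have h2 := congrArg pr h1
    rw [map_sum pr] at h2
    simp only [pr, AddMonoidHom.mk'_apply] at h2
    rw [decompose_of_mem_same ℳ (smul_mem_graded 𝒜 ℳ (SetLike.pow_mem_graded N hf) hm)] at h2
    refine h2.trans (Finset.sum_congr rfl fun t _ => ?_)
    rw [hdeg t, decompose_smul_of_mem 𝒜 ℳ _ (hmT t)]
  have hmem : ∀ t : T, e t • (t : M) ∈ ℳ (N • d + i) := fun t =>
    hdeg t ▸ smul_mem_graded 𝒜 ℳ (cmp_mem 𝒜 _ _) (hmT t)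
  have hi' : ((N • d + i : ℕ) : ℤ) = (((N + k) • d : ℕ) : ℤ) + n := by
    rw [add_smul]; push_cast; omega
  have hclaim : ∀ (u : Finset T) (x : M) (hx : x ∈ ℳ (N • d + i)), x = ∑ t ∈ u, e t • (t : M) →
      sec 𝒜 ℳ hf n hx hi' ∈ W := by
    intro u
    induction u using Finset.induction_on with
    | empty =>
      intro x hx hxe
      rw [Finset.sum_empty] at hxe
      subst hxe
      rw [show sec 𝒜 ℳ hf n hx hi' = 0 from pt_ext 𝒜 ℳ fun y => (fr_zero 𝒜 y.1 _).trans rfl]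
      exact W.zero_mem
    | @insert t u htu ih =>
      intro x hx hxe
      rw [Finset.sum_insert htu] at hxe
      subst hxe
      have hrest : (∑ t ∈ u, e t • (t : M)) ∈ ℳ (N • d + i) := sum_mem fun t _ => hmem t
      have h2 : sec 𝒜 ℳ hf n hx hi' =
          sec 𝒜 ℳ hf n (hmem t) hi' + sec 𝒜 ℳ hf n hrest hi' := by
        refine pt_ext 𝒜 ℳ fun y => ?_
        have hy := (ProjectiveSpectrum.mem_basicOpen 𝒜 f y.1).mp y.2
        refine Eq.trans ?_ (fr_add 𝒜 y.1 (not_mem_pow 𝒜 hy _) (not_mem_pow 𝒜 hy _)).symm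
        exact fr_congr 𝒜 y.1 _ _ (by rw [← smul_add, smul_smul])
      rw [h2]
      refine W.add_mem ?_ (ih _ hrest rfl)
      have h3 : sec 𝒜 ℳ hf n (hmem t) hi' =
          away 𝒜 hf (N + k - kT t) (cmp_mem 𝒜 (f ^ N * a t.1) _) • gen t := by
        rw [away_smul_sec]
        refine pt_ext 𝒜 ℳ fun y => fr_congr 𝒜 y.1 _ _ ?_
        rw [Nat.sub_add_cancel (hj t)]
      rw [h3]
      exact W.smul_mem _ (Submodule.subset_span (by simp))
  have hfin : sec 𝒜 ℳ hf n hm hi =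
      sec 𝒜 ℳ hf n (smul_mem_graded 𝒜 ℳ (SetLike.pow_mem_graded N hf) hm) hi' :=
    pt_ext 𝒜 ℳ fun y => fr_congr 𝒜 y.1 _ _ (by rw [smul_smul, ← pow_add, add_comm N k])
  rw [hfin]
  exact hclaim Finset.univ _ _ hsum

/-- `M(n)~` is of finite type for a Noetherian module. -/
theorem isFT_tilde_of_isNoetherian [IsNoetherian A M] (n : ℤ) : CohB1.IsFT (GrMod.tilde 𝒜 ℳ n) := by
  haveI : (GrMod.tilde 𝒜 ℳ n).IsQuasicoherent := isQCoh_tilde 𝒜 ℳ n
  refine Groth.Agent.QC.isFT_iff_exists_hasFinGen.mpr fun x => ?_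
  obtain ⟨d, f, hd, hf, hfx⟩ := exists_pos_homog 𝒜 x
  haveI := finite_sections_of_isNoetherian 𝒜 ℳ n hd hf
  exact ⟨Proj.basicOpen 𝒜 f, (ProjectiveSpectrum.mem_basicOpen 𝒜 f x).mpr hfx,
    Groth.Agent.QC.hasFinGen_of_finite (Proj.isAffineOpen_basicOpen 𝒜 f hf hd)⟩

end Groth.Agent.RelTilde
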