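import Groth.Agent.RelTilde.Cast
import Groth.Agent.InvGen.Basic

/-!
Morphisms between modules attached to systems, induced by degree preserving linear maps.
-/

set_option autoImplicit false
set_option backward.isDefEq.respectTransparency false

universe u

open CategoryTheory CategoryTheory.Limits DirectSum TopologicalSpace AlgebraicGeometry Opposite
open scoped HomogeneousIdeal

noncomputable section

namespace Groth.Agent.RelTilde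

section Ring

variable {A σ : Type u} [CommRing A] [SetLike σ A] [AddSubgroupClass σ A] {𝒜 : ℕ → σ} [GradedRing 𝒜]
  {M τ : Type u} [AddCommGroup M] [Module A M] [SetLike τ M] [AddSubgroupClass τ M] {ℳ : ℕ → τ}
  [SetLike.GradedSMul 𝒜 ℳ]
  {N τ' : Type u} [AddCommGroup N] [Module A N] [SetLike τ' N] [AddSubgroupClass τ' N] {𝒩 : ℕ → τ'}
  [SetLike.GradedSMul 𝒜 𝒩]

/-- Every homogeneous fraction has a representative with numerator of large degree. -/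
lemma exists_frac_large (n : ℤ) (N₀ : ℕ) {x : ProjectiveSpectrum 𝒜} {m : M} {g : A} {i j : ℕ}
    (hg : g ∉ x.asHomogeneousIdeal) (hm : m ∈ ℳ i) (hgj : g ∈ 𝒜 j) (hn : (i : ℤ) = j + n) :
    ∃ (f : A) (d : ℕ), f ∈ 𝒜 d ∧ f ∉ x.asHomogeneousIdeal ∧ N₀ ≤ d + i ∧
      f • m ∈ ℳ (d + i) ∧ f * g ∈ 𝒜 (d + j) ∧ ((d + i : ℕ) : ℤ) = (d + j : ℕ) + n ∧
      ∀ (y : ProjectiveSpectrum 𝒜) (hy : f * g ∉ y.asHomogeneousIdeal),
        fr 𝒜 y (f • m) (f * g) hy = fr 𝒜 y m g (right_not_mem 𝒜 hy) := by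
  obtain ⟨d, f, hd, hf, hfx⟩ := exists_pos_homog 𝒜 x
  have hN : N₀ ≤ N₀ * d := Nat.le_mul_of_pos_right _ hd
  refine ⟨f ^ N₀, N₀ * d, SetLike.pow_mem_graded N₀ hf, not_mem_pow 𝒜 hfx _, by omega,
    smul_mem_graded 𝒜 ℳ (SetLike.pow_mem_graded N₀ hf) hm,
    SetLike.mul_mem_graded (SetLike.pow_mem_graded N₀ hf) hgj, by push_cast; omega, fun y hy => ?_⟩
  exact fr_congr 𝒜 y _ _ (by rw [smul_smul, mul_comm g])

variable [Decomposition ℳ] [Decomposition 𝒩] (u : M →ₗ[A] N) (hu : ∀ i m, m ∈ ℳ i → u m ∈ 𝒩 i)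

include hu

omit [SetLike.GradedSMul 𝒜 ℳ] [SetLike.GradedSMul 𝒜 𝒩] [GradedRing 𝒜] in
lemma map_decompose_of_hom (m : M) (i : ℕ) :
    u (decompose ℳ m i : M) = (decompose 𝒩 (u m) i : N) := by
  classical
  induction m using DirectSum.Decomposition.inductionOn ℳ with
  | zero => simp
  | homogeneous m =>
    rename_i j
    by_cases h : j = i
    · subst h
      rw [decompose_of_mem_same ℳ m.2, decompose_of_mem_same 𝒩 (hu _ _ m.2)]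
    · rw [decompose_of_mem_ne ℳ m.2 h, decompose_of_mem_ne 𝒩 (hu _ _ m.2) h, map_zero]
  | add a b ha hb =>
    simp only [decompose_add, DirectSum.add_apply, AddMemClass.coe_add, map_add, ha, hb]

/-- Injectivity in large degrees gives injectivity on the fractions. -/
lemma eq_zero_of_locMap_eq_zero (n : ℤ) {N₀ : ℕ} (hinj : ∀ k, N₀ ≤ k → ∀ m ∈ ℳ k, u m = 0 → m = 0)
    {x : ProjectiveSpectrum 𝒜} {q : GrMod.LocMod 𝒜 (M := M) x} (hq : q ∈ GrMod.tildeAt 𝒜 ℳ n x)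
    (h0 : GrMod.locMap u x q = 0) : q = 0 := by
  obtain ⟨i, j, a, g, hg, ha, hgj, hn, rfl⟩ := exists_frac_at 𝒜 ℳ n x hq
  rw [GrMod.locMap_mk] at h0
  obtain ⟨w, hw, hw0⟩ := (fr_eq_zero_iff 𝒜 x hg).mp h0
  obtain ⟨e, c, hc, hcx, hc0⟩ := exists_homog_smul_eq_zero 𝒜 𝒩 hw (hu _ _ ha) hw0
  obtain ⟨f, d, hf, hfx, hN, hm, -, -, -⟩ := exists_frac_large n N₀ hg ha hgj hn
  have h1 : c • f • a = 0 := hinj _ (le_trans hN (Nat.le_add_left _ e))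
    _ (smul_mem_graded 𝒜 ℳ hc hm) (by rw [map_smul, map_smul, smul_comm, hc0, smul_zero])
  exact (fr_eq_zero_iff 𝒜 x hg).mpr ⟨c * f, not_mem_mul 𝒜 hcx hfx, by rw [mul_smul, h1]⟩

omit [Decomposition ℳ] [Decomposition 𝒩] in
/-- Surjectivity in large degrees gives local surjectivity on the fractions. -/
lemma exists_frac_preimage (n : ℤ) {N₀ : ℕ} (hsurj : ∀ k, N₀ ≤ k → ∀ b ∈ 𝒩 k, ∃ m ∈ ℳ k, u m = b)
    {x : ProjectiveSpectrum 𝒜} {a : N} {g : A} {i j : ℕ} (hg : g ∉ x.asHomogeneousIdeal)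
    (ha : a ∈ 𝒩 i) (hgj : g ∈ 𝒜 j) (hn : (i : ℤ) = j + n) :
    ∃ (i' j' : ℕ) (m : M) (g' : A), m ∈ ℳ i' ∧ g' ∈ 𝒜 j' ∧ (i' : ℤ) = j' + n ∧
      g' ∉ x.asHomogeneousIdeal ∧ ∀ (y : ProjectiveSpectrum 𝒜) (hy : g' ∉ y.asHomogeneousIdeal),
        ∃ hy' : g ∉ y.asHomogeneousIdeal, fr 𝒜 y (u m) g' hy = fr 𝒜 y a g hy' := by
  obtain ⟨f, d, hf, hfx, hN, hm, hfg, hdeg, hfr⟩ := exists_frac_large n N₀ hg ha hgj hn
  obtain ⟨m, hmd, hum⟩ := hsurj _ hN _ hm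
  exact ⟨_, _, m, f * g, hmd, hfg, hdeg, not_mem_mul 𝒜 hfx hg,
    fun y hy => ⟨right_not_mem 𝒜 hy, by rw [hum]; exact hfr y hy⟩⟩

variable {Q τ'' : Type u} [AddCommGroup Q] [Module A Q] [SetLike τ'' Q] [AddSubgroupClass τ'' Q]
  {𝒬 : ℕ → τ''} [SetLike.GradedSMul 𝒜 𝒬] [Decomposition 𝒬] (v : N →ₗ[A] Q)
  (hv : ∀ i m, m ∈ 𝒩 i → v m ∈ 𝒬 i)

include hv

/-- Fractions killed by `v` lift along `u` near every point, for an exact pair `u`, `v`. -/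
lemma exists_frac_preimage_of_exact (hex : Function.Exact u v) (n : ℤ)
    {x : ProjectiveSpectrum 𝒜} {a : N} {g : A} {i j : ℕ} (hg : g ∉ x.asHomogeneousIdeal)
    (ha : a ∈ 𝒩 i) (hgj : g ∈ 𝒜 j) (hn : (i : ℤ) = j + n) (h0 : fr 𝒜 x (v a) g hg = 0) :
    ∃ (i' j' : ℕ) (m : M) (g' : A), m ∈ ℳ i' ∧ g' ∈ 𝒜 j' ∧ (i' : ℤ) = j' + n ∧
      g' ∉ x.asHomogeneousIdeal ∧ ∀ (y : ProjectiveSpectrum 𝒜) (hy : g' ∉ y.asHomogeneousIdeal),
        ∃ hy' : g ∉ y.asHomogeneousIdeal, fr 𝒜 y (u m) g' hy = fr 𝒜 y a g hy' := by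
  obtain ⟨w, hw, hw0⟩ := (fr_eq_zero_iff 𝒜 x hg).mp h0
  obtain ⟨e, c, hc, hcx, hc0⟩ := exists_homog_smul_eq_zero 𝒜 𝒬 hw (hv _ _ ha) hw0
  obtain ⟨m, hm⟩ := (hex (c • a)).mp (by rw [map_smul, hc0])
  refine ⟨e + i, e + j, (decompose ℳ m (e + i) : M), c * g, SetLike.coe_mem _,
    SetLike.mul_mem_graded hc hgj, by push_cast; omega, not_mem_mul 𝒜 hcx hg,
    fun y hy => ⟨right_not_mem 𝒜 hy, ?_⟩⟩
  rw [map_decompose_of_hom u hu, hm, decompose_of_mem_same 𝒩 (smul_mem_graded 𝒜 𝒩 hc ha)]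
  exact fr_congr 𝒜 y _ _ (by rw [smul_smul, mul_comm g])

end Ring

section Rel

variable {S P : Scheme.{u}} {𝒮 : RelProj.QCGrAlg S} {D₁ D₂ : Datum 𝒮} {q : P ⟶ S}
  {ch : ∀ (U : S.Opens) (hU : IsAffineOpen U), ((q ⁻¹ᵁ U : P.Opens) : Scheme.{u}) ≅ Proj (𝒮.deg U hU)}
  (hP : RelProj.IsRelProj 𝒮 q ch) {n : ℤ}
  {F G : P.Modules} {lam : ∀ (U : S.Opens) (hU : IsAffineOpen U), F ⟶ D₁.E q ch n U hU}
  (hF : D₁.IsTilde q ch n F lam)
  {lam' : ∀ (U : S.Opens) (hU : IsAffineOpen U), G ⟶ D₂.E q ch n U hU}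
  (hG : D₂.IsTilde q ch n G lam')
  {u : ∀ U : S.Opens, D₁.M U →ₗ[𝒮.presheaf.obj (op U)] D₂.M U}
  {hu : ∀ (U : S.Opens) (hU : IsAffineOpen U) (i : ℕ) (m : D₁.M U),
    m ∈ D₁.deg U hU i → u U m ∈ D₂.deg U hU i}
  {ut : F ⟶ G}
  (hut : ∀ (U : S.Opens) (hU : IsAffineOpen U), ut ≫ lam' U hU =
    lam U hU ≫ (Scheme.Modules.pushforward (RelProj.emb q ch U hU)).map
      (GrMod.map (𝒮.deg U hU) (u U) (hu U hU) n))

include hut

lemma val_map (W : P.Opens) (s : Γ(F, W)) (U : S.Opens) (hU : IsAffineOpen U)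
    (y : ProjectiveSpectrum (𝒮.deg U hU)) (hy : (RelProj.emb q ch U hU).base y ∈ W) :
    GrMod.val (V := RelProj.emb q ch U hU ⁻¹ᵁ W) ((lam' U hU).app W (ut.app W s)) ⟨y, hy⟩ =
      GrMod.locMap (u U) y
        (GrMod.val (V := RelProj.emb q ch U hU ⁻¹ᵁ W) ((lam U hU).app W s) ⟨y, hy⟩) := by
  rw [show (lam' U hU).app W (ut.app W s) = (ut ≫ lam' U hU).app W s from rfl, hut U hU]
  rfl

include hP hF in
lemma mono_map (hinj : ∃ N₀ : ℕ, ∀ (U : S.Opens) (hU : IsAffineOpen U) (k : ℕ), N₀ ≤ k →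
    ∀ m ∈ D₁.deg U hU k, u U m = 0 → m = 0) : Mono ut := by
  obtain ⟨N₀, hN⟩ := hinj
  refine (QC.mono_iff_app_injective ut).mpr fun W => (injective_iff_map_eq_zero _).mpr fun s hs => ?_
  refine hF.section_ext hP fun U hU => ?_
  rw [map_zero]
  refine til_ext fun y => eq_zero_of_locMap_eq_zero (u U) (hu U hU) n (hN U hU)
    (((show GrMod.sect _ _ n _ from (lam U hU).app W s).1 y).2) ?_
  rw [← val_map hut W s U hU y.1 y.2, hs, map_zero]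
  rfl

/-- A section of `G` given near a point by a fraction in the image comes from `F`. -/
lemma exists_lift_near (hF' : ∀ (U : S.Opens) (hU : IsAffineOpen U) (W : P.Opens), W ≤ q ⁻¹ᵁ U →
      Function.Bijective ((lam U hU).app W))
    (hG' : ∀ (U : S.Opens) (hU : IsAffineOpen U) (W : P.Opens), W ≤ q ⁻¹ᵁ U →
      Function.Bijective ((lam' U hU).app W))
    {W : P.Opens} (t : Γ(G, W)) {U : S.Opens} {hU : IsAffineOpen U}
    {y : ProjectiveSpectrum (𝒮.deg U hU)} (hy : (RelProj.emb q ch U hU).base y ∈ W)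
    {N : (Proj (𝒮.deg U hU)).Opens} (hyN : y ∈ N) (hNW : N ≤ RelProj.emb q ch U hU ⁻¹ᵁ W)
    {i j : ℕ} {m : D₁.M U} {g : 𝒮.presheaf.obj (op U)} (hm : m ∈ D₁.deg U hU i)
    (hg : g ∈ 𝒮.deg U hU j) (hn : (i : ℤ) = j + n) (hgy : g ∉ y.asHomogeneousIdeal)
    (hval : ∀ w (hw : w ∈ N) (hgw : g ∉ w.asHomogeneousIdeal),
      GrMod.val (V := RelProj.emb q ch U hU ⁻¹ᵁ W) ((lam' U hU).app W t) ⟨w, hNW hw⟩ =
        fr (𝒮.deg U hU) w (u U m) g hgw) :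
    ∃ (V : P.Opens) (hV : V ≤ W), (RelProj.emb q ch U hU).base y ∈ V ∧
      ∃ s, ut.app V s = QC.res G hV t := by
  let V : P.Opens := RelProj.emb q ch U hU ''ᵁ (N ⊓ Proj.basicOpen (𝒮.deg U hU) g)
  have hVq : V ≤ q ⁻¹ᵁ U := by
    rintro _ ⟨w, -, rfl⟩; exact mem_preimage_emb (q := q) (ch := ch) U hU w
  have hVW : V ≤ W := by
    rintro _ ⟨w, hw, rfl⟩; exact hNW hw.1
  have hmem : ∀ w : ProjectiveSpectrum (𝒮.deg U hU), (RelProj.emb q ch U hU).base w ∈ V →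
      w ∈ N ∧ g ∉ w.asHomogeneousIdeal := fun w ⟨w', hw', e⟩ => by
    have := (RelProj.emb q ch U hU).isOpenEmbedding.injective e
    subst this
    exact ⟨hw'.1, (ProjectiveSpectrum.mem_basicOpen _ _ _).mp hw'.2⟩
  obtain ⟨s, hs⟩ := (hF' U hU V hVq).2 (fracSect (𝒮.deg U hU) (D₁.deg U hU) n hm hg hn
    (RelProj.emb q ch U hU ⁻¹ᵁ V) fun w => (hmem w.1 w.2).2)
  refine ⟨V, hVW, ⟨y, ⟨hyN, (ProjectiveSpectrum.mem_basicOpen _ _ _).mpr hgy⟩, rfl⟩, s,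
    (hG' U hU V hVq).1 (til_ext fun w => ?_)⟩
  rw [val_map hut V s U hU w.1 w.2, hs,
    Datum.IsTilde.app_res (lam := lam') hVW t U hU w.1 w.2, hval w.1 (hmem w.1 w.2).1 (hmem w.1 w.2).2]
  exact GrMod.locMap_mk _ _ _ _

include hF hG in
lemma epi_map (hsurj : ∃ N₀ : ℕ, ∀ (U : S.Opens) (hU : IsAffineOpen U) (k : ℕ), N₀ ≤ k →
    ∀ b ∈ D₂.deg U hU k, ∃ m ∈ D₁.deg U hU k, u U m = b) : Epi ut := by
  obtain ⟨N₀, hN⟩ := hsurj
  refine InvGen.epi_of_locally ut fun W t x hx => ?_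
  obtain ⟨U, hU, y, rfl⟩ := exists_affine_point (𝒮 := 𝒮) (q := q) (ch := ch) x
  obtain ⟨e, i, g, a, -, hg, ha, hn, hgy, hgW, hs⟩ :=
    exists_frac_nhd (𝒮.deg U hU) (D₂.deg U hU) ((lam' U hU).app W t) ⟨y, hx⟩
  obtain ⟨i', j', m, g', hm, hg', hn', hgy', hfr⟩ :=
    exists_frac_preimage (u U) (hu U hU) n (hN U hU) hgy ha hg hn
  refine exists_lift_near hut hF.bijective hG.bijective t hx
    (N := Proj.basicOpen (𝒮.deg U hU) g) ((ProjectiveSpectrum.mem_basicOpen _ _ _).mpr hgy) hgW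
    hm hg' hn' hgy' fun w hw hgw => ?_
  obtain ⟨hw', e'⟩ := hfr w hgw
  rw [e']
  exact hs ⟨w, hgW hw⟩ hw'

variable {D₃ : Datum 𝒮} {H : P.Modules} {lam'' : ∀ (U : S.Opens) (hU : IsAffineOpen U), H ⟶ D₃.E q ch n U hU}
  {v : ∀ U : S.Opens, D₂.M U →ₗ[𝒮.presheaf.obj (op U)] D₃.M U}
  {hv : ∀ (U : S.Opens) (hU : IsAffineOpen U) (i : ℕ) (m : D₂.M U),
    m ∈ D₂.deg U hU i → v U m ∈ D₃.deg U hU i}
  {vt : G ⟶ H}
  (hvt : ∀ (U : S.Opens) (hU : IsAffineOpen U), vt ≫ lam'' U hU =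
    lam' U hU ≫ (Scheme.Modules.pushforward (RelProj.emb q ch U hU)).map
      (GrMod.map (𝒮.deg U hU) (v U) (hv U hU) n))

include hF hG hvt in
lemma exact_map (hex : ∀ (U : S.Opens), IsAffineOpen U → Function.Exact (u U) (v U)) (w : ut ≫ vt = 0) :
    (ShortComplex.mk ut vt w).Exact := by
  rw [ShortComplex.exact_iff_epi_kernel_lift]
  refine InvGen.epi_of_locally _ fun W t x hx => ?_
  let t' : Γ(G, W) := (kernel.ι vt).app W t
  have ht' : vt.app W t' = 0 := by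
    change (kernel.ι vt ≫ vt).app W t = 0
    rw [kernel.condition]; rfl
  obtain ⟨U, hU, y, rfl⟩ := exists_affine_point (𝒮 := 𝒮) (q := q) (ch := ch) x
  obtain ⟨e, i, g, a, -, hg, ha, hn, hgy, hgW, hs⟩ :=
    exists_frac_nhd (𝒮.deg U hU) (D₂.deg U hU) ((lam' U hU).app W t') ⟨y, hx⟩
  have h0 : fr (𝒮.deg U hU) y (v U a) g hgy = 0 := by
    refine (GrMod.locMap_mk (v U) y a ⟨g, hgy⟩).symm.trans ?_
    refine ((congrArg (GrMod.locMap (v U) y) (hs ⟨y, hx⟩ hgy).symm).trans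
      (val_map hvt W t' U hU y hx).symm).trans ?_
    rw [ht', map_zero]
    rfl
  obtain ⟨i', j', m, g', hm, hg', hn', hgy', hfr⟩ :=
    exists_frac_preimage_of_exact (u U) (hu U hU) (v U) (hv U hU) (hex U hU) n hgy ha hg hn h0
  obtain ⟨V, hV, hxV, s, hsV⟩ := exists_lift_near hut hF.bijective hG.bijective t' hx
    (N := Proj.basicOpen (𝒮.deg U hU) g) ((ProjectiveSpectrum.mem_basicOpen _ _ _).mpr hgy) hgW
    hm hg' hn' hgy' fun w hw hgw => by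
      obtain ⟨hw', e'⟩ := hfr w hgw
      rw [e']
      exact hs ⟨w, hgW hw⟩ hw'
  refine ⟨V, hV, hxV, s, QC.app_injective_of_mono (kernel.ι vt) V ?_⟩
  change (kernel.lift vt ut w ≫ kernel.ι vt).app V s = _
  rw [kernel.lift_ι, hsV, QC.app_res]

end Rel

end Groth.Agent.RelTilde
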