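import Groth.Agent.RelTilde.Compat

/-!
Gluing sections of the module attached to a system from readings on some of the charts, and
comparison maps along a morphism of relative Proj's.
-/

set_option autoImplicit false
set_option backward.isDefEq.respectTransparency false

universe u

open CategoryTheory DirectSum TopologicalSpace AlgebraicGeometry Opposite
open scoped HomogeneousIdeal

noncomputable section

namespace Groth.Agent.RelTilde

variable {S P : Scheme.{u}} {𝒮 : RelProj.QCGrAlg S} {D : Datum 𝒮} {q : P ⟶ S}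
  {ch : ∀ (U : S.Opens) (hU : IsAffineOpen U), ((q ⁻¹ᵁ U : P.Opens) : Scheme.{u}) ≅ Proj (𝒮.deg U hU)}
  {n : ℤ} {G : P.Modules} {lam : ∀ (U : S.Opens) (hU : IsAffineOpen U), G ⟶ D.E q ch n U hU}
  (hP : RelProj.IsRelProj 𝒮 q ch) (hG : D.IsTilde q ch n G lam)

include hP hG

set_option maxHeartbeats 1200000 in
/-- Readings on a covering set of charts, agreeing on common basic opens, come from one section. -/
theorem Datum.IsTilde.existsUnique_section' {W : P.Opens} {ι : Type u} (U : ι → S.Opens)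
    (hU : ∀ i, IsAffineOpen (U i)) (hcov : W ≤ ⨆ i, q ⁻¹ᵁ U i)
    (t : ∀ i, Γ(D.til n (U i) (hU i), RelProj.emb q ch (U i) (hU i) ⁻¹ᵁ W))
    (ht : ∀ (i j : ι) (O : S.Opens) (hO : IsAffineOpen O) (bi : IsB O (U i)) (bj : IsB O (U j))
      (z : ProjectiveSpectrum (𝒮.deg O hO)) (y : ProjectiveSpectrum (𝒮.deg (U i) (hU i)))
      (y' : ProjectiveSpectrum (𝒮.deg (U j) (hU j)))
      (hi : ProjectiveSpectrum.comap (𝒮.res (hU i) hO bi.le) (irrB 𝒮 (hU i) hO bi) z = y)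
      (hj : ProjectiveSpectrum.comap (𝒮.res (hU j) hO bj.le) (irrB 𝒮 (hU j) hO bj) z = y')
      (hy : (RelProj.emb q ch (U i) (hU i)).base y ∈ W)
      (hy' : (RelProj.emb q ch (U j) (hU j)).base y' ∈ W),
      D.tr (hU i) hO bi z y hi
          (GrMod.val (V := RelProj.emb q ch (U i) (hU i) ⁻¹ᵁ W) (t i) ⟨y, hy⟩) =
        D.tr (hU j) hO bj z y' hj
          (GrMod.val (V := RelProj.emb q ch (U j) (hU j) ⁻¹ᵁ W) (t j) ⟨y', hy'⟩)) :
    ∃! g : Γ(G, W), ∀ i, (lam (U i) (hU i)).app W g = t i := by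
  have hex : ∀ i, ∃ g : Γ(G, W ⊓ q ⁻¹ᵁ U i), (lam (U i) (hU i)).app (W ⊓ q ⁻¹ᵁ U i) g =
      QC.res (D.til n (U i) (hU i)) ((RelProj.emb q ch (U i) (hU i)).preimage_mono inf_le_left) (t i) := fun i =>
    (hG.bijective (U i) (hU i) _ inf_le_right).2 _
  choose g hg using hex
  have hval : ∀ i (y : ProjectiveSpectrum (𝒮.deg (U i) (hU i)))
      (hy : (RelProj.emb q ch (U i) (hU i)).base y ∈ W ⊓ q ⁻¹ᵁ U i),
      GrMod.val (V := RelProj.emb q ch (U i) (hU i) ⁻¹ᵁ (W ⊓ q ⁻¹ᵁ U i))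
        ((lam (U i) (hU i)).app (W ⊓ q ⁻¹ᵁ U i) (g i)) ⟨y, hy⟩ =
      GrMod.val (V := RelProj.emb q ch (U i) (hU i) ⁻¹ᵁ W) (t i) ⟨y, hy.1⟩ := fun i y hy => by
    rw [hg i]; rfl
  obtain ⟨g₀, hg₀, hu₀⟩ := TopCat.Sheaf.existsUnique_gluing' (QC.abSheaf G)
    (fun i => W ⊓ q ⁻¹ᵁ U i) W (fun i => homOfLE inf_le_left)
    (fun x hx => by
      obtain ⟨i, hi⟩ := Opens.mem_iSup.mp (hcov hx)
      exact Opens.mem_iSup.mpr ⟨i, hx, hi⟩)
    g (fun i j => by
      refine (hG.bijective (U i) (hU i) _ (inf_le_left.trans inf_le_right)).1 (til_ext fun y => ?_)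
      refine (Datum.IsTilde.app_res (lam := lam) inf_le_left (g i) (U i) (hU i) y.1 y.2).trans ?_
      refine Eq.trans ?_
        (Datum.IsTilde.app_res (lam := lam) inf_le_right (g j) (U i) (hU i) y.1 y.2).symm
      obtain ⟨y', hy'⟩ := exists_point (q := q) (ch := ch) (U j) (hU j) y.2.2.2
      obtain ⟨O, hO, bi, bj, z, hzi, hzj⟩ := exists_common hP (hU i) (hU j) hy'.symm
      have hzW : (RelProj.emb q ch O hO).base z ∈ W ⊓ q ⁻¹ᵁ U j := by
        rw [← emb_comap hP (hU i) hO bi z, hzi]; exact y.2.2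
      refine (D.tr_bijective (hU i) hO bi z y.1 hzi).1 ?_
      refine Eq.trans ?_ ((hG.compat _ (g j)).val_tr hP (hU i) hO bi z y.1 hzi hzW y.2.2)
      refine Eq.trans ?_
        ((hG.compat _ (g j)).val_tr hP (hU j) hO bj z y' hzj hzW (hy' ▸ y.2.2)).symm
      rw [hval, hval]
      exact ht i j O hO bi bj z y.1 y' hzi hzj y.2.1.1 (hy' ▸ y.2.2.1))
  refine ⟨g₀, fun i => til_ext fun y => ?_, fun g' hg' => hu₀ g' fun i => ?_⟩
  · have hy2 : (RelProj.emb q ch (U i) (hU i)).base y.1 ∈ W ⊓ q ⁻¹ᵁ U i :=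
      ⟨y.2, mem_preimage_emb (q := q) (ch := ch) (U i) (hU i) y.1⟩
    refine (Datum.IsTilde.app_res (lam := lam) (W' := W ⊓ q ⁻¹ᵁ U i) inf_le_left g₀
      (U i) (hU i) y.1 hy2).symm.trans ?_
    rw [show QC.res G inf_le_left g₀ = g i from hg₀ i]
    exact hval i y.1 hy2
  · refine (hG.bijective (U i) (hU i) _ inf_le_right).1 ?_
    rw [hg i, ← hg' i]
    exact (QC.app_res (lam (U i) (hU i)) inf_le_left g').symm

end Groth.Agent.RelTilde
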