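import Groth.Agent.RelTilde.Alg
import Groth.Prelude.Def_RelProj3

/-!
Localisation of a graded ring and a graded module at a homogeneous element of degree zero, and the
induced maps of localised modules.
-/

set_option autoImplicit false
set_option backward.isDefEq.respectTransparency false

universe u

open CategoryTheory DirectSum TopologicalSpace AlgebraicGeometry Opposite
open scoped HomogeneousIdeal

noncomputable section

namespace Groth.Agent.RelTilde

variable {A σ : Type u} [CommRing A] [SetLike σ A] [AddSubgroupClass σ A] {𝒜 : ℕ → σ} [GradedRing 𝒜]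
variable {M τ : Type u} [AddCommGroup M] [Module A M] [SetLike τ M] [AddSubgroupClass τ M] {ℳ : ℕ → τ}
variable {B σ' : Type u} [CommRing B] [SetLike σ' B] [AddSubgroupClass σ' B] {ℬ : ℕ → σ'} [GradedRing ℬ]
variable {N τ' : Type u} [AddCommGroup N] [Module B N] [SetLike τ' N] [AddSubgroupClass τ' N] {𝒩 : ℕ → τ'}

variable (ℳ 𝒩) in
/-- `v : M → N` over `ψ : A → B` is the localisation of a graded module and its graded ring at
powers of the element `f` of degree zero. -/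
structure IsLocPair (ψ : 𝒜 →+*ᵍ ℬ) (v : M →ₛₗ[ψ.toRingHom] N) (f : A) : Prop where
  deg_zero : f ∈ 𝒜 0
  isUnit_map : IsUnit (ψ f)
  surjA : ∀ b : B, ∃ (a : A) (k : ℕ), ψ f ^ k * b = ψ a
  surjM : ∀ n : N, ∃ (m : M) (k : ℕ), ψ f ^ k • n = v m
  kerM : ∀ m : M, v m = 0 → ∃ k : ℕ, f ^ k • m = 0
  map_mem : ∀ (i : ℕ) (m : M), m ∈ ℳ i → v m ∈ 𝒩 i

variable {ψ : 𝒜 →+*ᵍ ℬ} {v : M →ₛₗ[ψ.toRingHom] N} {f : A} (H : IsLocPair ℳ 𝒩 ψ v f)

include H

omit [GradedRing 𝒜] [AddSubgroupClass τ M] [AddSubgroupClass τ' N] in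
lemma IsLocPair.not_mem {y : ProjectiveSpectrum ℬ} (k : ℕ) : ψ f ^ k ∉ y.asHomogeneousIdeal := fun h =>
  y.isPrime.ne_top (Ideal.eq_top_of_isUnit_mem _ h (H.isUnit_map.pow k))

omit [GradedRing 𝒜] [AddSubgroupClass τ M] [AddSubgroupClass τ' N] in
lemma IsLocPair.smul_cancel {k : ℕ} {x x' : N} (h : ψ f ^ k • x = ψ f ^ k • x') : x = x' :=
  (H.isUnit_map.pow k).smul_left_cancel.mp h

variable [Decomposition ℳ] [Decomposition 𝒩]

omit [GradedRing 𝒜] [GradedRing ℬ] in
lemma IsLocPair.map_decompose (m : M) (i : ℕ) :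
    v (decompose ℳ m i : M) = (decompose 𝒩 (v m) i : N) := by
  classical
  induction m using DirectSum.Decomposition.inductionOn ℳ with
  | zero => simp
  | homogeneous m =>
    rename_i j
    by_cases h : j = i
    · subst h
      rw [decompose_of_mem_same ℳ m.2, decompose_of_mem_same 𝒩 (H.map_mem _ _ m.2)]
    · rw [decompose_of_mem_ne ℳ m.2 h, decompose_of_mem_ne 𝒩 (H.map_mem _ _ m.2) h, map_zero]
  | add a b ha hb =>
    simp only [decompose_add, DirectSum.add_apply, AddMemClass.coe_add, map_add, ha, hb]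

variable [SetLike.GradedSMul ℬ 𝒩]

/-- Homogeneous elements lift, up to a power of `f`, to homogeneous elements of the same degree. -/
lemma IsLocPair.exists_homog_lift {n : N} {i : ℕ} (hn : n ∈ 𝒩 i) :
    ∃ (m : M) (k : ℕ), m ∈ ℳ i ∧ ψ f ^ k • n = v m := by
  obtain ⟨m, k, hk⟩ := H.surjM n
  refine ⟨(decompose ℳ m i : M), k, SetLike.coe_mem _, ?_⟩
  have h0 : ψ f ^ k ∈ ℬ 0 := by
    simpa using SetLike.pow_mem_graded k (ψ.map_mem H.deg_zero)
  have h1 : ψ f ^ k • n ∈ 𝒩 i := by simpa using smul_mem_graded ℬ 𝒩 h0 hn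
  rw [H.map_decompose, ← hk, decompose_of_mem_same 𝒩 h1]

omit [AddSubgroupClass τ M] [AddSubgroupClass τ' N] [Decomposition ℳ] [Decomposition 𝒩]
  [SetLike.GradedSMul ℬ 𝒩] in
lemma IsLocPair.exists_homog_lift_ring {b : B} {j : ℕ} (hb : b ∈ ℬ j) :
    ∃ (a : A) (k : ℕ), a ∈ 𝒜 j ∧ ψ f ^ k * b = ψ a := by
  obtain ⟨a, k, hk⟩ := H.surjA b
  refine ⟨(decompose 𝒜 a j : A), k, SetLike.coe_mem _, ?_⟩
  have h0 : ψ f ^ k ∈ ℬ 0 := by
    simpa using SetLike.pow_mem_graded k (ψ.map_mem H.deg_zero)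
  have h1 : ψ f ^ k * b ∈ ℬ j := by simpa using SetLike.mul_mem_graded h0 hb
  refine Eq.trans ?_ (GradedRingHom.map_directSumDecompose (f := ψ) (𝒜 := 𝒜) (ℬ := ℬ) (x := a) (i := j)).symm
  rw [← hk, decompose_of_mem_same ℬ h1]

variable [SetLike.GradedSMul 𝒜 ℳ]

/-- A homogeneous fraction downstairs is the image of a homogeneous fraction upstairs. -/
lemma IsLocPair.exists_frac_lift {n : N} {b : B} {i j : ℕ} (hn : n ∈ 𝒩 i) (hb : b ∈ ℬ j) :
    ∃ (m : M) (a : A), m ∈ ℳ i ∧ a ∈ 𝒜 j ∧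
      ∀ y : ProjectiveSpectrum ℬ, b ∉ y.asHomogeneousIdeal →
        ∃ ha : ψ a ∉ y.asHomogeneousIdeal, ∀ hb' : b ∉ y.asHomogeneousIdeal,
          (LocalizedModule.mk (v m) ⟨ψ a, ha⟩ : GrMod.LocMod ℬ (M := N) y) =
            LocalizedModule.mk n ⟨b, hb'⟩ := by
  obtain ⟨m, k, hm, hk⟩ := H.exists_homog_lift hn
  obtain ⟨a, l, ha, hl⟩ := H.exists_homog_lift_ring hb
  have h0 : ∀ q : ℕ, f ^ q ∈ 𝒜 0 := fun q => by simpa using SetLike.pow_mem_graded q H.deg_zero
  have e1 : v (f ^ l • m) = ψ f ^ (k + l) • n := by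
    rw [LinearMap.map_smulₛₗ, map_pow, ← hk, smul_smul]
    change (ψ f ^ l * ψ f ^ k) • n = _
    rw [← pow_add, Nat.add_comm l k]
  have e2 : ψ (f ^ k * a) = ψ f ^ (k + l) * b := by
    rw [map_mul, map_pow, ← hl, ← mul_assoc, ← pow_add]
  refine ⟨f ^ l • m, f ^ k * a, by simpa using smul_mem_graded 𝒜 ℳ (h0 l) hm,
    by simpa using SetLike.mul_mem_graded (h0 k) ha, fun y hy => ⟨?_, fun hb' => ?_⟩⟩
  · rw [e2]
    exact not_mem_mul ℬ (H.not_mem _) hy
  · refine LocalizedModule.mk_eq.mpr ⟨1, ?_⟩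
    simp only [Submonoid.smul_def, OneMemClass.coe_one, one_smul, e1, e2, smul_smul]
    rw [mul_comm b]

omit [Decomposition ℳ] [Decomposition 𝒩] [SetLike.GradedSMul 𝒜 ℳ] [SetLike.GradedSMul ℬ 𝒩] in
/-- The induced map of localised modules is bijective. -/
lemma IsLocPair.locModMap_bijective (hψ : ℬ₊ ≤ (𝒜₊).map ψ) (y : ProjectiveSpectrum ℬ) :
    Function.Bijective (GrMod.locModMap ψ hψ v y) := by
  refine ⟨(injective_iff_map_eq_zero _).mpr fun q hq => ?_, fun q => ?_⟩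
  · induction q using LocalizedModule.induction_on with
    | h m s =>
      rw [GrMod.locModMap_mk, ← LocalizedModule.zero_mk 1, LocalizedModule.mk_eq] at hq
      obtain ⟨⟨w, hw⟩, hw0⟩ := hq
      simp only [Submonoid.smul_def, OneMemClass.coe_one, one_smul, smul_zero] at hw0
      obtain ⟨a, k, hk⟩ := H.surjA w
      have hva : v (a • m) = 0 := by
        rw [LinearMap.map_smulₛₗ]
        change ψ a • v m = 0
        rw [← hk, mul_smul, hw0, smul_zero]
      obtain ⟨l, hl⟩ := H.kerM _ hva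
      have hmem : f ^ l * a ∉ (ProjectiveSpectrum.comap ψ hψ y).asHomogeneousIdeal := by
        change ψ (f ^ l * a) ∉ y.asHomogeneousIdeal
        rw [map_mul, map_pow, ← hk, ← mul_assoc, ← pow_add]
        exact not_mem_mul ℬ (H.not_mem _) hw
      rw [← LocalizedModule.zero_mk 1, LocalizedModule.mk_eq]
      refine ⟨⟨_, hmem⟩, ?_⟩
      simp only [Submonoid.smul_def, OneMemClass.coe_one, one_smul, smul_zero, mul_smul, hl]
  · induction q using LocalizedModule.induction_on with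
    | h n b =>
      obtain ⟨b, hb⟩ := b
      obtain ⟨m, k, hk⟩ := H.surjM n
      obtain ⟨a, l, hl⟩ := H.surjA b
      have hmem : f ^ k * a ∉ (ProjectiveSpectrum.comap ψ hψ y).asHomogeneousIdeal := by
        change ψ (f ^ k * a) ∉ y.asHomogeneousIdeal
        rw [map_mul, map_pow, ← hl, ← mul_assoc, ← pow_add]
        exact not_mem_mul ℬ (H.not_mem _) hb
      refine ⟨LocalizedModule.mk (f ^ l • m) ⟨_, hmem⟩, ?_⟩
      rw [GrMod.locModMap_mk, LocalizedModule.mk_eq]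
      refine ⟨1, ?_⟩
      simp only [Submonoid.smul_def, OneMemClass.coe_one, one_smul, LinearMap.map_smulₛₗ]
      change b • ψ (f ^ l) • v m = ψ (f ^ k * a) • n
      rw [map_mul, map_pow, map_pow, ← hk, ← hl]
      simp only [smul_smul]
      congr 1
      ring

end Groth.Agent.RelTilde
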