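import Groth.Agent.RelTilde.ProjMap
import Groth.Agent.RelTilde.SectLift

/-!
Transferring base change of sections along open immersions, and the chartwise criterion for the
pull-back of a relative tilde.
-/

set_option autoImplicit false
set_option backward.isDefEq.respectTransparency false
set_option linter.style.haveILetI false

universe u

open CategoryTheory DirectSum TopologicalSpace AlgebraicGeometry Opposite
open scoped HomogeneousIdeal
open Groth.Agent.QC (res res_res res_self)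

noncomputable section

namespace Groth.Agent.RelTilde

section Square

variable {X Y Z Z' : Scheme.{u}} {g : X ⟶ Y} {L : Y.Modules} {L' : X.Modules}
  (θ : L ⟶ (Scheme.Modules.pushforward g).obj L') {k : Z' ⟶ Z} {N : Z.Modules} {N' : Z'.Modules}
  (η : N ⟶ (Scheme.Modules.pushforward k).obj N') {j : Z ⟶ Y} {j' : Z' ⟶ X}
  (μ : L ⟶ (Scheme.Modules.pushforward j).obj N) (μ' : L' ⟶ (Scheme.Modules.pushforward j').obj N')

/-- Restriction to an equal open is bijective. -/
lemma bijective_res {W : Scheme.{u}} (M : W.Modules) {U V : W.Opens} (h : V ≤ U) (h' : U ≤ V) :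
    Function.Bijective (res M h) :=
  Function.bijective_iff_has_inverse.mpr
    ⟨res M h', fun s => by rw [res_res, res_self], fun s => by rw [res_res, res_self]⟩

variable [IsOpenImmersion j] [IsOpenImmersion j']

lemma bijective_resθ (hμ : ∀ W : Y.Opens, W ≤ j.opensRange → Function.Bijective (μ.app W))
    {O : Z.Opens} (hO : O ≤ j ⁻¹ᵁ (j ''ᵁ O)) : Function.Bijective (resθ j μ hO) :=
  (bijective_res N hO (j.preimage_image_eq O).le).comp (hμ _ (j.image_le_opensRange O))

set_option maxHeartbeats 1600000 in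
set_option synthInstance.maxHeartbeats 200000 in
/-- Base change is insensitive to open immersions. -/
theorem isBC_of_square (sq : k ≫ j = j' ≫ g)
    (hμ : ∀ W : Y.Opens, W ≤ j.opensRange → Function.Bijective (μ.app W))
    (hμ' : ∀ W : X.Opens, W ≤ j'.opensRange → Function.Bijective (μ'.app W))
    {O : Z.Opens} {O' : Z'.Opens} (hle : O' ≤ k ⁻¹ᵁ O) (h : j' ''ᵁ O' ≤ g ⁻¹ᵁ (j ''ᵁ O))
    (comm : ∀ m, resθ j' μ' (j'.preimage_image_eq O').ge (resθ g θ h m) =
      resθ k η hle (resθ j μ (j.preimage_image_eq O).ge m))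
    (hbc : IsBC k η hle) : IsBC g θ h := by
  have hO := (j.preimage_image_eq O).ge
  have hO' := (j'.preimage_image_eq O').ge
  have hsq : g.appLE (j ''ᵁ O) (j' ''ᵁ O') h ≫ j'.appLE (j' ''ᵁ O') O' hO' =
      j.appLE (j ''ᵁ O) O hO ≫ k.appLE O O' hle := by
    rw [Scheme.Hom.appLE_comp_appLE, Scheme.Hom.appLE_comp_appLE]
    simp only [sq]
  have hj : Function.Bijective (j.appLE (j ''ᵁ O) O hO).hom := by
    rw [← Scheme.Hom.appIso_hom']
    exact ConcreteCategory.bijective_of_isIso (j.appIso O).hom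
  have hj' : Function.Bijective (j'.appLE (j' ''ᵁ O') O' hO').hom := by
    rw [← Scheme.Hom.appIso_hom']
    exact ConcreteCategory.bijective_of_isIso (j'.appIso O').hom
  let ε := RingEquiv.ofBijective _ hj'
  let E := AddEquiv.ofBijective (resθ j μ hO).toAddMonoidHom (bijective_resθ μ hμ hO)
  intro Q _ _ w
  letI : Module Γ(Z', O') Q := Module.compHom Q ε.symm.toRingHom
  let w' : Γ(N, O) →ₛₗ[(k.appLE O O' hle).hom] Q :=
    { toFun := fun m => w (E.symm m)
      map_add' := fun a b => by rw [map_add, map_add]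
      map_smul' := fun r m => by
        obtain ⟨c, rfl⟩ := hj.2 r
        have h1 : E.symm ((j.appLE (j ''ᵁ O) O hO).hom c • m) = c • E.symm m := by
          refine E.injective ?_
          rw [AddEquiv.apply_symm_apply]
          refine Eq.trans ?_ ((resθ j μ hO).map_smulₛₗ c (E.symm m)).symm
          exact congrArg _ (E.apply_symm_apply m).symm
        rw [h1, map_smulₛₗ w]
        have h2 : (g.appLE (j ''ᵁ O) (j' ''ᵁ O') h).hom c =
            ε.symm ((k.appLE O O' hle).hom ((j.appLE (j ''ᵁ O) O hO).hom c)) :=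
          ε.eq_symm_apply.mpr congr($(hsq) c)
        rw [h2]
        rfl }
  obtain ⟨F, hF, hFu⟩ := hbc Q w'
  have hEm : ∀ m, E m = resθ j μ hO m := fun _ => rfl
  refine ⟨
    { toFun := fun s => F (resθ j' μ' hO' s)
      map_add' := fun a b => by rw [map_add, map_add]
      map_smul' := fun c s => by
        rw [(resθ j' μ' hO').map_smulₛₗ, map_smul]
        change ε.symm (ε c) • F (resθ j' μ' hO' s) = c • F (resθ j' μ' hO' s)
        rw [RingEquiv.symm_apply_apply] }, fun m => ?_, fun F₁ hF₁ => ?_⟩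
  · change F (resθ j' μ' hO' (resθ g θ h m)) = w m
    rw [comm, hF]
    exact congrArg w (E.symm_apply_apply m)
  · let E' := AddEquiv.ofBijective (resθ j' μ' hO').toAddMonoidHom (bijective_resθ μ' hμ' hO')
    let F₂ : Γ(N', O') →ₗ[Γ(Z', O')] Q :=
      { toFun := fun t => F₁ (E'.symm t)
        map_add' := fun a b => by rw [map_add, map_add]
        map_smul' := fun r t => by
          have h1 : E'.symm (r • t) = ε.symm r • E'.symm t := by
            refine E'.injective ?_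
            rw [AddEquiv.apply_symm_apply]
            refine Eq.trans ?_ ((resθ j' μ' hO').map_smulₛₗ (ε.symm r) (E'.symm t)).symm
            exact congrArg₂ (· • ·) (ε.apply_symm_apply r).symm (E'.apply_symm_apply t).symm
          rw [h1, map_smul]
          rfl }
    have h2 : F₂ = F := hFu F₂ fun m => by
      obtain ⟨m, rfl⟩ := E.surjective m
      change F₁ (E'.symm (resθ k η hle (resθ j μ hO m))) = w (E.symm (E m))
      rw [← comm, E.symm_apply_apply]
      exact (congrArg F₁ (E'.symm_apply_apply _)).trans (hF₁ m)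
    refine LinearMap.ext fun s => ?_
    change F₁ s = F (resθ j' μ' hO' s)
    rw [← h2]
    exact congrArg F₁ (E'.symm_apply_apply s).symm

end Square

variable {S S' P P' : Scheme.{u}} {𝒮 : RelProj.QCGrAlg S} {𝒮' : RelProj.QCGrAlg S'}
  {D : Datum 𝒮} {D' : Datum 𝒮'}
  {q : P ⟶ S} {q' : P' ⟶ S'}
  {ch : ∀ (U : S.Opens) (hU : IsAffineOpen U), ((q ⁻¹ᵁ U : P.Opens) : Scheme.{u}) ≅ Proj (𝒮.deg U hU)}
  {ch' : ∀ (U : S'.Opens) (hU : IsAffineOpen U),
    ((q' ⁻¹ᵁ U : P'.Opens) : Scheme.{u}) ≅ Proj (𝒮'.deg U hU)}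
  {g : P' ⟶ P} (C : ChartMap D D' q q' ch ch' g) (n : ℤ)

set_option maxHeartbeats 1600000 in
/-- Chartwise base change makes the adjunct of the comparison an isomorphism. -/
theorem ChartMap.isIso_adjunct_of_isBC
    {F : P.Modules} {lam : ∀ (U : S.Opens) (hU : IsAffineOpen U), F ⟶ D.E q ch n U hU}
    (hF : D.IsTilde q ch n F lam) {G : P'.Modules}
    {lam' : ∀ (U : S'.Opens) (hU : IsAffineOpen U), G ⟶ D'.E q' ch' n U hU}
    (hG : D'.IsTilde q' ch' n G lam')
    (θ : F ⟶ (Scheme.Modules.pushforward g).obj G)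
    (hθ : ∀ (i : C.ι) (W : P.Opens) (s : Γ(F, W)),
      (lam' (C.U' i) (C.hU' i)).app (g ⁻¹ᵁ W) (θ.app W s) =
        C.read n i ((lam (C.U i) (C.hU i)).app W s))
    (H : ∀ (i : C.ι) (y : ProjectiveSpectrum (𝒮'.deg (C.U' i) (C.hU' i))),
      ∃ (d : ℕ) (f : 𝒮.presheaf.obj (op (C.U i))), 0 < d ∧ f ∈ 𝒮.deg (C.U i) (C.hU i) d ∧
        C.χ i f ∉ y.asHomogeneousIdeal ∧
        IsBC (Proj.map (C.χ i) (C.hirr i))
          (GrMod.comap (C.χ i) (C.hirr i) (C.v i) (C.hv i) n)
          (basicOpen_le_preimage (𝒮.deg (C.U i) (C.hU i)) (C.χ i) (C.hirr i) f)) :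
    IsIso (((Scheme.Modules.pullbackPushforwardAdjunction g).homEquiv F G).symm θ) := by
  refine isIso_adjunct g θ hF.isQCoh hG.isQCoh fun x => ?_
  obtain ⟨i, hxi⟩ := C.cover x
  obtain ⟨y, rfl⟩ := exists_point (q := q') (ch := ch') (C.U' i) (C.hU' i) hxi
  obtain ⟨d, f, hd, hf, hfy, hbc⟩ := H i y
  let E := RelProj.emb q ch (C.U i) (C.hU i)
  let E' := RelProj.emb q' ch' (C.U' i) (C.hU' i)
  let O := Proj.basicOpen (𝒮.deg (C.U i) (C.hU i)) f
  let O' := Proj.basicOpen (𝒮'.deg (C.U' i) (C.hU' i)) (C.χ i f)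
  have hle : E' ''ᵁ O' ≤ g ⁻¹ᵁ (E ''ᵁ O) := by
    rintro _ ⟨z, hz, rfl⟩
    exact ⟨ProjectiveSpectrum.comap (C.χ i) (C.hirr i) z, hz, C.emb_comap' i z⟩
  refine ⟨E ''ᵁ O, (Proj.isAffineOpen_basicOpen _ f hf hd).image_of_isOpenImmersion E,
    E' ''ᵁ O', (Proj.isAffineOpen_basicOpen _ _ ((C.χ i).map_mem hf) hd).image_of_isOpenImmersion E',
    hle, ⟨y, hfy, rfl⟩, ?_⟩
  refine isBC_of_square θ (GrMod.comap (C.χ i) (C.hirr i) (C.v i) (C.hv i) n)
    (j := E) (j' := E') (lam (C.U i) (C.hU i)) (lam' (C.U' i) (C.hU' i)) (C.square i).symm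
    (hF.bijective' _ _) (hG.bijective' _ _) _ hle (fun m => ?_) hbc
  refine til_ext fun z => ?_
  have hz2 : E'.base z.1 ∈ E' ''ᵁ O' := ⟨z.1, z.2, rfl⟩
  have hz : E'.base z.1 ∈ g ⁻¹ᵁ (E ''ᵁ O) := hle hz2
  have hz' : E.base (ProjectiveSpectrum.comap (C.χ i) (C.hirr i) z.1) ∈ E ''ᵁ O := by
    rw [C.emb_comap' i z.1]; exact hz
  refine (Datum.IsTilde.app_res (lam := lam') hle (θ.app _ m) (C.U' i) (C.hU' i) z.1 hz2).trans ?_
  exact (congrArg (fun t => GrMod.val (V := E' ⁻¹ᵁ (g ⁻¹ᵁ (E ''ᵁ O))) t ⟨z.1, hz⟩) (hθ i _ m)).trans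
    (C.val_read n i _ z.1 hz hz')

end Groth.Agent.RelTilde
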